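import Groth.Agent.EtConsAb.Triv
import Mathlib.RingTheory.Noetherian.Basic
import Mathlib.Algebra.Homology.ShortComplex.ModuleCat

/-!
# Kernels, cokernels and extensions of finite type locally constant sheaves of modules
-/

universe u

open CategoryTheory CategoryTheory.Limits AlgebraicGeometry Opposite

namespace Groth.Agent.EtConsAb

open Groth.Agent Groth.Agent.EtaleSite

variable {X : Scheme.{u}}

theorem injective_app_of_mono {F G : EtCoh.Ab X} (a : F ⟶ G) [Mono a] (U : X.Etaleᵒᵖ) :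
    Function.Injective (a.hom.app U).hom :=
  have : Mono ((sheafToPresheaf _ _ ⋙ (evaluation _ _).obj U).map a) := inferInstance
  (AddCommGrpCat.mono_iff_injective _).1 this

/-- Sections of a left exact sequence of sheaves form a left exact sequence. -/
theorem exists_lift_of_exact (S : ShortComplex (EtCoh.Ab X)) (hS : S.Exact) [Mono S.f]
    {U : X.Etale} (b : S.X₂.obj.obj (op U)) (hb : S.g.hom.app (op U) b = 0) :
    ∃ a, S.f.hom.app (op U) a = b := by
  let ev := sheafToPresheaf X.smallEtaleTopology (AddCommGrpCat.{u + 1}) ⋙ (evaluation _ _).obj (op U)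
  exact (ShortComplex.ab_exact_iff _).1
    (hS.map_of_mono_of_preservesKernel ev inferInstance inferInstance) b hb

theorem stalk_exact_apply {Ω : Type u} [Field Ω] [IsSepClosed Ω] (ξ : Spec (CommRingCat.of Ω) ⟶ X)
    (S : ShortComplex (EtCoh.Ab X)) (hS : S.Exact) (p : ↑((EtCoh.stalk ξ).obj S.X₂))
    (hp : (EtCoh.stalk ξ).map S.g p = 0) :
    ∃ q, (EtCoh.stalk ξ).map S.f q = p :=
  (ShortComplex.ab_exact_iff _).1 (hS.map (EtCoh.stalk ξ)) p hp

theorem stalk_injective_of_mono {Ω : Type u} [Field Ω] [IsSepClosed Ω]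
    (ξ : Spec (CommRingCat.of Ω) ⟶ X) {F G : EtCoh.Ab X} (a : F ⟶ G) [Mono a] :
    Function.Injective ((EtCoh.stalk ξ).map a) :=
  (mono_iff_stalk a).1 inferInstance Ω ξ

theorem stalk_surjective_of_epi {Ω : Type u} [Field Ω] [IsSepClosed Ω]
    (ξ : Spec (CommRingCat.of Ω) ⟶ X) {F G : EtCoh.Ab X} (a : F ⟶ G) [Epi a] :
    Function.Surjective ((EtCoh.stalk ξ).map a) :=
  (epi_iff_stalk a).1 inferInstance Ω ξ

/-- Finitely many germs are represented on a common neighbourhood. -/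
theorem exists_common_nbhd {k : ℕ} {U : X.Etale} {Ω : Type u} [Field Ω] [IsSepClosed Ω]
    {ξ : Spec (CommRingCat.of Ω) ⟶ X} (φ : (Scheme.pointSmallEtale ξ).fiber.obj U)
    (F : EtCoh.Ab X) (p : Fin k → ↑((EtCoh.stalk ξ).obj F)) :
    ∃ (W : X.Etale) (g : W ⟶ U) (w : (Scheme.pointSmallEtale ξ).fiber.obj W)
      (s : Fin k → F.obj.obj (op W)),
      (Scheme.pointSmallEtale ξ).fiber.map g w = φ ∧ ∀ i, germ ξ F W w (s i) = p i := by
  induction k with
  | zero => exact ⟨U, 𝟙 U, φ, Fin.elim0, congrArg (fun k => k φ) ((Scheme.pointSmallEtale ξ).fiber.map_id U),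
      fun i => i.elim0⟩
  | succ k ih =>
    obtain ⟨W, g, w, s, hw, hs⟩ := ih (fun i => p i.succ)
    obtain ⟨V, h, v, t, hv, ht⟩ := exists_germ_eq_refine w F (p 0)
    refine ⟨V, h ≫ g, v, Fin.cons t fun i => F.obj.map h.op (s i), by rw [fiber_map_comp, hv, hw], ?_⟩
    refine Fin.cases ?_ fun i => ?_
    · simpa using ht
    · rw [Fin.cons_succ, germ_res, hv]
      exact hs i

/-- Kernels of maps of finite type locally constant sheaves are finite type locally constant. -/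
theorem isFLC_kernel {F G : EtCoh.Ab X} (a : F ⟶ G) (hF : EtCoh.IsFiniteLocallyConstant F)
    (hG : EtCoh.IsFiniteLocallyConstant G) : EtCoh.IsFiniteLocallyConstant (kernel a) := by
  refine isFLC_of_isTriv fun Ω _ _ ξ => ?_
  obtain ⟨U, φ, M, _, _, m, hm⟩ := exists_isTriv hF ξ
  obtain ⟨V, ψ, N, _, _, n, hn⟩ := exists_isTriv hG ξ
  obtain ⟨W, w, m', n', h, hm', hn', hh⟩ := exists_linearMap a hm hn φ ψ
  let ι := ((kernel.ι a).hom.app (op W)).hom
  have hι : Function.Injective ι := injective_app_of_mono (kernel.ι a) (op W)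
  have hran : ∀ x : AddMonoidHom.ker h, m' x.1 ∈ AddMonoidHom.range ι := fun x =>
    exists_lift_of_exact (ShortComplex.mk (kernel.ι a) a (kernel.condition a))
      (ShortComplex.exact_of_f_is_kernel _ (kernelIsKernel a)) (U := W) (m' x.1) (by
        show a.hom.app (op W) (m' x.1) = 0
        rw [hh, x.2, map_zero])
  let mK : AddMonoidHom.ker h →+ (kernel a).obj.obj (op W) :=
    (AddMonoidHom.ofInjective hι).symm.toAddMonoidHom.comp
      ((m'.comp (AddMonoidHom.ker h).subtype).codRestrict (AddMonoidHom.range ι) hran)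
  have hmK : ∀ x, ι (mK x) = m' x.1 := fun x =>
    congrArg Subtype.val ((AddMonoidHom.ofInjective hι).apply_symm_apply ⟨m' x.1, hran x⟩)
  refine ⟨W, w, AddMonoidHom.ker h, inferInstance, inferInstance, mK,
    fun Ω' _ _ ξ' φ' => ?_⟩
  have hg : ∀ x, (EtCoh.stalk ξ').map (kernel.ι a) (germ ξ' _ W φ' (mK x)) =
      germ ξ' F W φ' (m' x.1) := fun x => by
    rw [germ_naturality]
    exact congrArg _ (hmK x)
  refine ⟨fun x y e => ?_, fun p => ?_⟩
  · refine Subtype.ext ((hm' Ω' ξ' φ').1 ?_)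
    show germ ξ' F W φ' (m' x.1) = germ ξ' F W φ' (m' y.1)
    rw [← hg, ← hg]
    exact congrArg _ e
  · obtain ⟨x, hx⟩ := (hm' Ω' ξ' φ').2 ((EtCoh.stalk ξ').map (kernel.ι a) p)
    have h0 : germ ξ' G W φ' (n' (h x)) = germ ξ' G W φ' (n' 0) := by
      rw [← hh, ← germ_naturality, map_zero, map_zero]
      refine (congrArg _ hx).trans ?_
      rw [← ConcreteCategory.comp_apply, ← Functor.map_comp, kernel.condition, Functor.map_zero]
      rfl
    refine ⟨⟨x, (hn' Ω' ξ' φ').1 h0⟩, stalk_injective_of_mono ξ' (kernel.ι a) ?_⟩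
    exact (hg _).trans hx

/-- Cokernels of maps of finite type locally constant sheaves are finite type locally constant. -/
theorem isFLC_cokernel {F G : EtCoh.Ab X} (a : F ⟶ G) (hF : EtCoh.IsFiniteLocallyConstant F)
    (hG : EtCoh.IsFiniteLocallyConstant G) : EtCoh.IsFiniteLocallyConstant (cokernel a) := by
  refine isFLC_of_isTriv fun Ω _ _ ξ => ?_
  obtain ⟨U, φ, M, _, _, m, hm⟩ := exists_isTriv hF ξ
  obtain ⟨V, ψ, N, _, _, n, hn⟩ := exists_isTriv hG ξ
  obtain ⟨W, w, m', n', h, hm', hn', hh⟩ := exists_linearMap a hm hn φ ψ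
  let π := ((cokernel.π a).hom.app (op W)).hom
  have hle : AddMonoidHom.range h ≤ AddMonoidHom.ker (π.comp n') := by
    rintro _ ⟨x, rfl⟩
    show π (n' (h x)) = 0
    rw [← hh]
    exact congrArg (fun k => k.hom.app (op W) (m' x)) (cokernel.condition a)
  refine ⟨W, w, N ⧸ AddMonoidHom.range h, inferInstance, inferInstance,
    QuotientAddGroup.lift (AddMonoidHom.range h) (π.comp n') hle, fun Ω' _ _ ξ' φ' => ?_⟩
  have hg : ∀ y, germ ξ' _ W φ' (QuotientAddGroup.lift (AddMonoidHom.range h) (π.comp n') hle (QuotientAddGroup.mk y)) =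
      (EtCoh.stalk ξ').map (cokernel.π a) (germ ξ' G W φ' (n' y)) := fun y =>
    (germ_naturality ξ' _ W φ' (n' y)).symm
  refine ⟨fun x y e => ?_, fun p => ?_⟩
  · obtain ⟨x, rfl⟩ := QuotientAddGroup.mk_surjective x
    obtain ⟨y, rfl⟩ := QuotientAddGroup.mk_surjective y
    refine QuotientAddGroup.eq_iff_sub_mem.2 ?_
    have e' : (EtCoh.stalk ξ').map (cokernel.π a) (germ ξ' G W φ' (n' (x - y))) = 0 := by
      rw [map_sub, map_sub, map_sub, ← hg, ← hg]
      exact sub_eq_zero.2 e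
    obtain ⟨q, hq⟩ := stalk_exact_apply ξ' (ShortComplex.mk a (cokernel.π a) (cokernel.condition a))
      (ShortComplex.exact_of_g_is_cokernel _ (cokernelIsCokernel a)) _ e'
    obtain ⟨z, rfl⟩ := (hm' Ω' ξ' φ').2 q
    refine ⟨z, (hn' Ω' ξ' φ').1 ?_⟩
    show germ ξ' G W φ' (n' (h z)) = germ ξ' G W φ' (n' (x - y))
    rw [← hh, ← germ_naturality]
    exact hq
  · obtain ⟨q, rfl⟩ := stalk_surjective_of_epi ξ' (cokernel.π a) p
    obtain ⟨y, rfl⟩ := (hn' Ω' ξ' φ').2 q
    exact ⟨QuotientAddGroup.mk y, hg y⟩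

/-- Extensions of finite type locally constant sheaves are finite type locally constant. -/
theorem isFLC_extension (S : ShortComplex (EtCoh.Ab X)) (hS : S.ShortExact)
    (h₁ : EtCoh.IsFiniteLocallyConstant S.X₁) (h₃ : EtCoh.IsFiniteLocallyConstant S.X₃) :
    EtCoh.IsFiniteLocallyConstant S.X₂ := by
  refine isFLC_of_isTriv fun Ω _ _ ξ => ?_
  have := hS.mono_f
  have := hS.epi_g
  obtain ⟨U₁, φ₁, M, _, _, mA, hmA⟩ := exists_isTriv h₁ ξ
  obtain ⟨U₃, φ₃, N, _, _, mC, hmC⟩ := exists_isTriv h₃ ξ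
  obtain ⟨U, φ, p₁, p₃, -, -⟩ := exists_refine φ₁ φ₃
  have hA := hmA.restrict p₁
  have hC := hmC.restrict p₃
  generalize (S.X₁.obj.map p₁.op).hom.comp mA = mA' at hA
  generalize (S.X₃.obj.map p₃.op).hom.comp mC = mC' at hC
  obtain ⟨k, ⟨cN⟩⟩ : ∃ k : ℕ, Nonempty (Fin k ≃ N) := ⟨_, ⟨(Finite.equivFin N).symm⟩⟩
  let c : Fin k → N := cN
  choose t ht using fun j => stalk_surjective_of_epi ξ S.g (germ ξ S.X₃ U φ (mC' (c j)))
  obtain ⟨W, g, w, b, hw, hb⟩ := exists_common_nbhd φ S.X₂ t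
  have hA₁ := hA.restrict g
  have hC₁ := hC.restrict g
  obtain ⟨W₂, g₂, w₂, hw₂, hW₂⟩ := exists_nbhd_eq_of_finite S.X₃ w
    (fun j => S.g.hom.app (op W) (b j)) (fun j => S.X₃.obj.map g.op (mC' (c j))) fun j => by
      rw [← germ_naturality, hb, ht, germ_res, hw]
  have hA₂ := hA₁.restrict g₂
  have hC₂ := hC₁.restrict g₂
  generalize (S.X₁.obj.map g₂.op).hom.comp ((S.X₁.obj.map g.op).hom.comp mA') = a₂ at hA₂
  let c₂ := (S.X₃.obj.map g₂.op).hom.comp ((S.X₃.obj.map g.op).hom.comp mC')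
  let q : (Fin k → ℤ) →+ N := (Fintype.linearCombination ℤ c).toAddMonoidHom
  have hq : Function.Surjective q := fun y => ⟨Pi.single (cN.symm y) 1,
    (Fintype.linearCombination_apply_single ℤ c _ _).trans ((one_smul _ _).trans (cN.apply_symm_apply y))⟩
  let L : (Fin k → ℤ) →+ S.X₂.obj.obj (op W₂) :=
    (Fintype.linearCombination ℤ fun j => S.X₂.obj.map g₂.op (b j)).toAddMonoidHom
  have hL : (S.g.hom.app (op W₂)).hom.comp L = c₂.comp q := by
    refine AddMonoidHom.functions_ext (I := Fin k) (M := fun _ => ℤ) _ _ _ fun j z => ?_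
    simp only [AddMonoidHom.comp_apply, L, q, LinearMap.toAddMonoidHom_coe, Fintype.linearCombination_apply_single,
      map_zsmul]
    exact congrArg _ ((NatTrans.naturality_apply S.g.hom g₂.op (b j)).trans (hW₂ j))
  let L' : M × (Fin k → ℤ) →+ S.X₂.obj.obj (op W₂) :=
    ((S.f.hom.app (op W₂)).hom.comp a₂).coprod L
  have hgf : ∀ (V : X.Etaleᵒᵖ) z, S.g.hom.app V (S.f.hom.app V z) = 0 := fun V z =>
    congrArg (fun k => k.hom.app V z) S.zero
  have hgL : ∀ z, S.g.hom.app (op W₂) (L' z) = c₂ (q z.2) := fun z => by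
    rw [AddMonoidHom.coprod_apply, map_add]
    refine (congrArg₂ (· + ·) (hgf _ _) (DFunLike.congr_fun hL z.2)).trans (zero_add _)
  let K₀ : AddSubgroup (M × (Fin k → ℤ)) := AddMonoidHom.ker ((germ ξ S.X₂ W₂ w₂).hom.comp L')
  haveI : Finite M := inferInstance
  haveI : Module.Finite ℤ M := Module.Finite.of_finite
  obtain ⟨r, e, he'⟩ := Submodule.fg_iff_exists_fin_generating_family.1
    (IsNoetherian.noetherian (AddSubgroup.toIntSubmodule K₀))
  have he : AddSubgroup.closure (Set.range e) = K₀ := by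
    apply AddSubgroup.toIntSubmodule.injective
    rw [← he', AddSubgroup.toIntSubmodule_closure]
  obtain ⟨W₃, g₃, w₃, -, hW₃⟩ := exists_nbhd_eq_of_finite S.X₂ w₂ (fun i => L' (e i)) (fun _ => 0)
    fun i => by
      rw [map_zero]
      exact (he ▸ AddSubgroup.subset_closure ⟨i, rfl⟩ : e i ∈ K₀)
  let L₃ := (S.X₂.obj.map g₃.op).hom.comp L'
  have hK₀ : K₀ ≤ AddMonoidHom.ker L₃ := by
    rw [← he, AddSubgroup.closure_le]
    rintro _ ⟨i, rfl⟩
    exact (hW₃ i).trans (map_zero _)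
  haveI : Finite ↑((EtCoh.stalk ξ).obj S.X₂) := by
    refine (AddMonoidHom.finite_iff_finite_ker_range ((EtCoh.stalk ξ).map S.g).hom).2 ⟨?_, ?_⟩
    · haveI := finite_stalk h₁ ξ
      refine (Set.Finite.subset (Set.finite_range ((EtCoh.stalk ξ).map S.f)) fun p hp => ?_).to_subtype
      exact stalk_exact_apply ξ S hS.exact p hp
    · haveI := finite_stalk h₃ ξ
      infer_instance
  haveI : Finite ((M × (Fin k → ℤ)) ⧸ K₀) :=
    Finite.of_injective _ (QuotientAddGroup.kerLift_injective ((germ ξ S.X₂ W₂ w₂).hom.comp L'))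
  refine ⟨W₃, w₃, (M × (Fin k → ℤ)) ⧸ K₀, inferInstance, inferInstance,
    QuotientAddGroup.lift K₀ L₃ hK₀, fun Ω' _ _ ξ' φ' => ?_⟩
  let φ'' := (Scheme.pointSmallEtale ξ').fiber.map g₃ φ'
  have hg : ∀ z, germ ξ' _ W₃ φ' (QuotientAddGroup.lift K₀ L₃ hK₀ (QuotientAddGroup.mk z)) =
      germ ξ' S.X₂ W₂ φ'' (L' z) := fun z => germ_res ξ' S.X₂ g₃ φ' (L' z)
  refine ⟨fun x y e => ?_, fun p => ?_⟩
  · obtain ⟨x, rfl⟩ := QuotientAddGroup.mk_surjective x
    obtain ⟨y, rfl⟩ := QuotientAddGroup.mk_surjective y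
    refine QuotientAddGroup.eq_iff_sub_mem.2 ?_
    have e' : germ ξ' S.X₂ W₂ φ'' (L' (x - y)) = 0 := by
      rw [map_sub, map_sub, ← hg, ← hg]
      exact sub_eq_zero.2 e
    generalize x - y = xy at e' ⊢
    obtain ⟨z, v⟩ := xy
    have hqv : q v = 0 := by
      apply (hC₂ Ω' ξ' φ'').1
      show germ ξ' S.X₃ W₂ φ'' (c₂ (q v)) = germ ξ' S.X₃ W₂ φ'' (c₂ 0)
      rw [← hgL (z, v), map_zero, map_zero, ← germ_naturality, e', map_zero]
    obtain ⟨o, ho⟩ := stalk_exact_apply ξ S hS.exact (germ ξ S.X₂ W₂ w₂ (L' (0, v))) (by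
      rw [germ_naturality, hgL, hqv, map_zero, map_zero])
    obtain ⟨z₀, rfl⟩ := (hA₂ Ω ξ w₂).2 o
    have hmem : ((-z₀ : M), v) ∈ K₀ := by
      show germ ξ S.X₂ W₂ w₂ (L' (-z₀, v)) = 0
      have : ((-z₀ : M), v) = ((0 : M), v) - (z₀, 0) := by simp
      rw [this, map_sub, map_sub, sub_eq_zero, ← ho, germ_naturality]
      simp [L']
    have h0 : germ ξ' S.X₂ W₂ φ'' (L' (-z₀, v)) = 0 :=
      (hg _).symm.trans (((congrArg _ (congrArg _ ((QuotientAddGroup.eq_zero_iff _).2 hmem))).trans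
        ((congrArg _ (map_zero _)).trans (map_zero _))))
    have hz : z + z₀ = 0 := by
      apply (hA₂ Ω' ξ' φ'').1
      refine stalk_injective_of_mono ξ' S.f ?_
      rw [germ_naturality, germ_naturality, map_zero, map_zero, map_zero]
      have : L' (z, v) - L' (-z₀, v) = S.f.hom.app (op W₂) (a₂ (z + z₀)) := by
        rw [← map_sub]; simp [L', map_add]
      rw [← this, map_sub, e', h0, sub_zero]
    rwa [eq_neg_of_add_eq_zero_left hz]
  · obtain ⟨y, hy⟩ := (hC₂ Ω' ξ' φ'').2 ((EtCoh.stalk ξ').map S.g p)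
    obtain ⟨v, rfl⟩ := hq y
    obtain ⟨o, ho⟩ := stalk_exact_apply ξ' S hS.exact (p - germ ξ' S.X₂ W₂ φ'' (L' (0, v))) (by
      rw [map_sub, germ_naturality, hgL, sub_eq_zero]
      exact hy.symm)
    obtain ⟨z, rfl⟩ := (hA₂ Ω' ξ' φ'').2 o
    refine ⟨QuotientAddGroup.mk (z, v), (hg _).trans ?_⟩
    rw [germ_naturality] at ho
    rw [show ((z : M), v) = ((z : M), (0 : Fin k → ℤ)) + (0, v) by simp, map_add, map_add,
      ← eq_sub_iff_add_eq, ← ho]
    simp [L']

end Groth.Agent.EtConsAb
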