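import Groth.Agent.EtConsAb.Constructible
import Groth.Agent.EtConsAb.Serre
import Groth.Agent.EtaleSite.Clopen
import Groth.Agent.EtaleSite.PushIntegral
import Mathlib.AlgebraicGeometry.Morphisms.Immersion

/-!
# Descent of finite type local constancy along immersions
-/

universe u

open CategoryTheory CategoryTheory.Limits AlgebraicGeometry Opposite

namespace Groth.Agent.EtConsAb

open Groth.Agent Groth.Agent.EtaleSite

variable {T X : Scheme.{u}}

/-- Morphisms of the small étale site are étale. -/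
theorem etale_left {V U : X.Etale} (a : V ⟶ U) : Etale a.left := by
  haveI : Etale U.hom := U.prop
  haveI : Etale (a.left ≫ U.hom) := by
    rw [MorphismProperty.Over.w a]
    exact V.prop
  exact Etale.of_comp a.left U.hom

/-- A point whose image lies in the image of an étale morphism lifts along it. -/
theorem exists_fiber_lift {V U : X.Etale} (a : V ⟶ U) {Ω : Type u} [Field Ω] [IsSepClosed Ω]
    {ξ : Spec (CommRingCat.of Ω) ⟶ X} (φ : (Scheme.pointSmallEtale ξ).fiber.obj U) (v : V.left)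
    (hv : a.left v = φ.left (default : Spec (CommRingCat.of Ω))) :
    ∃ ψ : (Scheme.pointSmallEtale ξ).fiber.obj V, (Scheme.pointSmallEtale ξ).fiber.map a ψ = φ := by
  haveI := etale_left a
  obtain ⟨l, h₁, -⟩ := Scheme.exists_fac_of_etale_of_isSepClosed a.left φ.left v hv
  refine ⟨(Over.homMk l ?_ : Over.mk ξ ⟶ (Scheme.Etale.forget X).obj V), Over.OverMorphism.ext h₁⟩
  show l ≫ V.hom = ξ
  rw [← MorphismProperty.Over.w a, ← Category.assoc, h₁]
  exact Over.w φ

variable (g : T ⟶ X)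

theorem pullSect_res (G : EtCoh.Ab X) {V U : X.Etale} (e : V ⟶ U) (s : G.obj.obj (op U)) :
    pullSect g G V (G.obj.map e.op s) =
      ((EtCoh.pull g).obj G).obj.map ((EtCoh.bc g).map e).op (pullSect g G U s) :=
  NatTrans.naturality_apply (((EtCoh.pullPushAdj g).unit.app G).hom) e.op s

theorem fiberBc_map {V U : X.Etale} (e : V ⟶ U) {Ω : Type u} [Field Ω] [IsSepClosed Ω]
    (η : Spec (CommRingCat.of Ω) ⟶ T) (φ : (Scheme.pointSmallEtale (η ≫ g)).fiber.obj V) :
    (Scheme.pointSmallEtale η).fiber.map ((EtCoh.bc g).map e) (EtaleSite.fiberBcEquiv g η V φ) =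
      EtaleSite.fiberBcEquiv g η U ((Scheme.pointSmallEtale (η ≫ g)).fiber.map e φ) :=
  (congrArg (fun k => k φ) ((EtaleSite.fiberBcIso g η).hom.naturality e)).symm

theorem isEmbedding_fst [IsPreimmersion g] (V : X.Etale) :
    Topology.IsEmbedding (pullback.fst V.hom g) :=
  haveI : IsPreimmersion (pullback.fst V.hom g) := MorphismProperty.pullback_fst _ _ inferInstance
  (pullback.fst V.hom g).isEmbedding

/-- Equalities of germs between pulled back sections spread out on the base. -/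
theorem exists_nbhd_pullSect_eq [IsPreimmersion g] {ι : Type*} [Finite ι] (G : EtCoh.Ab X)
    {V : X.Etale} {Ω : Type u} [Field Ω] [IsSepClosed Ω] {η : Spec (CommRingCat.of Ω) ⟶ T}
    (φ : (Scheme.pointSmallEtale (η ≫ g)).fiber.obj V) (s : ι → G.obj.obj (op V))
    (t : ι → ((EtCoh.pull g).obj G).obj.obj (op ((EtCoh.bc g).obj V)))
    (h : ∀ i, germ η _ _ (EtaleSite.fiberBcEquiv g η V φ) (pullSect g G V (s i)) =
      germ η _ _ (EtaleSite.fiberBcEquiv g η V φ) (t i)) :
    ∃ (V' : X.Etale) (e : V' ⟶ V) (φ' : (Scheme.pointSmallEtale (η ≫ g)).fiber.obj V'),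
      (Scheme.pointSmallEtale (η ≫ g)).fiber.map e φ' = φ ∧ ∀ i, pullSect g G V' (G.obj.map e.op (s i)) =
        ((EtCoh.pull g).obj G).obj.map ((EtCoh.bc g).map e).op (t i) := by
  obtain ⟨W, a, w, hw, hW⟩ := exists_nbhd_eq_of_finite ((EtCoh.pull g).obj G)
    (EtaleSite.fiberBcEquiv g η V φ) (fun i => pullSect g G V (s i)) t h
  haveI := etale_left a
  have hopen : IsOpen (Set.range a.left) := a.left.isOpenMap.isOpen_range
  obtain ⟨O, hO, hOa⟩ := ((isEmbedding_fst g V).isInducing.isOpen_iff (s := Set.range a.left)).1 hopen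
  let O' : V.left.Opens := ⟨O, hO⟩
  let e : EtaleSite.piece V O' ⟶ V := EtaleSite.pieceHom V O'
  have hφO : φ.left (default : Spec (CommRingCat.of Ω)) ∈ O := by
    have h2 : (EtaleSite.fiberBcEquiv g η V φ).left (default : Spec (CommRingCat.of Ω)) ∈
        Set.range a.left :=
      ⟨w.left (default : Spec (CommRingCat.of Ω)),
        congrArg (fun k => k (default : Spec (CommRingCat.of Ω))) (congrArg (fun k => k.left) hw)⟩
    have h3 : pullback.fst V.hom g ((EtaleSite.fiberBcEquiv g η V φ).left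
        (default : Spec (CommRingCat.of Ω))) = φ.left (default : Spec (CommRingCat.of Ω)) :=
      congrArg (fun k : Spec (CommRingCat.of Ω) ⟶ V.left => k (default : Spec (CommRingCat.of Ω)))
        (pullback.lift_fst φ.left η (Over.w φ))
    exact h3 ▸ (Set.ext_iff.1 hOa _).2 h2
  obtain ⟨φ', hφ'⟩ := exists_fiber_lift e φ ⟨_, hφO⟩ rfl
  refine ⟨_, e, φ', hφ', fun i => ?_⟩
  rw [pullSect_res]
  refine sect_ext _ _ fun Ω' _ _ ζ ψ => ?_
  rw [germ_res, germ_res]
  have hmem : ((Scheme.pointSmallEtale ζ).fiber.map ((EtCoh.bc g).map e) ψ).left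
      (default : Spec (CommRingCat.of Ω')) ∈ Set.range a.left := by
    refine (Set.ext_iff.1 hOa _).1 ?_
    show pullback.fst V.hom g (((EtCoh.bc g).map e).left (ψ.left (default : Spec (CommRingCat.of Ω')))) ∈ O
    exact (congrArg (· ∈ O) (congrArg (fun k : ((EtCoh.bc g).obj (EtaleSite.piece V O')).left ⟶ V.left =>
      k (ψ.left (default : Spec (CommRingCat.of Ω')))) (EtCoh.isPullback_bc_map g e).w)).mpr
        (pullback.fst (EtaleSite.piece V O').hom g (ψ.left (default : Spec (CommRingCat.of Ω')))).2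
  obtain ⟨v, hv⟩ := hmem
  obtain ⟨χ, hχ⟩ := exists_fiber_lift a _ v hv
  rw [← hχ, ← germ_res, ← germ_res, hW i]

/-- Pulling back sections is injective over the image. -/
theorem injective_pullSect [IsImmersion g] (G : EtCoh.Ab X) {V : X.Etale}
    (hV : Set.range V.hom ⊆ Set.range g) : Function.Injective (pullSect g G V) := by
  intro s s' h
  refine sect_ext s s' fun Ω _ _ ξ φ => ?_
  obtain ⟨t, ht⟩ := hV ⟨φ.left (default : Spec (CommRingCat.of Ω)),
    congrArg (fun k : Spec (CommRingCat.of Ω) ⟶ X => k (default : Spec (CommRingCat.of Ω))) (Over.w φ)⟩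
  obtain ⟨η, rfl⟩ := exists_lift_of_isImmersion g ξ t ht
  refine (ConcreteCategory.bijective_of_isIso ((stalkPullIso g η).inv.app G)).1 ?_
  rw [← germ_pullSect g η G V φ s, ← germ_pullSect g η G V φ s', h]

/-- The descent step for trivialisations along an immersion. -/
theorem exists_isTriv_of_pull [IsImmersion g] (G : EtCoh.Ab X)
    (hG : EtCoh.IsFiniteLocallyConstant ((EtCoh.pull g).obj G))
    {Ω : Type u} [Field Ω] [IsSepClosed Ω] (η : Spec (CommRingCat.of Ω) ⟶ T)
    (hV : ∀ (W : T.Etale) (w : (Scheme.pointSmallEtale η).fiber.obj W),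
      ∃ (V : X.Etale) (_ : (Scheme.pointSmallEtale (η ≫ g)).fiber.obj V),
        Set.range V.hom ⊆ Set.range g ∧ Nonempty ((EtCoh.bc g).obj V ⟶ W)) :
    ∃ (V : X.Etale) (_ : (Scheme.pointSmallEtale (η ≫ g)).fiber.obj V) (M : Type (u + 1))
      (_ : AddCommGroup M) (_ : Finite M) (m : M →+ G.obj.obj (op V)),
      IsTriv G V M m := by
  obtain ⟨W, w, M, _, _, m, hm⟩ := exists_isTriv hG η
  obtain ⟨V, φ, hVr, ⟨c⟩⟩ := hV W w
  have hm₁ := hm.restrict c
  generalize (((EtCoh.pull g).obj G).obj.map c.op).hom.comp m = m₁ at hm₁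
  obtain ⟨k, ⟨xe⟩⟩ : ∃ k : ℕ, Nonempty (Fin k ≃ M) := ⟨_, ⟨(Finite.equivFin M).symm⟩⟩
  let x : Fin k → M := xe
  let φT := EtaleSite.fiberBcEquiv g η V φ
  choose p hp using fun j => (ConcreteCategory.bijective_of_isIso
    ((stalkPullIso g η).inv.app G)).2 (germ η _ _ φT (m₁ (x j)))
  obtain ⟨V₁, e₁, φ₁, s, hφ₁, hs⟩ := exists_common_nbhd φ G p
  have hm₂ := hm₁.restrict ((EtCoh.bc g).map e₁)
  obtain ⟨V₂, e₂, φ₂, hφ₂, h₂⟩ := exists_nbhd_pullSect_eq g G φ₁ s
    (fun j => ((EtCoh.pull g).obj G).obj.map ((EtCoh.bc g).map e₁).op (m₁ (x j))) fun j => by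
      rw [germ_pullSect, hs, hp, germ_res, fiberBc_map, hφ₁]
  have hm₃ := hm₂.restrict ((EtCoh.bc g).map e₂)
  generalize hm₃eq : (((EtCoh.pull g).obj G).obj.map ((EtCoh.bc g).map e₂).op).hom.comp
    ((((EtCoh.pull g).obj G).obj.map ((EtCoh.bc g).map e₁).op).hom.comp m₁) = m₃ at hm₃
  have hVr₂ : Set.range V₂.hom ⊆ Set.range g := by
    refine Set.Subset.trans ?_ hVr
    rintro _ ⟨v, rfl⟩
    exact ⟨(e₂ ≫ e₁).left v, congrArg (fun k : V₂.left ⟶ X => k v) (MorphismProperty.Over.w (e₂ ≫ e₁))⟩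
  have hinj := injective_pullSect g G hVr₂
  have hran : ∀ z, m₃ z ∈ AddMonoidHom.range (pullSect g G V₂) := by
    intro z
    obtain ⟨j, rfl⟩ := xe.surjective z
    exact ⟨G.obj.map e₂.op (s j), (h₂ j).trans (congrArg (fun k => k (x j)) hm₃eq)⟩
  let m' : M →+ G.obj.obj (op V₂) :=
    (AddMonoidHom.ofInjective hinj).symm.toAddMonoidHom.comp (AddMonoidHom.codRestrict m₃ _ hran)
  have hm' : ∀ z, pullSect g G V₂ (m' z) = m₃ z := fun z =>
    congrArg Subtype.val ((AddMonoidHom.ofInjective hinj).apply_symm_apply ⟨m₃ z, hran z⟩)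
  refine ⟨V₂, φ₂, M, inferInstance, inferInstance, m', fun Ω' _ _ ξ' ψ => ?_⟩
  obtain ⟨t, ht⟩ := hVr₂ ⟨ψ.left (default : Spec (CommRingCat.of Ω')),
    congrArg (fun k : Spec (CommRingCat.of Ω') ⟶ X => k (default : Spec (CommRingCat.of Ω'))) (Over.w ψ)⟩
  obtain ⟨η', rfl⟩ := exists_lift_of_isImmersion g ξ' t ht
  have hc : (fun z => germ η' _ _ (EtaleSite.fiberBcEquiv g η' V₂ ψ) (m₃ z)) =
      (stalkPullIso g η').inv.app G ∘ fun z => germ (η' ≫ g) G V₂ ψ (m' z) := by
    funext z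
    rw [← hm' z]
    exact germ_pullSect g η' G V₂ ψ (m' z)
  have h3 := hm₃ Ω' η' (EtaleSite.fiberBcEquiv g η' V₂ ψ)
  rw [hc] at h3
  exact (Function.Bijective.of_comp_iff'
    (ConcreteCategory.bijective_of_isIso ((stalkPullIso g η').inv.app G)) _).1 h3

/-- Local constancy of finite type descends along surjective closed immersions. -/
theorem isFLC_of_pull_closed [IsClosedImmersion g] [Surjective g] (G : EtCoh.Ab X)
    (hG : EtCoh.IsFiniteLocallyConstant ((EtCoh.pull g).obj G)) : EtCoh.IsFiniteLocallyConstant G := by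
  refine isFLC_of_isTriv fun Ω _ _ ξ => ?_
  obtain ⟨t, ht⟩ := g.surjective (ξ default)
  obtain ⟨η, rfl⟩ := exists_lift_of_isImmersion g ξ t ht
  refine exists_isTriv_of_pull g G hG η fun W w => ?_
  haveI : Etale W.hom := W.prop
  obtain ⟨V, ⟨v, hv⟩, h, hh⟩ := EtaleSite.exists_nbhd_factor g W.hom ((η ≫ g) default) fun x hx => by
    have hx' : x = η default := g.isClosedEmbedding.injective (hx.trans (Scheme.Hom.comp_apply _ _ _))
    exact ⟨w.left (default : Spec (CommRingCat.of Ω)), (congrArg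
      (fun k : Spec (CommRingCat.of Ω) ⟶ T => k (default : Spec (CommRingCat.of Ω))) (Over.w w)).trans hx'.symm⟩
  obtain ⟨φ, -⟩ := EtaleSite.exists_fiber_point (η ≫ g) V v hv
  exact ⟨V, φ, fun x _ => g.surjective x, ⟨MorphismProperty.Over.homMk h hh trivial⟩⟩

/-- Local constancy of finite type is local for open immersions. -/
theorem isFLC_of_openCover {ι : Type*} {S : ι → Scheme.{u}} (j : ∀ i, S i ⟶ X)
    [∀ i, IsOpenImmersion (j i)] (hc : (⋃ i, Set.range (j i)) = Set.univ) (G : EtCoh.Ab X)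
    (hG : ∀ i, EtCoh.IsFiniteLocallyConstant ((EtCoh.pull (j i)).obj G)) : EtCoh.IsFiniteLocallyConstant G := by
  refine isFLC_of_isTriv fun Ω _ _ ξ => ?_
  obtain ⟨i, t, ht⟩ := Set.mem_iUnion.1 (hc.ge (Set.mem_univ (ξ default)))
  obtain ⟨η, rfl⟩ := exists_lift_of_isImmersion (j i) ξ t ht
  refine exists_isTriv_of_pull (j i) G (hG i) η fun W w => ?_
  haveI : Etale W.hom := W.prop
  let V : X.Etale := Scheme.Etale.mk (W.hom ≫ j i)
  refine ⟨V, (Over.homMk w.left ((Category.assoc _ _ _).symm.trans (congrArg (· ≫ j i) (Over.w w))) :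
    Over.mk (η ≫ j i) ⟶ (Scheme.Etale.forget X).obj V), ?_, ⟨MorphismProperty.Over.homMk
      (pullback.fst V.hom (j i)) ?_ trivial⟩⟩
  · rintro _ ⟨v, rfl⟩
    exact ⟨W.hom v, (Scheme.Hom.comp_apply _ _ _).symm⟩
  · refine (cancel_mono (j i)).1 ?_
    exact (Category.assoc _ _ _).trans pullback.condition

/-- A sheaf which is finite type locally constant on a stratum is so on any open inside it. -/
theorem isFLC_pull_opens [IsImmersion g] (O : X.Opens) (hO : (O : Set X) ⊆ Set.range g)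
    (G : EtCoh.Ab X) (hG : EtCoh.IsFiniteLocallyConstant ((EtCoh.pull g).obj G)) :
    EtCoh.IsFiniteLocallyConstant ((EtCoh.pull O.ι).obj G) := by
  let p := pullback.fst O.ι g
  haveI : Surjective p := ⟨fun x => by
    obtain ⟨t, ht⟩ := hO x.2
    obtain ⟨z, hz, -⟩ := Scheme.Pullback.exists_preimage_pullback (f := O.ι) (g := g) x t ht.symm
    exact ⟨z, hz⟩⟩
  haveI : IsClosedImmersion p := IsClosedImmersion.of_isPreimmersion p (by
    rw [p.surjective.range_eq]; exact isClosed_univ)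
  refine isFLC_of_pull_closed p _ (isFLC_of_iso ?_
    (isFLC_pull_comp g (pullback.snd O.ι g) hG))
  exact (pullCongr pullback.condition.symm).app G ≪≫ ((pullComp O.ι p).app G).symm

end Groth.Agent.EtConsAb
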