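import Groth.Agent.EtConsAb.PullVal
import Groth.Agent.EtConsAb.Descend
import Groth.Agent.EtaleSite.Recollement

/-!
# Lifting a section of `i_* i⁻¹F` on schemes over the base

For a closed immersion `i : Z ⟶ X` and a global section `t` of `i_* i⁻¹F`, a section `s` of `F`
pulled back to `w : W ⟶ X` lifts `t` if it has the value of `t` at every geometric point over `Z`.
Lifts on universally closed `W` are unique if every nonempty closed subset of `X` meets `Z`.
-/

set_option autoImplicit false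
set_option linter.style.haveILetI false
set_option backward.isDefEq.respectTransparency false

universe u

open CategoryTheory CategoryTheory.Limits AlgebraicGeometry Opposite

noncomputable section

namespace Groth.Agent.EtConsAb.GabberLift

open Groth.Agent Groth.Agent.EtaleSite Groth.Agent.EtConsAb.PullVal

section EqLocus

variable {X : Scheme.{u}} {G : EtCoh.Ab X} {U : X.Etale} (a b : G.obj.obj (op U))

/-- Where two sections agree locally. -/
def eqLocus : Set U.left :=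
  ⋃ (V : X.Etale) (g : V ⟶ U) (_ : G.obj.map g.op a = G.obj.map g.op b), Set.range g.left

theorem isOpen_eqLocus : IsOpen (eqLocus a b) :=
  isOpen_iUnion fun _ => isOpen_iUnion fun g => isOpen_iUnion fun _ =>
    haveI := etale_left g
    g.left.isOpenMap.isOpen_range

variable {a b}

theorem mem_eqLocus {Ω : Type u} [Field Ω] [IsSepClosed Ω] {ξ : Spec (CommRingCat.of Ω) ⟶ X}
    {φ : (Scheme.pointSmallEtale ξ).fiber.obj U} (h : germ ξ G U φ a = germ ξ G U φ b) :
    φ.left (default : Spec (CommRingCat.of Ω)) ∈ eqLocus a b := by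
  obtain ⟨V, g, y, hy, e⟩ := (germ_eq_iff ξ G U φ a b).1 h
  exact Set.mem_iUnion.2 ⟨V, Set.mem_iUnion.2 ⟨g, Set.mem_iUnion.2
    ⟨e, y.left (default : Spec (CommRingCat.of Ω)),
      congrArg (fun k => k.left (default : Spec (CommRingCat.of Ω))) hy⟩⟩⟩

theorem germ_eq_of_mem_eqLocus {Ω : Type u} [Field Ω] [IsSepClosed Ω]
    {ξ : Spec (CommRingCat.of Ω) ⟶ X} {φ : (Scheme.pointSmallEtale ξ).fiber.obj U}
    (h : φ.left (default : Spec (CommRingCat.of Ω)) ∈ eqLocus a b) :
    germ ξ G U φ a = germ ξ G U φ b := by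
  simp only [eqLocus, Set.mem_iUnion, Set.mem_range] at h
  obtain ⟨V, g, e, v, hv⟩ := h
  obtain ⟨ψ, hψ⟩ := exists_fiber_lift g φ v hv
  rw [← hψ, ← germ_res, ← germ_res, e]

theorem eq_of_eqLocus (h : ∀ u : U.left, u ∈ eqLocus a b) : a = b := by
  refine sect_ext a b fun Ω _ _ ξ φ => germ_eq_of_mem_eqLocus (h _)

end EqLocus

variable {Z X : Scheme.{u}} (i : Z ⟶ X) (F : EtCoh.Ab X)

/-- The sheaf `i_* i⁻¹ F`. -/
abbrev H : EtCoh.Ab X := (EtCoh.push i).obj ((EtCoh.pull i).obj F)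

/-- The unit. -/
abbrev η : F ⟶ H i F := (EtCoh.pullPushAdj i).unit.app F

variable (t : (H i F).obj.obj (op (EtCoh.top X)))

/-- `s` has the value of `t` at all geometric points over `Z`. -/
def Lifts {W : Scheme.{u}} (w : W ⟶ X)
    (s : ((EtCoh.pull w).obj F).obj.obj (op (EtCoh.top W))) : Prop :=
  ∀ (Ω : Type u) [Field Ω] [IsSepClosed Ω] (ζ : Spec (CommRingCat.of Ω) ⟶ W),
    w (ζ default) ∈ Set.range i →
      (EtCoh.stalk (ζ ≫ w)).map (η i F) (val w F ζ rfl s) =
        germ (ζ ≫ w) (H i F) (EtCoh.top X) (topPt (ζ ≫ w)) t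

variable {i F t} {W : Scheme.{u}} {w : W ⟶ X}
  {s : ((EtCoh.pull w).obj F).obj.obj (op (EtCoh.top W))}

theorem Lifts.apply (hs : Lifts i F t w s) {Ω : Type u} [Field Ω] [IsSepClosed Ω]
    (ζ : Spec (CommRingCat.of Ω) ⟶ W) {ξ : Spec (CommRingCat.of Ω) ⟶ X} (e : ζ ≫ w = ξ)
    (h : ξ default ∈ Set.range i) :
    (EtCoh.stalk ξ).map (η i F) (val w F ζ e s) = germ ξ (H i F) (EtCoh.top X) (topPt ξ) t := by
  subst e
  exact hs Ω ζ h

theorem Lifts.res (hs : Lifts i F t w s) {W' : Scheme.{u}} (p : W' ⟶ W) {w' : W' ⟶ X}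
    (e : p ≫ w = w') : Lifts i F t w' (sectRes p w e F s) := fun Ω _ _ ζ h => by
  have e₂ : (ζ ≫ p) ≫ w = ζ ≫ w' := by rw [Category.assoc, e]
  rw [val_sectRes p w e F ζ rfl e₂ rfl]
  exact hs.apply (ζ ≫ p) e₂ h

/-- Lifts are unique on universally closed schemes. -/
theorem Lifts.unique [IsClosedImmersion i]
    (hmeet : ∀ C : Set X, IsClosed C → C.Nonempty → (Set.range i ∩ C).Nonempty)
    [UniversallyClosed w] (hs : Lifts i F t w s)
    {s' : ((EtCoh.pull w).obj F).obj.obj (op (EtCoh.top W))} (hs' : Lifts i F t w s') : s = s' := by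
  refine eq_of_eqLocus fun p => ?_
  by_contra hp
  obtain ⟨_, hi, q, hq, rfl⟩ := hmeet (w '' (eqLocus s s')ᶜ)
    (w.isClosedMap _ (isOpen_eqLocus s s').isClosed_compl) ⟨_, p, hp, rfl⟩
  refine hq ?_
  let ζ := geomPointAt W q
  have hζ : ζ default = q := geomPointAt_apply W q _
  have hζ' : (ζ ≫ w) default ∈ Set.range i := by rw [Scheme.Hom.comp_apply, hζ]; exact hi
  haveI := isIso_stalk_unit_push i F (ζ ≫ w) hζ'
  have h1 : val w F ζ rfl s = val w F ζ rfl s' :=
    (ConcreteCategory.bijective_of_isIso ((EtCoh.stalk (ζ ≫ w)).map (η i F))).1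
      ((hs.apply ζ rfl hζ').trans (hs'.apply ζ rfl hζ').symm)
  have h2 : (topPt ζ).left (default : Spec (CommRingCat.of (SeparableClosure (W.residueField q)))) ∈ eqLocus s s' :=
    mem_eqLocus (pullSt_injective w F ζ rfl h1)
  exact hζ ▸ h2

/-- The unit is injective on global sections. -/
theorem eq_of_η_eq [IsClosedImmersion i]
    (hmeet : ∀ C : Set X, IsClosed C → C.Nonempty → (Set.range i ∩ C).Nonempty)
    {s₁ s₂ : F.obj.obj (op (EtCoh.top X))}
    (h : (η i F).hom.app (op (EtCoh.top X)) s₁ = (η i F).hom.app (op (EtCoh.top X)) s₂) : s₁ = s₂ := by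
  have hl : ∀ s₀ : F.obj.obj (op (EtCoh.top X)),
      Lifts i F ((η i F).hom.app (op (EtCoh.top X)) s₀) (𝟙 X) (sectPull (𝟙 X) F s₀) := fun s₀ Ω _ _ ζ _ => by
    rw [val_sectPull, germ_naturality]
  have e := (hl s₁).unique hmeet (h.symm ▸ hl s₂)
  refine sect_ext_of_surjective (𝟙 X) s₁ s₂ fun Ω _ _ ζ x => ?_
  rw [eq_topPt (ζ ≫ 𝟙 X) x, ← val_sectPull (𝟙 X) F ζ rfl, e, val_sectPull]

end Groth.Agent.EtConsAb.GabberLift
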