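import Groth.Agent.EtConsAb.AlgClosureCover
import Groth.Agent.NormNormal.Rel
import Groth.Agent.S0090
import Groth.Prelude.Def_Pi1
import Mathlib.AlgebraicGeometry.Stalk

/-!
# Integral covers with strictly henselian local rings
-/

set_option autoImplicit false
set_option linter.style.haveILetI false
set_option backward.isDefEq.respectTransparency.types false

universe u

open CategoryTheory CategoryTheory.Limits AlgebraicGeometry Opposite Topology

noncomputable section

namespace Groth.Agent.EtConsAb.GabberCover

open Groth.Agent

/-- Every point is the image of a point of an integral scheme over `X` all whose local rings are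
strictly henselian. -/
theorem exists_cover_sh {X : Scheme.{u}} [QuasiSeparatedSpace X] (x : X) :
    ∃ (Y : Scheme.{u}) (h : Y ⟶ X) (_ : IsIntegralHom h) (y₀ : Y), h y₀ = x ∧
      ∀ y : Y, EtCoh.IsStrictlyHenselianLocalRing (Y.presheaf.stalk y) := by
  let Ω := AlgebraicClosure (X.residueField x)
  let P := Spec (CommRingCat.of Ω)
  let f : P ⟶ X := closurePt x
  haveI : QuasiSeparated f := QuasiSeparated.of_comp f (terminal.from X)
  haveI : QuasiCompact f := QuasiCompact.of_comp f (terminal.from X)
  have hf : f default = x := by rw [Scheme.Hom.comp_apply, Scheme.fromSpecResidueField_apply]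
  let Y := f.normalization
  have hP : Pi1.IsNormalScheme P := fun p => by
    haveI : AlgebraicGeometry.IsIntegral P := inferInstance
    obtain rfl : p = genericPoint P := Subsingleton.elim (α := Spec (CommRingCat.of Ω)) _ _
    exact ⟨inferInstanceAs (IsDomain P.functionField), inferInstanceAs (IsIntegrallyClosed P.functionField)⟩
  have hirr : closure {(default : P)} ∈ irreducibleComponents ↥P := by
    rw [irreducibleComponents_eq_singleton, Set.mem_singleton_iff]
    exact Set.eq_univ_of_forall fun p =>
      subset_closure (Subsingleton.elim (α := Spec (CommRingCat.of Ω)) _ _)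
  have hgen : ∀ p, f.toNormalization p = genericPoint Y := fun p => by
    refine (IsGenericPoint.eq (genericPoint_spec Y) ?_).symm
    rw [IsGenericPoint, ← f.toNormalization.denseRange.closure_range]
    congr 1
    exact (Set.eq_singleton_iff_unique_mem (s := Set.range f.toNormalization).2 ⟨⟨p, rfl⟩, fun _ ⟨q, hq⟩ =>
      hq ▸ congrArg _ (Subsingleton.elim (α := Spec (CommRingCat.of Ω)) q p)⟩).symm
  have hY : ∀ y : Y, IsIntegrallyClosed (Y.presheaf.stalk y) := fun y =>
    (NormNormal.normal_and_eq f hP (locallyFinite_of_finite _) hirr y
      (hgen default ▸ genericPoint_specializes y)).1.2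
  haveI : IsPreimmersion f.toNormalization := isPreimmersion_toNormalization x
  haveI : IsSepClosed Y.functionField := by
    let p : P := IsLocalRing.closedPoint Ω
    let e : Y.functionField ≃+* Ω := by
      refine RingEquiv.ofBijective ((f.toNormalization.stalkMap p ≫
        (stalkClosedPointIso (CommRingCat.of Ω)).hom).hom.comp
          ((Y.presheaf.stalkCongr (.of_eq (hgen p).symm)).hom.hom)) ⟨RingHom.injective _, ?_⟩
      intro z
      obtain ⟨w, hw⟩ := f.toNormalization.stalkMap_surjective p
        ((stalkClosedPointIso (CommRingCat.of Ω)).inv z)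
      refine ⟨(Y.presheaf.stalkCongr (.of_eq (hgen p).symm)).inv w, ?_⟩
      simp only [RingHom.comp_apply, CommRingCat.hom_comp]
      erw [Iso.inv_hom_id_apply, hw, Iso.inv_hom_id_apply]
    haveI : IsAlgClosed Y.functionField := IsAlgClosed.of_ringEquiv Ω _ e.symm
    infer_instance
  refine ⟨Y, f.fromNormalization, inferInstance, f.toNormalization default, ?_,
    fun y => S0090.result Y hY y⟩
  rw [← Scheme.Hom.comp_apply, f.toNormalization_fromNormalization]
  exact hf

end Groth.Agent.EtConsAb.GabberCover
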