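import Groth.Agent.S7382
import Groth.Agent.LimTop.Descend
import Mathlib.AlgebraicGeometry.Morphisms.Proper

/-!
# Integral morphisms as limits of finite ones, and connectedness of traces of point closures
-/

set_option autoImplicit false
set_option linter.style.haveILetI false

universe u

open CategoryTheory CategoryTheory.Limits AlgebraicGeometry Opposite TopologicalSpace

noncomputable section

namespace Groth.Agent.EtConsAb.GabberLimit

/-- A presentation of `h : Y ⟶ X` as a limit of finite finitely presented morphisms. -/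
structure FinLim {Y X : Scheme.{u}} (h : Y ⟶ X) where
  /-- The index category. -/
  I : Type u
  [cat : SmallCategory I]
  [cofiltered : IsCofiltered I]
  /-- The diagram. -/
  D : I ⥤ Scheme.{u}
  /-- The projections. -/
  π : (Functor.const I).obj Y ⟶ D
  /-- The limit property. -/
  hc : IsLimit (Cone.mk Y π)
  /-- The structure maps. -/
  g : ∀ j, D.obj j ⟶ X
  fin : ∀ j, IsFinite (g j)
  fp : ∀ j, LocallyOfFinitePresentation (g j)
  gw : ∀ ⦃j k : I⦄ (a : j ⟶ k), D.map a ≫ g k = g j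
  πg : ∀ j, π.app j ≫ g j = h

variable {Y X : Scheme.{u}} {h : Y ⟶ X}

attribute [instance] FinLim.cat FinLim.cofiltered

theorem FinLim.isAffineHom_map (L : FinLim h) {j k : L.I} (a : j ⟶ k) : IsAffineHom (L.D.map a) := by
  haveI := L.fin j
  haveI := L.fin k
  haveI : IsAffineHom (L.D.map a ≫ L.g k) := by rw [L.gw a]; infer_instance
  exact MorphismProperty.of_postcomp (W := @IsAffineHom) (W' := @IsSeparated) (L.D.map a) (L.g k)
    (show IsSeparated (L.g k) from inferInstance) inferInstance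

theorem FinLim.compactSpace [CompactSpace X] (L : FinLim h) (j : L.I) : CompactSpace (L.D.obj j) :=
  haveI := L.fin j
  QuasiCompact.compactSpace_of_compactSpace (L.g j)

theorem FinLim.quasiSeparatedSpace [QuasiSeparatedSpace X] (L : FinLim h) (j : L.I) :
    QuasiSeparatedSpace (L.D.obj j) :=
  haveI := L.fin j
  quasiSeparatedSpace_of_quasiSeparated (L.g j)

theorem FinLim.universallyClosed_π [UniversallyClosed h] (L : FinLim h) (j : L.I) :
    UniversallyClosed (L.π.app j) := by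
  haveI := L.fin j
  haveI : UniversallyClosed (L.π.app j ≫ L.g j) := (L.πg j).symm ▸ inferInstance
  exact UniversallyClosed.of_comp_of_isSeparated (L.π.app j) (L.g j)

theorem nonempty_finLim [CompactSpace X] [QuasiSeparatedSpace X] (h : Y ⟶ X) [IsIntegralHom h] :
    Nonempty (FinLim h) := by
  obtain ⟨I, _, _, _, D, c, hc, hD, ⟨e⟩⟩ := S7382.result h
  let D' : Iᵒᵖ ⥤ Scheme.{u} := D ⋙ CategoryTheory.Over.forget X
  let c₀ : Cone D' := (CategoryTheory.Over.forget X).mapCone c
  haveI : CategoryTheory.IsConnected Iᵒᵖ := IsCofiltered.isConnected _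
  have hc₀ : IsLimit c₀ := isLimitOfPreserves (CategoryTheory.Over.forget X) hc
  let ψ : Y ⟶ c₀.pt := e.inv.left
  haveI : IsIso ψ := (CategoryTheory.Over.forget X).map_isIso e.inv
  let c₁ : Cone D' := c₀.extend ψ
  have hc₁ : IsLimit c₁ := IsLimit.extendIso ψ hc₀
  exact ⟨{ I := Iᵒᵖ
           D := D'
           π := c₁.π
           hc := hc₁
           g := fun j => (D.obj j).hom
           fin := fun j => (hD j).1
           fp := fun j => (hD j).2
           gw := fun j k a => Over.w (D.map a)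
           πg := fun j => (Category.assoc _ _ _).trans
             ((congrArg (e.inv.left ≫ ·) (Over.w (c.π.app j))).trans (Over.w e.inv)) }⟩

/-- Traces of point closures stay connected in the limit. -/
theorem isConnected_inter_closure [CompactSpace X] [QuasiSeparatedSpace X] (h : Y ⟶ X)
    [IsIntegralHom h] {Z : Set X} (hZ : IsClosed Z)
    (hfin : ∀ (X' : Scheme.{u}) (π : X' ⟶ X) [IsFinite π] (x : X'),
      _root_.IsConnected (π ⁻¹' Z ∩ closure {x})) (y : Y) :
    _root_.IsConnected (h ⁻¹' Z ∩ closure {y}) := by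
  obtain ⟨L⟩ := nonempty_finLim h
  haveI : ∀ (j k : L.I) (a : j ⟶ k), IsAffineHom (L.D.map a) := fun j k a => L.isAffineHom_map a
  haveI : ∀ j, CompactSpace (L.D.obj j) := L.compactSpace
  haveI : ∀ j, UniversallyClosed (L.π.app j) := L.universallyClosed_π
  have hcl : ∀ j, L.π.app j '' closure {y} = closure {L.π.app j y} := fun j => by
    rw [← (L.π.app j).isClosedMap.closure_image_eq_of_continuous (L.π.app j).continuous,
      Set.image_singleton]
  have hπ : ∀ j z, L.g j (L.π.app j z) = h z := fun j z => by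
    rw [← Scheme.Hom.comp_apply, L.πg]
  have hK : ∀ j, L.g j ⁻¹' Z ∩ closure {L.π.app j y} = L.π.app j '' (h ⁻¹' Z ∩ closure {y}) := fun j => by
    rw [← hcl j]
    ext p
    constructor
    · rintro ⟨hp, z, hz, rfl⟩
      exact ⟨z, ⟨by rw [Set.mem_preimage, ← hπ j]; exact hp, hz⟩, rfl⟩
    · rintro ⟨z, ⟨hzZ, hz⟩, rfl⟩
      exact ⟨by rw [Set.mem_preimage, hπ j]; exact hzZ, z, hz, rfl⟩
  refine ⟨?_, isPreconnected_closed_iff.2 fun K₁ K₂ h₁ h₂ hcov hne₁ hne₂ => ?_⟩
  · obtain ⟨j⟩ := IsCofiltered.nonempty (C := L.I)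
    haveI := L.fin j
    obtain ⟨_, z, hz, rfl⟩ := hK j ▸ (hfin _ (L.g j) (L.π.app j y)).1
    exact ⟨z, hz⟩
  by_contra he
  let K := h ⁻¹' Z ∩ closure {y}
  obtain ⟨i₀⟩ := IsCofiltered.nonempty (C := L.I)
  have hclosed : ∀ (j : L.I) (A : Set Y), IsClosed A → IsClosed (L.π.app j '' A) :=
    fun j A => (L.π.app j).isClosedMap A
  have hKc : IsClosed K := (hZ.preimage h.continuous).inter isClosed_closure
  obtain ⟨j, -, hj⟩ := LimTop.exists_subset L.hc (i₀ := i₀)
    (fun j _ => L.π.app j '' (K ∩ K₁) ∩ L.π.app j '' (K ∩ K₂)) (fun _ _ => ∅)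
    (fun j _ => LimTop.isProConstructible_of_isClosed
      ((hclosed j _ (hKc.inter h₁)).inter (hclosed j _ (hKc.inter h₂))))
    (fun j _ => LimTop.isIndConstructible_of_isOpen isOpen_empty)
    (fun j k a _ => by
      rintro _ ⟨⟨z₁, hz₁, rfl⟩, z₂, hz₂, e⟩
      exact ⟨⟨z₁, hz₁, (LimTop.π_apply (Cone.mk Y L.π) a z₁).symm⟩, z₂, hz₂,
        (LimTop.π_apply (Cone.mk Y L.π) a z₂).symm.trans (congrArg (L.D.map a) e)⟩)
    (fun _ _ _ _ => Set.empty_subset _) fun s hs => by
      refine absurd ?_ he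
      have key : ∀ A : Set Y, IsClosed A →
          (∀ j, (j ⟶ i₀) → L.π.app j s ∈ L.π.app j '' A) → s ∈ A := fun A hA hsA => by
        rw [← hA.closure_eq, mem_closure_iff]
        intro O hO hsO
        obtain ⟨k, φ, V, -, hsV, hVO⟩ := LimTop.exists_nhd L.hc i₀ hO hsO
        obtain ⟨a, ha, e⟩ := hsA k φ
        exact ⟨a, hVO (show L.π.app k a ∈ V from e.symm ▸ hsV), ha⟩
      have hs₁ := key _ (hKc.inter h₁) fun j φ => (hs j φ).1
      have hs₂ := key _ (hKc.inter h₂) fun j φ => (hs j φ).2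
      exact ⟨s, hs₁.1, hs₁.2, hs₂.2⟩
  haveI := L.fin j
  obtain ⟨p, hp, hp₁, hp₂⟩ := isPreconnected_closed_iff.1 (hK j ▸ (hfin _ (L.g j) (L.π.app j y)).2)
    (L.π.app j '' (K ∩ K₁)) (L.π.app j '' (K ∩ K₂)) (hclosed j _ (hKc.inter h₁))
    (hclosed j _ (hKc.inter h₂))
    (by
      rintro _ ⟨z, hz, rfl⟩
      rcases hcov hz with hz' | hz'
      · exact Or.inl ⟨z, ⟨hz, hz'⟩, rfl⟩
      · exact Or.inr ⟨z, ⟨hz, hz'⟩, rfl⟩)
    (by
      obtain ⟨z, hz, hz'⟩ := hne₁
      exact ⟨_, ⟨z, hz, rfl⟩, z, ⟨hz, hz'⟩, rfl⟩)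
    (by
      obtain ⟨z, hz, hz'⟩ := hne₂
      exact ⟨_, ⟨z, hz, rfl⟩, z, ⟨hz, hz'⟩, rfl⟩)
  exact hj ⟨hp₁, hp₂⟩

end Groth.Agent.EtConsAb.GabberLimit
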