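import Groth.Agent.EtConsAb.ConsSerre
import Groth.Agent.EtConsAb.Descend
import Groth.Agent.ConstrLib.Basic
import Mathlib.Topology.Spectral.ConstructibleTopology

/-!
# Stratifications adapted to an abelian étale sheaf

On a quasi-compact quasi-separated scheme constructibility can be tested on one finite cover by
constructible strata; consequently it is local.
-/

set_option linter.style.haveILetI false

universe u

open CategoryTheory CategoryTheory.Limits AlgebraicGeometry Opposite Topology

namespace Groth.Agent.EtConsAb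

open Groth.Agent

variable {X : Scheme.{u}}

/-- A finite family of immersions with constructible images covering `X`, along each of which `F` is
finite locally constant. -/
def StrataCover (F : EtCoh.Ab X) : Prop :=
  ∃ (ι : Type) (_ : Finite ι) (T : ι → Scheme.{u}) (g : ∀ i, T i ⟶ X),
    (∀ i, IsImmersion (g i)) ∧ (∀ i, IsConstructible (Set.range (g i))) ∧
    (⋃ i, Set.range (g i)) = Set.univ ∧
    ∀ i, EtCoh.IsFiniteLocallyConstant ((EtCoh.pull (g i)).obj F)

theorem isConstructible_preimage_val_univ {Y : Type*} [TopologicalSpace Y] {s : Set Y}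
    (hs : IsConstructible s) : IsConstructible ((Subtype.val : ↥(Set.univ : Set Y) → Y) ⁻¹' s) :=
  hs.preimage_of_isOpenEmbedding (Homeomorph.Set.univ Y).isOpenEmbedding

theorem isConstructible_of_preimage_val_univ {Y : Type*} [TopologicalSpace Y] {s : Set Y}
    (hs : IsConstructible ((Subtype.val : ↥(Set.univ : Set Y) → Y) ⁻¹' s)) : IsConstructible s := by
  have h := hs.preimage_of_isOpenEmbedding (Homeomorph.Set.univ Y).symm.isOpenEmbedding
  convert h using 1
  rfl

theorem strataCover_of_adaptedStrata {F : EtCoh.Ab X} (h : EtPBC.AdaptedStrata F Set.univ) :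
    StrataCover F := by
  obtain ⟨n, T, g, hg, hc, -, hu, hF⟩ := h
  exact ⟨Fin n, inferInstance, T, g, hg, fun i => isConstructible_of_preimage_val_univ (hc i), hu,
    fun i => hF i⟩

/-- A finite cover by constructible strata can be refined to a partition. -/
theorem adaptedStrata_univ_of_strataCover {F : EtCoh.Ab X} (h : StrataCover F) :
    EtPBC.AdaptedStrata F Set.univ := by
  classical
  obtain ⟨ι, _, T, g, hg, hc, hu, hF⟩ := h
  choose G hGf hGo hGd using fun i => ConstrLib.exists_finite_determining (hc i)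
  haveI : Finite ↥(⋃ i, G i) := (Set.finite_iUnion hGf).to_subtype
  let A : Type u := ↥(⋃ i, G i)
  have ho : ∀ a : A, IsOpen a.1 ∧ IsRetrocompact a.1 := fun a => by
    obtain ⟨i, hi⟩ := Set.mem_iUnion.1 a.2
    exact hGo i _ hi
  let O : (A → Bool) → X.Opens := fun σ =>
    ⟨⋂ a : {a : A // σ a = true}, a.1.1, isOpen_iInter_of_finite fun a => (ho a.1).1⟩
  let C : (A → Bool) → Set X := fun σ => ⋂ a : {a : A // σ a = false}, (a.1.1)ᶜ
  have hC : ∀ σ, IsClosed (C σ) := fun σ => isClosed_iInter fun a => (ho a.1).1.isClosed_compl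
  let Z : ∀ σ, TopologicalSpace.Closeds (O σ).toScheme := fun σ =>
    ⟨Subtype.val ⁻¹' C σ, (hC σ).preimage continuous_subtype_val⟩
  let S : (A → Bool) → Scheme.{u} := fun σ => (Scheme.IdealSheafData.vanishingIdeal (Z σ)).subscheme
  let a : ∀ σ, S σ ⟶ X := fun σ =>
    (Scheme.IdealSheafData.vanishingIdeal (Z σ)).subschemeι ≫ (O σ).ι
  have hr : ∀ σ, Set.range (a σ) = (O σ : Set X) ∩ C σ := fun σ => by
    rw [show ⇑(a σ) = (O σ).ι ∘ (Scheme.IdealSheafData.vanishingIdeal (Z σ)).subschemeι
      from funext fun _ => Scheme.Hom.comp_apply _ _ _, Set.range_comp,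
      Scheme.IdealSheafData.range_subschemeι, Scheme.IdealSheafData.coe_support_vanishingIdeal]
    ext x
    constructor
    · rintro ⟨y, hy, rfl⟩
      exact ⟨y.2, hy⟩
    · rintro ⟨hx, hx'⟩
      exact ⟨⟨x, hx⟩, hx', rfl⟩
  have hmem : ∀ σ x, x ∈ Set.range (a σ) ↔ ∀ s : A, (x ∈ s.1 ↔ σ s = true) := fun σ x => by
    rw [hr]
    constructor
    · rintro ⟨hxo, hxc⟩ s
      refine ⟨fun hxs => ?_, fun hs => Set.mem_iInter.1 hxo ⟨s, hs⟩⟩
      by_contra hs
      exact Set.mem_iInter.1 hxc ⟨s, by simpa using hs⟩ hxs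
    · intro hx
      refine ⟨Set.mem_iInter.2 fun s => (hx s.1).2 s.2, Set.mem_iInter.2 fun s hxs => ?_⟩
      exact absurd ((hx s.1).1 hxs) (by rw [s.2]; decide)
  let J := {σ : A → Bool // (Set.range (a σ)).Nonempty}
  refine adaptedStrata_of_fintype (ι := J) (fun σ => S σ.1) (fun σ => a σ.1) (fun σ => inferInstance)
    (fun σ => isConstructible_preimage_val_univ ?_) ?_ ?_ (fun σ => ?_)
  · rw [hr]
    exact (IsConstructible.iInter fun s : {s : A // σ.1 s = true} =>
      (ho s.1).2.isConstructible (ho s.1).1).inter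
      (IsConstructible.iInter fun s : {s : A // σ.1 s = false} =>
        isConstructible_compl.2 ((ho s.1).2.isConstructible (ho s.1).1))
  · intro σ τ hne
    rw [Set.disjoint_left]
    intro x hx hy
    apply hne
    ext s
    have h1 := (hmem σ.1 x).1 hx s
    have h2 := (hmem τ.1 x).1 hy s
    exact Bool.eq_iff_iff.2 (h1.symm.trans h2)
  · refine Set.eq_univ_of_forall fun x => ?_
    let σ : A → Bool := fun s => decide (x ∈ s.1)
    have hx : x ∈ Set.range (a σ) := (hmem σ x).2 fun s => by simp [σ]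
    exact Set.mem_iUnion.2 ⟨⟨σ, x, hx⟩, hx⟩
  · obtain ⟨x, hx⟩ := σ.2
    obtain ⟨i, hi⟩ := Set.mem_iUnion.1 (hu.ge (Set.mem_univ x))
    haveI := hg i
    have hsub : Set.range (a σ.1) ⊆ Set.range (g i) := fun y hy =>
      (hGd i x y fun s hs =>
        ((hmem σ.1 x).1 hx ⟨s, Set.mem_iUnion.2 ⟨i, hs⟩⟩).trans
          ((hmem σ.1 y).1 hy ⟨s, Set.mem_iUnion.2 ⟨i, hs⟩⟩).symm).1 hi
    let p := pullback.fst (a σ.1) (g i)
    haveI : Surjective p := ⟨fun z => by
      obtain ⟨t, ht⟩ := hsub ⟨z, rfl⟩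
      obtain ⟨w, hw, -⟩ := Scheme.Pullback.exists_preimage_pullback (f := a σ.1) (g := g i) z t ht.symm
      exact ⟨w, hw⟩⟩
    haveI : IsClosedImmersion p := IsClosedImmersion.of_isPreimmersion p (by
      rw [p.surjective.range_eq]; exact isClosed_univ)
    refine isFLC_of_pull_closed p _ (isFLC_of_iso ?_
      (isFLC_pull_comp (g i) (pullback.snd (a σ.1) (g i)) (hF i)))
    exact (pullCongr pullback.condition.symm).app F ≪≫ ((pullComp (a σ.1) p).app F).symm

/-- The image of a constructible set under an immersion with constructible image. -/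
theorem isConstructible_image_of_immersion {T : Scheme.{u}} (a : T ⟶ X) [IsImmersion a]
    (ha : IsConstructible (Set.range a)) {s : Set T} (hs : IsConstructible s) :
    IsConstructible (a '' s) := by
  let e : T ≃ₜ Set.range a := a.isEmbedding.toHomeomorph
  have h1 : IsConstructible (e '' s) := hs.image_of_isOpenEmbedding e.isOpenEmbedding
    (by rw [e.surjective.range_eq]; exact IsRetrocompact.univ)
  have h2 : (e '' s) = (Subtype.val : Set.range a → X) ⁻¹' (a '' s) := by
    ext y
    constructor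
    · rintro ⟨t, ht, rfl⟩
      exact ⟨t, ht, rfl⟩
    · rintro ⟨t, ht, hty⟩
      exact ⟨t, ht, Subtype.ext hty⟩
  have h3 := ConstrLib.isConstructible_inter_of_trace ha (h2 ▸ h1)
  rwa [Set.inter_eq_left.2 (Set.image_subset_range _ _)] at h3

/-- Strata covers can be composed. -/
theorem strataCover_of_strataCover {F : EtCoh.Ab X} {ι : Type} [Finite ι] (T : ι → Scheme.{u})
    (a : ∀ i, T i ⟶ X) (ha : ∀ i, IsImmersion (a i)) (hc : ∀ i, IsConstructible (Set.range (a i)))
    (hu : (⋃ i, Set.range (a i)) = Set.univ)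
    (hF : ∀ i, StrataCover ((EtCoh.pull (a i)).obj F)) : StrataCover F := by
  choose κ hκ S g hg hgc hgu hgF using hF
  haveI := hκ
  refine ⟨Σ i, κ i, inferInstance, fun k => S k.1 k.2, fun k => g k.1 k.2 ≫ a k.1, fun k => ?_,
    fun k => ?_, Set.eq_univ_of_forall fun x => ?_, fun k => ?_⟩
  · haveI := hg k.1 k.2
    haveI := ha k.1
    infer_instance
  · haveI := ha k.1
    rw [show ⇑(g k.1 k.2 ≫ a k.1) = a k.1 ∘ g k.1 k.2 from funext fun _ => Scheme.Hom.comp_apply _ _ _,
      Set.range_comp]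
    exact isConstructible_image_of_immersion _ (hc k.1) (hgc k.1 k.2)
  · obtain ⟨i, t, rfl⟩ := Set.mem_iUnion.1 (hu.ge (Set.mem_univ x))
    obtain ⟨j, s, rfl⟩ := Set.mem_iUnion.1 ((hgu i).ge (Set.mem_univ t))
    exact Set.mem_iUnion.2 ⟨⟨i, j⟩, s, Scheme.Hom.comp_apply _ _ _⟩
  · exact isFLC_of_iso ((pullComp (a k.1) (g k.1 k.2)).app F) (hgF k.1 k.2)

/-- A constructible sheaf on a quasi-compact quasi-separated scheme has a global strata cover. -/
theorem strataCover_of_isConstructible [CompactSpace X] [QuasiSeparatedSpace X] {F : EtCoh.Ab X}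
    (hF : EtPBC.IsConstructible F) : StrataCover F := by
  classical
  have hex : ∀ x : X, ∃ W : X.Opens, IsAffineOpen W ∧ x ∈ W := fun x => by
    obtain ⟨W, hW, hxW, -⟩ := exists_isAffineOpen_mem_and_subset (show x ∈ (⊤ : X.Opens) from trivial)
    exact ⟨W, hW, hxW⟩
  choose W hW hxW using hex
  obtain ⟨s, hs⟩ := isCompact_univ.elim_finite_subcover (fun x => (W x : Set X)) (fun x => (W x).2)
    (fun x _ => Set.mem_iUnion.2 ⟨x, hxW x⟩)
  let e := s.equivFin
  choose n T g hg hc hd hu hF' using fun j : Fin s.card => hF (W (e.symm j).1) (hW _)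
  refine ⟨Σ j, Fin (n j), inferInstance, fun k => T k.1 k.2, fun k => g k.1 k.2, fun k => hg _ _,
    fun k => ?_, Set.eq_univ_of_forall fun x => ?_, fun k => hF' _ _⟩
  · have h1 := (hc k.1 k.2).image_of_isOpenEmbedding
      (IsOpen.isOpenEmbedding_subtypeVal (W (e.symm k.1).1).2)
      (by
        rw [Subtype.range_coe]
        exact ((hW _).isCompact).isRetrocompact (W (e.symm k.1).1).2)
    convert h1 using 1
    ext x
    refine ⟨fun hx => ?_, fun ⟨y, hy, hyx⟩ => hyx ▸ hy⟩
    exact ⟨⟨x, (hu k.1).subset (Set.mem_iUnion.2 ⟨k.2, hx⟩)⟩, hx, rfl⟩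
  · obtain ⟨y, hy, hxy⟩ := Set.mem_iUnion₂.1 (hs (Set.mem_univ x))
    have hxy' : x ∈ ⋃ i, Set.range (g (e ⟨y, hy⟩) i) := by
      rw [hu]; simpa using hxy
    obtain ⟨i, hi⟩ := Set.mem_iUnion.1 hxy'
    exact Set.mem_iUnion.2 ⟨⟨_, i⟩, hi⟩

/-- Transport of an adapted stratification from an open subscheme. -/
theorem adaptedStrata_opens {F : EtCoh.Ab X} (U : X.Opens)
    (h : EtPBC.AdaptedStrata ((EtCoh.pull U.ι).obj F) Set.univ) : EtPBC.AdaptedStrata F (U : Set X) := by
  obtain ⟨n, T, g, hg, hc, hd, hu, hF⟩ := h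
  have hr : ∀ i, Set.range (g i ≫ U.ι) = Subtype.val '' Set.range (g i) := fun i => by
    rw [show ⇑(g i ≫ U.ι) = U.ι ∘ g i from funext fun _ => Scheme.Hom.comp_apply _ _ _, Set.range_comp]
    rfl
  refine ⟨n, T, fun i => g i ≫ U.ι, fun i => ?_, fun i => ?_, fun i j hij => ?_, ?_, fun i => ?_⟩
  · haveI := hg i
    infer_instance
  · rw [hr]
    convert! isConstructible_of_preimage_val_univ (hc i) using 1
    exact Subtype.val_injective.preimage_image _
  · show Disjoint (Set.range (g i ≫ U.ι)) (Set.range (g j ≫ U.ι))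
    rw [hr, hr]
    exact (Set.disjoint_image_iff Subtype.val_injective).2 (hd hij)
  · show (⋃ i, Set.range (g i ≫ U.ι)) = (U : Set X)
    simp only [hr, ← Set.image_iUnion]
    refine (congrArg (Subtype.val '' ·) hu).trans ?_
    exact Set.image_univ.trans Subtype.range_val
  · exact isFLC_of_iso ((pullComp U.ι (g i)).app F) (hF i)

/-- Constructibility is local on `X`. -/
theorem isConstructible_of_forall_exists {F : EtCoh.Ab X}
    (h : ∀ x : X, ∃ (S : Scheme.{u}) (j : S ⟶ X), IsOpenImmersion j ∧ x ∈ Set.range j ∧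
      EtPBC.IsConstructible ((EtCoh.pull j).obj F)) : EtPBC.IsConstructible F := by
  classical
  intro U hU
  haveI : IsAffine U := hU
  have hex : ∀ x : U, ∃ W : X.Opens, IsAffineOpen W ∧ x.1 ∈ W ∧ W ≤ U ∧
      StrataCover ((EtCoh.pull W.ι).obj F) := by
    intro x
    obtain ⟨S, j, hj, hxj, hS⟩ := h x.1
    obtain ⟨W, hW, hxW, hWle⟩ := exists_isAffineOpen_mem_and_subset
      (show x.1 ∈ U ⊓ j.opensRange from ⟨x.2, hxj⟩)
    refine ⟨W, hW, hxW, fun y hy => (hWle hy).1, ?_⟩
    haveI : IsAffine W := hW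
    let l : W.toScheme ⟶ S := IsOpenImmersion.lift j W.ι (by
      rw [Scheme.Opens.range_ι]; exact fun y hy => (hWle hy).2)
    exact strataCover_of_isConstructible (isConstructible_of_iso
      ((pullComp j l).app F ≪≫ (pullCongr (IsOpenImmersion.lift_fac _ _ _)).app F)
      (isConstructible_pull l hS))
  choose W hW hxW hWU hWc using hex
  obtain ⟨s, hs⟩ := hU.isCompact.elim_finite_subcover (fun x : U => (W x : Set X))
    (fun x => (W x).2) (fun x hx => Set.mem_iUnion.2 ⟨⟨x, hx⟩, hxW ⟨x, hx⟩⟩)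
  refine adaptedStrata_opens U (adaptedStrata_univ_of_strataCover ?_)
  let e := s.equivFin
  refine strataCover_of_strataCover (fun k : Fin s.card => (W (e.symm k).1).toScheme)
    (fun k => X.homOfLE (hWU _)) (fun k => inferInstance) (fun k => ?_)
    (Set.eq_univ_of_forall fun x => ?_) fun k => ?_
  · haveI : IsAffine (W (e.symm k).1) := hW _
    haveI : CompactSpace (W (e.symm k).1).toScheme := inferInstance
    exact (isCompact_range (X.homOfLE (hWU _)).continuous).isConstructible
      (X.homOfLE (hWU _)).isOpenEmbedding.isOpen_range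
  · obtain ⟨y, hy, hxy⟩ := Set.mem_iUnion₂.1 (hs x.2)
    refine Set.mem_iUnion.2 ⟨e ⟨y, hy⟩, ⟨x.1, by simpa using hxy⟩, ?_⟩
    exact Subtype.ext (Scheme.homOfLE_apply (hWU _) _)
  · obtain ⟨ι, hι, T, g, hg, hc, hu, hF⟩ := hWc (e.symm k).1
    refine ⟨ι, hι, T, g, hg, hc, hu, fun i => isFLC_of_iso ?_ (hF i)⟩
    exact (EtCoh.pull (g i)).mapIso
      ((pullCongr (X.homOfLE_ι (hWU _)).symm).app F ≪≫ ((pullComp U.ι (X.homOfLE (hWU _))).app F).symm)

/-- On a quasi-compact quasi-separated scheme, a strata cover gives constructibility. -/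
theorem isConstructible_of_strataCover [QuasiSeparatedSpace X] {F : EtCoh.Ab X} (h : StrataCover F) :
    EtPBC.IsConstructible F := by
  intro U hU
  haveI : IsAffine U := hU
  obtain ⟨ι, hι, T, g, hg, hc, hu, hF⟩ := h
  refine adaptedStrata_opens U (adaptedStrata_univ_of_strataCover
    ⟨ι, hι, fun i => pullback U.ι (g i), fun i => pullback.fst U.ι (g i), fun i => ?_, fun i => ?_,
      Set.eq_univ_of_forall fun x => ?_, fun i => ?_⟩)
  · haveI := hg i
    infer_instance
  · rw [Scheme.Pullback.range_fst]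
    refine (hc i).preimage U.ι.continuous fun s hso hsc => ?_
    refine (QuasiSeparatedSpace.isRetrocompact_iff_isCompact (hso.preimage U.ι.continuous)).2 ?_
    rw [U.ι.isOpenEmbedding.isInducing.isCompact_iff, Set.image_preimage_eq_inter_range, Scheme.Opens.range_ι]
    exact hsc hU.isCompact U.2
  · obtain ⟨i, t, ht⟩ := Set.mem_iUnion.1 (hu.ge (Set.mem_univ (U.ι x)))
    obtain ⟨w, hw, -⟩ := Scheme.Pullback.exists_preimage_pullback (f := U.ι) (g := g i) x t ht.symm
    exact Set.mem_iUnion.2 ⟨i, w, hw⟩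
  · refine isFLC_of_iso ?_ (isFLC_pull_comp (g i) (pullback.snd U.ι (g i)) (hF i))
    exact (pullCongr pullback.condition.symm).app F ≪≫ ((pullComp U.ι _).app F).symm

/-- Finitely many members of a constructible cover suffice. -/
theorem exists_finite_subcover_of_isConstructible [CompactSpace X] [QuasiSeparatedSpace X] {ι : Type*}
    (s : ι → Set X) (hs : ∀ i, IsConstructible (s i)) (hu : (⋃ i, s i) = Set.univ) :
    ∃ t : Finset ι, (⋃ i ∈ t, s i) = Set.univ := by
  have ho : ∀ c : Set X, IsConstructible c →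
      IsOpen[constructibleTopology X] c ∧ IsOpen[constructibleTopology X] cᶜ := by
    intro c hc
    induction hc using IsConstructible.empty_union_induction with
    | open_retrocompact V hVo hVc =>
      exact ⟨hVc.isCompact.isOpen_constructibleTopology_of_isOpen hVo,
        (show IsCompact Vᶜᶜ by rw [compl_compl]; exact hVc.isCompact).isOpen_constructibleTopology_of_isClosed
          hVo.isClosed_compl⟩
    | union a ha b hb ha' hb' =>
      exact ⟨@IsOpen.union _ a b (constructibleTopology X) ha'.1 hb'.1,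
        by rw [Set.compl_union]; exact (constructibleTopology X).isOpen_inter _ _ ha'.2 hb'.2⟩
    | compl a ha ha' => exact ⟨ha'.2, by rw [compl_compl]; exact ha'.1⟩
  obtain ⟨t, ht⟩ := (isCompact_univ (X := WithConstructibleTopology X)).elim_finite_subcover
    (fun i => WithTopology.ofTopology ⁻¹' s i)
    (fun i => WithConstructibleTopology.isOpen_iff.2 (by exact (ho _ (hs i)).1))
    (fun x _ => by simpa using hu.ge (Set.mem_univ (WithTopology.ofTopology x)))
  refine ⟨t, Set.eq_univ_of_forall fun x => ?_⟩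
  simpa using ht (Set.mem_univ (WithTopology.toTopology _ x))

end Groth.Agent.EtConsAb
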