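import Groth.Agent.EtConsAb.GabberSection
import Groth.Agent.EtConsAb.GabberLimit
import Groth.Agent.EtConsAb.GabberCover
import Groth.Agent.EtConsAb.Strata
import Groth.Agent.EtaleSite.PushFiber
import Groth.Agent.EtLimit.EtSys

/-!
# Gabber's criterion for global sections

If a closed subset `Z` of a quasi-compact quasi-separated `X` meets, on every scheme finite over `X`,
every point closure in a connected set, then global sections of étale sheaves on `X` are those of
their restriction to `Z`.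
-/

set_option autoImplicit false
set_option linter.style.haveILetI false
set_option backward.isDefEq.respectTransparency false

universe u

open CategoryTheory CategoryTheory.Limits AlgebraicGeometry Opposite TopologicalSpace Topology

noncomputable section

namespace Groth.Agent.EtConsAb.GabberH0

open Groth.Agent Groth.Agent.EtaleSite Groth.Agent.EtLimit Groth.Agent.EtConsAb.PullVal
open Groth.Agent.EtConsAb.GabberLift

variable {Z X : Scheme.{u}} {i : Z ⟶ X} [IsClosedImmersion i] {F : EtCoh.Ab X}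
  {t : (H i F).obj.obj (op (EtCoh.top X))}

/-- A lift on an integral scheme over `X` comes from a scheme finite over `X`. -/
theorem exists_lifts_stage [CompactSpace X] [QuasiSeparatedSpace X] {Y : Scheme.{u}} {h : Y ⟶ X}
    [IsIntegralHom h] {sY : ((EtCoh.pull h).obj F).obj.obj (op (EtCoh.top Y))}
    (hsY : Lifts i F t h sY) :
    ∃ (T : Scheme.{u}) (π : T ⟶ X) (_ : IsFinite π) (_ : LocallyOfFinitePresentation π),
      (∃ s, Lifts i F t π s) ∧ Set.range h ⊆ Set.range π := by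
  obtain ⟨L⟩ := GabberLimit.nonempty_finLim h
  haveI : ∀ (j k : L.I) (a : j ⟶ k), IsAffineHom (L.D.map a) := fun j k a => L.isAffineHom_map a
  haveI : ∀ j, CompactSpace (L.D.obj j) := L.compactSpace
  haveI : ∀ j, QuasiSeparatedSpace (L.D.obj j) := L.quasiSeparatedSpace
  let c : Cone L.D := Cone.mk Y L.π
  let pr : ∀ j, Y ⟶ L.D.obj j := fun j => L.π.app j
  obtain ⟨j₀⟩ := IsCofiltered.nonempty (C := L.I)
  let e₀ := FHom.κ (pr j₀) (L.g j₀) (L.πg j₀) F
  let s₁ := e₀.inv.hom.app (op (EtCoh.top Y)) sY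
  obtain ⟨k, a, y, hy⟩ := (limit_cohomology L.hc 0).1 j₀ ((EtCoh.pull (L.g j₀)).obj F)
    ((s₀ _).symm s₁)
  let z₀ := s₀ _ y
  let z := (FHom.κ (L.D.map a) (L.g j₀) (L.gw a) F).hom.hom.app (op (EtCoh.top (L.D.obj k))) z₀
  have hs₁ : s₁ = sectRes (pr k) (L.D.map a) (c.w a) ((EtCoh.pull (L.g j₀)).obj F) z₀ :=
    ((s₀ _).apply_symm_apply _).symm.trans ((congrArg (s₀ _) hy.symm).trans (s₀_HpullVia _ _ _ _ _ _))
  have hz : ∀ (Ω : Type u) [Field Ω] [IsSepClosed Ω] (ζ : Spec (CommRingCat.of Ω) ⟶ Y)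
      (e : (ζ ≫ pr k) ≫ L.g k = ζ ≫ h),
      val h F ζ rfl sY = val (L.g k) F (ζ ≫ pr k) e z := fun Ω _ _ ζ e => by
    have w₀ : (ζ ≫ pr k) ≫ L.D.map a = ζ ≫ pr j₀ :=
      (Category.assoc _ _ _).trans (congrArg (ζ ≫ ·) (c.w a))
    have w₁ : (ζ ≫ pr j₀) ≫ L.g j₀ = ζ ≫ h := (Category.assoc _ _ _).trans (congrArg (ζ ≫ ·) (L.πg j₀))
    have e1 : sY = e₀.hom.hom.app (op (EtCoh.top Y)) s₁ := (FHom.iso_inv_hom_apply e₀ _ sY).symm
    rw [e1, val_κ (pr j₀) (L.g j₀) (L.πg j₀) F ζ rfl w₁ rfl, hs₁,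
      val_sectRes (pr k) (L.D.map a) (c.w a) _ ζ rfl w₀ rfl,
      val_κ (L.D.map a) (L.g j₀) (L.gw a) F (ζ ≫ pr k) w₀ w₁ e]
  let G := (EtCoh.pull (L.g k)).obj (H i F)
  let c₁ : G.obj.obj (op (EtCoh.top (L.D.obj k))) :=
    ((EtCoh.pull (L.g k)).map (η i F)).hom.app (op (EtCoh.top (L.D.obj k))) z
  let c₂ : G.obj.obj (op (EtCoh.top (L.D.obj k))) := sectPull (L.g k) (H i F) t
  let O : (L.D.obj k).Opens := ⟨eqLocus c₁ c₂ ∪ ((L.g k) ⁻¹' Set.range i)ᶜ,
    (isOpen_eqLocus c₁ c₂).union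
      (i.isClosedEmbedding.isClosed_range.preimage (L.g k).continuous).isOpen_compl⟩
  obtain ⟨m, b, hb⟩ := exists_map_preimage_le_map_preimage L.D c L.hc (i := k) (U := ⊤) (V := O)
    isCompact_univ (fun p _ => by
      refine (em ((L.g k) (pr k p) ∈ Set.range i)).imp (fun hp => ?_) id
      let ζ := geomPointAt Y p
      have e : (ζ ≫ pr k) ≫ L.g k = ζ ≫ h :=
        (Category.assoc _ _ _).trans (congrArg (ζ ≫ ·) (L.πg k))
      have hζ : ζ default = p := geomPointAt_apply Y p _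
      have hξ : (ζ ≫ h) default ∈ Set.range i := by
        rw [← e, Scheme.Hom.comp_apply, Scheme.Hom.comp_apply, hζ]; exact hp
      have h' : (topPt (ζ ≫ pr k)).left (default : Spec (CommRingCat.of _)) ∈ eqLocus c₁ c₂ := by
        refine mem_eqLocus (pullSt_injective (L.g k) (H i F) _ e ?_)
        rw [← val_eq, ← val_eq, val_sectPull, ← val_map, ← hz _ ζ e]
        exact hsY.apply ζ rfl hξ
      rwa [show (topPt (ζ ≫ pr k)).left (default : Spec (CommRingCat.of _)) = pr k p from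
        (Scheme.Hom.comp_apply ζ (pr k) _).trans (congrArg (pr k) hζ)] at h')
  refine ⟨L.D.obj m, L.g m, L.fin m, L.fp m, ⟨sectRes (L.D.map b) (L.g k) (L.gw b) F z, ?_⟩, ?_⟩
  · intro Ω _ _ ζ hmem
    have e : (ζ ≫ L.D.map b) ≫ L.g k = ζ ≫ L.g m :=
      (Category.assoc _ _ _).trans (congrArg (ζ ≫ ·) (L.gw b))
    rw [val_sectRes (L.D.map b) (L.g k) (L.gw b) F ζ rfl e rfl, val_map,
      ← val_sectPull (L.g k) (H i F) (ζ ≫ L.D.map b) e, val_eq, val_eq]
    refine congrArg _ (germ_eq_of_mem_eqLocus ?_)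
    have hO : L.D.map b (ζ default) ∈ O := hb (show ζ default ∈ L.D.map b ⁻¹ᵁ (⊤ : (L.D.obj k).Opens) from trivial)
    refine hO.resolve_right fun hn => hn ?_
    show L.g k (L.D.map b (ζ default)) ∈ Set.range i
    rw [← Scheme.Hom.comp_apply, L.gw b]
    exact hmem
  · rintro _ ⟨p, rfl⟩
    exact ⟨pr m p, by rw [← Scheme.Hom.comp_apply, L.πg]⟩

variable (hmeet : ∀ C : Set X, IsClosed C → C.Nonempty → (Set.range i ∩ C).Nonempty)

include hmeet in
/-- The values of lifts are independent of the finite scheme and the point. -/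
theorem val_eq_of_lifts {T T' : Scheme.{u}} {π : T ⟶ X} {π' : T' ⟶ X} [IsFinite π] [IsFinite π']
    {s : ((EtCoh.pull π).obj F).obj.obj (op (EtCoh.top T))}
    {s' : ((EtCoh.pull π').obj F).obj.obj (op (EtCoh.top T'))}
    (hs : Lifts i F t π s) (hs' : Lifts i F t π' s') {Ω : Type u} [Field Ω] [IsSepClosed Ω]
    {ζ : Spec (CommRingCat.of Ω) ⟶ T} {ζ' : Spec (CommRingCat.of Ω) ⟶ T'}
    {ξ : Spec (CommRingCat.of Ω) ⟶ X} (e : ζ ≫ π = ξ) (e' : ζ' ≫ π' = ξ) :
    val π F ζ e s = val π' F ζ' e' s' := by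
  let w : pullback π π' ⟶ X := pullback.fst π π' ≫ π
  haveI : IsFinite (pullback.fst π π') := MorphismProperty.pullback_fst _ _ inferInstance
  haveI : IsFinite w := inferInstance
  haveI : UniversallyClosed w := inferInstance
  have hu := (hs.res (pullback.fst π π') (rfl : _ = w)).unique hmeet
    (hs'.res (pullback.snd π π') (pullback.condition.symm : _ = w))
  let ρ := pullback.lift ζ ζ' (e.trans e'.symm)
  have h1 : ρ ≫ pullback.fst π π' = ζ := pullback.lift_fst _ _ _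
  have h2 : ρ ≫ pullback.snd π π' = ζ' := pullback.lift_snd _ _ _
  have eρ : ρ ≫ w = ξ := by rw [← Category.assoc, h1, e]
  rw [← val_sectRes (pullback.fst π π') π (rfl : _ = w) F ρ h1 e eρ, hu,
    val_sectRes (pullback.snd π π') π' (pullback.condition.symm : _ = w) F ρ h2 e' eρ]

variable {K : Type u} [Finite K] {T : K → Scheme.{u}} (π : ∀ k, T k ⟶ X) [∀ k, IsFinite (π k)]
  (s : ∀ k, ((EtCoh.pull (π k)).obj F).obj.obj (op (EtCoh.top (T k))))
  (hcov : ∀ x : X, ∃ k, x ∈ Set.range (π k)) (hs : ∀ k, Lifts i F t (π k) (s k))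

/-- `a` has the values of the lifts. -/
def IsGood (U : X.Etale) (a : F.obj.obj (op U)) : Prop :=
  ∀ (k : K) (Ω : Type u) [Field Ω] [IsSepClosed Ω] (ζ : Spec (CommRingCat.of Ω) ⟶ T k)
    (φ : (Scheme.pointSmallEtale (ζ ≫ π k)).fiber.obj U),
      germ (ζ ≫ π k) F U φ a = val (π k) F ζ rfl (s k)

include hmeet hcov hs in
theorem exists_isGood (x : X) :
    ∃ (U : X.Etale) (a : F.obj.obj (op U)), IsGood π s U a ∧ x ∈ Set.range U.hom := by
  let Ω := AlgebraicClosure (X.residueField x)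
  let ξ : Spec (CommRingCat.of Ω) ⟶ X := closurePt x
  have hξ : ξ default = x :=
    (Scheme.Hom.comp_apply _ _ _).trans (Scheme.fromSpecResidueField_apply _ _)
  obtain ⟨k₀, q₀, hq₀⟩ := hcov x
  obtain ⟨ζ₀, e₀, -⟩ := exists_point_over (π k₀) ξ q₀ (hq₀.trans hξ.symm)
  obtain ⟨U, φ, a, ha⟩ := exists_germ_eq ξ F (val (π k₀) F ζ₀ e₀ (s k₀))
  let B : ∀ k, (T k).Etale := fun k => (EtCoh.bc (π k)).obj U
  let tB : ∀ k, B k ⟶ EtCoh.top (T k) := fun k =>
    MorphismProperty.Over.homMk (B k).hom (Category.comp_id _)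
  let c : ∀ k, ((EtCoh.pull (π k)).obj F).obj.obj (op (B k)) := fun k =>
    (FHom.unit (π k) F).app (B k) U (FHom.bcFst (π k) U) (FHom.bcFst_w (π k) U) a
  let c' : ∀ k, ((EtCoh.pull (π k)).obj F).obj.obj (op (B k)) := fun k =>
    ((EtCoh.pull (π k)).obj F).obj.map (tB k).op (s k)
  haveI hfst : ∀ k, IsFinite (FHom.bcFst (π k) U) := fun k =>
    MorphismProperty.pullback_fst _ _ inferInstance
  let Bad : Set U.left := ⋃ k, FHom.bcFst (π k) U '' (eqLocus (c k) (c' k))ᶜ
  let O : U.left.Opens := ⟨Badᶜ, (isClosed_iUnion_of_finite fun k =>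
    (FHom.bcFst (π k) U).isClosedMap _ (isOpen_eqLocus _ _).isClosed_compl).isOpen_compl⟩
  have hu₀ : φ.left (default : Spec (CommRingCat.of Ω)) ∈ O := by
    show φ.left (default : Spec (CommRingCat.of Ω)) ∉ Bad
    rw [Set.mem_iUnion]
    rintro ⟨k, q, hq, e⟩
    refine hq ?_
    obtain ⟨ρ, hρ, hρq⟩ := exists_point_over (FHom.bcFst (π k) U) φ.left q e
    let ζ : Spec (CommRingCat.of Ω) ⟶ T k := ρ ≫ (B k).hom
    have eζ : ζ ≫ π k = ξ := by
      rw [show ξ = φ.left ≫ U.hom from (Over.w φ).symm, ← hρ, Category.assoc, Category.assoc]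
      exact congrArg (ρ ≫ ·) (FHom.bcFst_w (π k) U).symm
    let ψ : (Scheme.pointSmallEtale ζ).fiber.obj (B k) :=
      (Over.homMk ρ rfl : Over.mk ζ ⟶ (Scheme.Etale.forget _).obj (B k))
    have hm : ψ.left (default : Spec (CommRingCat.of Ω)) ∈ eqLocus (c k) (c' k) := by
      refine mem_eqLocus (pullSt_injective (π k) F ζ eζ ?_)
      rw [pullSt_germ_unit, germ_res, eq_topPt ζ ((Scheme.pointSmallEtale ζ).fiber.map (tB k) ψ),
        ← val_eq, val_eq_of_lifts hmeet (hs k) (hs k₀) eζ e₀, ← ha]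
      exact congrArg (fun p => germ ξ F U p a) (Over.OverMorphism.ext hρ)
    exact hρq ▸ hm
  refine ⟨piece U O, F.obj.map (pieceHom U O).op a, fun k Ω' _ _ ζ φ' => ?_,
    ⟨φ.left (default : Spec (CommRingCat.of Ω)), hu₀⟩, ?_⟩
  · rw [germ_res]
    let φ'' := (Scheme.pointSmallEtale (ζ ≫ π k)).fiber.map (pieceHom U O) φ'
    let ψ := fiberBcEquiv (π k) ζ U φ''
    have hp : ptComp (π k) ζ rfl (FHom.bcFst (π k) U) (FHom.bcFst_w (π k) U) ψ = φ'' :=
      Over.OverMorphism.ext (pullback.lift_fst _ _ _)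
    have hm : ψ.left (default : Spec (CommRingCat.of Ω')) ∈ eqLocus (c k) (c' k) := by
      by_contra hn
      refine (φ'.left (default : Spec (CommRingCat.of Ω'))).2 (Set.mem_iUnion.2 ⟨k, _, hn, ?_⟩)
      exact congrArg (fun p => p.left (default : Spec (CommRingCat.of Ω'))) hp
    have h := congrArg (pullSt (π k) F ζ rfl) (germ_eq_of_mem_eqLocus hm)
    rw [pullSt_germ_unit, hp, germ_res, eq_topPt ζ ((Scheme.pointSmallEtale ζ).fiber.map (tB k) ψ)] at h
    exact h
  · exact ((congrArg (fun f => f (default : Spec (CommRingCat.of Ω))) (Over.w φ)).trans hξ)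

include hmeet hcov hs in
/-- Lifts on a finite covering family glue to a global section. -/
theorem exists_eq : ∃ s₀, (η i F).hom.app (op (EtCoh.top X)) s₀ = t := by
  classical
  choose U a ha hx using exists_isGood hmeet π s hcov hs
  let f : ∀ x, U x ⟶ EtCoh.top X := fun x => MorphismProperty.Over.homMk (U x).hom (Category.comp_id _)
  have hP : (Presieve.ofArrows U f).IsSheafFor (F.obj ⋙ forget AddCommGrpCat.{u + 1}) := by
    rw [Presieve.isSheafFor_iff_generate]
    refine isSheaf_forget F _ (mem_topology_of_forall_exists _ fun x => ?_)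
    obtain ⟨v, hv⟩ := hx x
    exact ⟨U x, f x, v, Sieve.le_generate _ _ _ (Presieve.ofArrows.mk x), hv⟩
  rw [Presieve.isSheafFor_arrows_iff] at hP
  obtain ⟨σ, hσ, -⟩ := hP a fun x x' W gx gx' _ => by
    refine eq_of_eqLocus fun w => ?_
    obtain ⟨k, q, hq⟩ := hcov (W.hom w)
    let ζ := geomPointAt (T k) q
    obtain ⟨φ, hφ⟩ := exists_fiber_point (ζ ≫ π k) W w
      (hq.symm.trans (congrArg (π k) (geomPointAt_apply (T k) q _)).symm)
    rw [← hφ]
    refine mem_eqLocus ?_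
    show germ (ζ ≫ π k) F W φ (F.obj.map gx.op (a x)) = germ (ζ ≫ π k) F W φ (F.obj.map gx'.op (a x'))
    rw [germ_res, germ_res, ha x k _ ζ, ha x' k _ ζ]
  refine ⟨σ, eq_of_eqLocus fun p => ?_⟩
  by_cases hp : p ∈ Set.range i
  · obtain ⟨k, q, hq⟩ := hcov p
    obtain ⟨v, hv⟩ := hx p
    let ζ := geomPointAt (T k) q
    have hqp : (ζ ≫ π k) default = p := by
      rw [Scheme.Hom.comp_apply, geomPointAt_apply]; exact hq
    obtain ⟨φ, hφ⟩ := exists_fiber_point (ζ ≫ π k) (U p) v (hv.trans hqp.symm)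
    have hpt : (topPt (ζ ≫ π k)).left (default : Spec (CommRingCat.of _)) = p := hqp
    rw [← hpt]
    refine mem_eqLocus ?_
    rw [← germ_naturality, ← eq_topPt (ζ ≫ π k) ((Scheme.pointSmallEtale (ζ ≫ π k)).fiber.map (f p) φ),
      ← germ_res, show F.obj.map (f p).op σ = a p from hσ p, ha p k _ ζ φ,
      eq_topPt (ζ ≫ π k) ((Scheme.pointSmallEtale (ζ ≫ π k)).fiber.map (f p) φ)]
    exact hs k _ ζ ((Scheme.Hom.comp_apply _ _ _).symm.trans hqp ▸ hp)
  · let ξ := geomPointAt X p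
    have hξ : ξ default = p := geomPointAt_apply X p _
    rw [← show (topPt ξ).left (default : Spec (CommRingCat.of _)) = p from hξ]
    refine mem_eqLocus ?_
    haveI := AddCommGrpCat.subsingleton_of_isZero
      (EtaleSite.isZero_stalk_push i ξ (hξ.symm ▸ hp) ((EtCoh.pull i).obj F))
    exact Subsingleton.elim _ _

/-- Gabber's criterion. -/
theorem bijective_η [CompactSpace X] [QuasiSeparatedSpace X]
    (hfin : ∀ (X' : Scheme.{u}) (p : X' ⟶ X) [IsFinite p] (x : X'),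
      _root_.IsConnected (p ⁻¹' Set.range i ∩ closure {x})) :
    Function.Bijective ((η i F).hom.app (op (EtCoh.top X))) := by
  have hmeet : ∀ C : Set X, IsClosed C → C.Nonempty → (Set.range i ∩ C).Nonempty := by
    rintro C hC ⟨x, hx⟩
    obtain ⟨p, hp, hpx⟩ := (hfin X (𝟙 X) x).1
    exact ⟨p, hp, closure_minimal (Set.singleton_subset_iff.2 hx) hC hpx⟩
  refine ⟨fun s₁ s₂ h => eq_of_η_eq hmeet h, fun t => ?_⟩
  have hstage : ∀ x : X, ∃ (T : Scheme.{u}) (π : T ⟶ X) (_ : IsFinite π)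
      (_ : LocallyOfFinitePresentation π) (s : _), Lifts i F t π s ∧ x ∈ Set.range π := fun x => by
    obtain ⟨Y, h, _, y₀, hy₀, hY⟩ := GabberCover.exists_cover_sh x
    haveI : CompactSpace Y := QuasiCompact.compactSpace_of_compactSpace h
    haveI : QuasiSeparatedSpace Y := quasiSeparatedSpace_of_quasiSeparated h
    obtain ⟨sY, hsY⟩ := GabberSection.exists_lifts hY i F t h
      (GabberLimit.isConnected_inter_closure h i.isClosedEmbedding.isClosed_range hfin)
    obtain ⟨T, π, hf, hfp, ⟨s, hs⟩, hr⟩ := exists_lifts_stage hsY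
    exact ⟨T, π, hf, hfp, s, hs, hr ⟨y₀, hy₀⟩⟩
  choose T π hf hfp s hs hr using hstage
  have hcons : ∀ x, IsConstructible (Set.range (π x)) := fun x => by
    haveI := hf x
    haveI := hfp x
    haveI : CompactSpace (T x) := QuasiCompact.compactSpace_of_compactSpace (π x)
    rw [← Set.image_univ]
    exact (π x).isConstructible_image IsConstructible.univ
  obtain ⟨K, hK⟩ := exists_finite_subcover_of_isConstructible _ hcons
    (Set.eq_univ_of_forall fun x => Set.mem_iUnion.2 ⟨x, hr x⟩)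
  haveI : ∀ k : ↥K, IsFinite (π k.1) := fun k => hf k.1
  exact exists_eq hmeet (fun k : ↥K => π k.1) (fun k => s k.1) (fun x => by
    obtain ⟨k, hk, hx⟩ := Set.mem_iUnion₂.1 (hK.ge (Set.mem_univ x))
    exact ⟨⟨k, hk⟩, hx⟩) fun k => hs k.1

end Groth.Agent.EtConsAb.GabberH0
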