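import Groth.Agent.EtConsAb.PullVal
import Groth.Agent.EtLimit.BaseChange
import Groth.Agent.EtaleSite.EtaleStalkHens
import Groth.Agent.EtaleSite.PushFiber
import Groth.Agent.S0095
import Groth.Agent.S0167
import Groth.Agent.EtConsAb.GabberLift
import Groth.Agent.EtaleSite.FiniteBC
import Mathlib.AlgebraicGeometry.AlgClosed.Basic

/-!
# Direct images along proper morphisms and sections on geometric fibres

Every global section of the restriction of a sheaf to a geometric fibre of a proper morphism is the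
restriction of a section over an étale neighbourhood, and a germ of the direct image vanishes as soon
as it vanishes on the fibre.
-/

set_option autoImplicit false
set_option linter.style.haveILetI false
set_option backward.isDefEq.respectTransparency false

universe u

open CategoryTheory CategoryTheory.Limits AlgebraicGeometry Opposite IsLocalRing

noncomputable section

namespace Groth.Agent.EtConsAb.ProperFibre

open Groth.Agent Groth.Agent.EtaleSite Groth.Agent.EtLimit Groth.Agent.EtConsAb.PullVal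

attribute [local instance] EtPres.cat EtPres.cofiltered

theorem bijective_sectPull_of_bijective {A B : Scheme.{u}} (f : A ⟶ B) (G : EtCoh.Ab B)
    (h : Function.Bijective (((EtCoh.pullPushAdj f).unit.app G).hom.app (op (EtCoh.top B)))) :
    Function.Bijective (sectPull f G) := by
  let τ : EtCoh.top A ⟶ (EtCoh.bc f).obj (EtCoh.top B) :=
    FHom.toBc (U := EtCoh.top B) (f := f) f (topW f)
  haveI : IsIso τ := ⟨⟨(EtCore.topIsTerminal A).from _, (EtCore.topIsTerminal A).hom_ext _ _,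
    (EtCore.bcTopIsTerminal f).hom_ext _ _⟩⟩
  exact (ConcreteCategory.bijective_of_isIso (((EtCoh.pull f).obj G).obj.map τ.op)).comp h

variable {X Y : Scheme.{u}} (f : X ⟶ Y) {Ω : Type u} [Field Ω] [IsSepClosed Ω]
  (ξ : Spec (CommRingCat.of Ω) ⟶ Y)

/-- The morphism from the fibre to the base change of a neighbourhood. -/
def toNbhd {V : Y.Etale} (φ : (Scheme.pointSmallEtale ξ).fiber.obj V) :
    pullback f ξ ⟶ ((EtCoh.bc f).obj V).left :=
  pullback.lift (pullback.snd f ξ ≫ φ.left) (pullback.fst f ξ) (by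
    rw [Category.assoc, pullback.condition]
    exact congrArg (pullback.snd f ξ ≫ ·) (Over.w φ))

theorem toNbhd_fst {V : Y.Etale} (φ : (Scheme.pointSmallEtale ξ).fiber.obj V) :
    toNbhd f ξ φ ≫ FHom.bcFst f V = pullback.snd f ξ ≫ φ.left :=
  pullback.lift_fst _ _ _

theorem toNbhd_hom {V : Y.Etale} (φ : (Scheme.pointSmallEtale ξ).fiber.obj V) :
    toNbhd f ξ φ ≫ ((EtCoh.bc f).obj V).hom = pullback.fst f ξ :=
  pullback.lift_snd _ _ _

/-- The point of the base change of a neighbourhood given by a point of the fibre. -/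
def nbhdPt {V : Y.Etale} (φ : (Scheme.pointSmallEtale ξ).fiber.obj V) {Ω' : Type u} [Field Ω']
    [IsSepClosed Ω'] (ζ : Spec (CommRingCat.of Ω') ⟶ pullback f ξ) :
    (Scheme.pointSmallEtale (ζ ≫ pullback.fst f ξ)).fiber.obj ((EtCoh.bc f).obj V) :=
  (Over.homMk (ζ ≫ toNbhd f ξ φ)
    ((Category.assoc _ _ _).trans (congrArg (ζ ≫ ·) (toNbhd_hom f ξ φ))) :
    Over.mk (ζ ≫ pullback.fst f ξ) ⟶ (Scheme.Etale.forget X).obj ((EtCoh.bc f).obj V))

variable {F : EtCoh.Ab X}

/-- A germ of the direct image vanishing on the fibre is zero. -/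
theorem germ_eq_zero [UniversallyClosed f] {V : Y.Etale}
    (φ : (Scheme.pointSmallEtale ξ).fiber.obj V) (s : F.obj.obj (op ((EtCoh.bc f).obj V)))
    (h : ∀ (Ω' : Type u) [Field Ω'] [IsSepClosed Ω'] (ζ : Spec (CommRingCat.of Ω') ⟶ pullback f ξ),
      germ (ζ ≫ pullback.fst f ξ) F _ (nbhdPt f ξ φ ζ) s = 0) :
    germ ξ ((EtCoh.push f).obj F) V φ s = 0 := by
  refine germ_push_eq_zero f ξ φ s fun q hq => ?_
  obtain ⟨r, hr, -⟩ := Scheme.Pullback.exists_preimage_pullback (f := pullback.fst V.hom f)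
    (g := φ.left) q (default : Spec (CommRingCat.of Ω)) hq
  let σ := pullback.fst (pullback.fst V.hom f) φ.left
  let σ' := pullback.snd (pullback.fst V.hom f) φ.left
  let l : pullback (pullback.fst V.hom f) φ.left ⟶ pullback f ξ :=
    pullback.lift (σ ≫ pullback.snd V.hom f) σ' (by
      rw [Category.assoc, ← pullback.condition, ← Category.assoc, pullback.condition, Category.assoc]
      exact congrArg (σ' ≫ ·) (Over.w φ))
  have hl : l ≫ toNbhd f ξ φ = σ := by
    refine pullback.hom_ext ?_ ?_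
    · rw [Category.assoc, toNbhd_fst, ← Category.assoc, pullback.lift_snd]
      exact pullback.condition.symm
    · rw [Category.assoc]
      exact (congrArg (l ≫ ·) (toNbhd_hom f ξ φ)).trans (pullback.lift_fst _ _ _)
  let ζ := geomPointAt (pullback f ξ) (l r)
  refine ⟨_, inferInstance, inferInstance, ζ ≫ pullback.fst f ξ, nbhdPt f ξ φ ζ, ?_, h _ ζ⟩
  show (ζ ≫ toNbhd f ξ φ) _ = q
  rw [Scheme.Hom.comp_apply, geomPointAt_apply, ← Scheme.Hom.comp_apply, hl]
  exact hr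

/-- `s` restricts to `x` on the fibre. -/
def Rep (x : ((EtCoh.pull (pullback.fst f ξ)).obj F).obj.obj (op (EtCoh.top (pullback f ξ))))
    {V : Y.Etale} (φ : (Scheme.pointSmallEtale ξ).fiber.obj V)
    (s : F.obj.obj (op ((EtCoh.bc f).obj V))) : Prop :=
  ∀ (Ω' : Type u) [Field Ω'] [IsSepClosed Ω'] (ζ : Spec (CommRingCat.of Ω') ⟶ pullback f ξ),
    val (pullback.fst f ξ) F ζ rfl x = germ (ζ ≫ pullback.fst f ξ) F _ (nbhdPt f ξ φ ζ) s

variable (F) in
/-- Restriction of a section to the fibre. -/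
def resFibre {V : Y.Etale} (φ : (Scheme.pointSmallEtale ξ).fiber.obj V) :
    F.obj.obj (op ((EtCoh.bc f).obj V)) ⟶
      ((EtCoh.pull (pullback.fst f ξ)).obj F).obj.obj (op (EtCoh.top (pullback f ξ))) :=
  (FHom.unit (pullback.fst f ξ) F).app (EtCoh.top (pullback f ξ)) ((EtCoh.bc f).obj V)
    (toNbhd f ξ φ) ((toNbhd_hom f ξ φ).trans (Category.id_comp _).symm)

theorem rep_resFibre {V : Y.Etale} (φ : (Scheme.pointSmallEtale ξ).fiber.obj V)
    (s : F.obj.obj (op ((EtCoh.bc f).obj V))) : Rep f ξ (resFibre f ξ F φ s) φ s := fun Ω' _ _ ζ => by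
  rw [val_eq, resFibre, pullSt_germ_unit]
  rfl

/-- The value of a section coming from a stage. -/
theorem val_resBc {T : Scheme.{u}} {σ : T ⟶ Y} (P : EtPres σ) [QuasiCompact f] [QuasiSeparated f]
    (F : EtCoh.Ab X) (j : P.I) (z : F.obj.obj (op (stageObj (P.bcp f) j)))
    {Ω' : Type u} [Field Ω'] [IsSepClosed Ω'] (ζ : Spec (CommRingCat.of Ω') ⟶ pullback f σ)
    {ρ : Spec (CommRingCat.of Ω') ⟶ X} (e : ζ ≫ pullback.fst f σ = ρ)
    (w : Spec (CommRingCat.of Ω') ⟶ ((EtCoh.bc f).obj (P.st j)).left)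
    (hw : w = ζ ≫ P.bcπ f j) (hwρ : w ≫ ((EtCoh.bc f).obj (P.st j)).hom = ρ) :
    val (pullback.fst f σ) F ζ e (P.resBc f F j z) =
      germ ρ F ((EtCoh.bc f).obj (P.st j))
        (Over.homMk w hwρ : Over.mk ρ ⟶ (Scheme.Etale.forget X).obj ((EtCoh.bc f).obj (P.st j)))
        (F.obj.map (P.ofSt f j).op z) := by
  rw [val_eq, EtPres.resBc, toLim]
  erw [pullSt_germ_unit]
  rw [germ_res]
  refine congrArg (fun p => germ ρ F (stageObj (P.bcp f) j) p z) (Over.OverMorphism.ext ?_)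
  show ζ ≫ P.bcπ f j = w ≫ 𝟙 _
  rw [Category.comp_id, hw]

/-- Composing three descents. -/
theorem val_chain {P P₀ X₀ XR : Scheme.{u}} {pr : P ⟶ X} {n : P₀ ⟶ P} {q : P₀ ⟶ X₀} {i : X₀ ⟶ XR}
    {fR : XR ⟶ X} (hn : n ≫ pr = q ≫ i ≫ fR) {m : P ⟶ P₀} (hmn : m ≫ n = 𝟙 P) {lR : P ⟶ XR}
    (hlR : m ≫ q ≫ i = lR) (G : EtCoh.Ab X)
    {x : ((EtCoh.pull pr).obj G).obj.obj (op (EtCoh.top P))}
    {x₁ : ((EtCoh.pull (q ≫ i ≫ fR)).obj G).obj.obj (op (EtCoh.top P₀))}
    {x₀ : ((EtCoh.pull (i ≫ fR)).obj G).obj.obj (op (EtCoh.top X₀))}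
    {xR : ((EtCoh.pull fR).obj G).obj.obj (op (EtCoh.top XR))}
    (hx₁ : sectRes n pr hn G x = x₁) (h₁ : sectRes q (i ≫ fR) rfl G x₀ = x₁)
    (h₂ : sectRes i fR rfl G xR = x₀) {Ω' : Type u} [Field Ω'] [IsSepClosed Ω']
    (ζ : Spec (CommRingCat.of Ω') ⟶ P) {ρ : Spec (CommRingCat.of Ω') ⟶ X} (e : ζ ≫ pr = ρ)
    (e' : (ζ ≫ lR) ≫ fR = ρ) : val pr G ζ e x = val fR G (ζ ≫ lR) e' xR := by
  have hζ : (ζ ≫ m) ≫ n = ζ := by rw [Category.assoc, hmn, Category.comp_id]
  have e₂ : ((ζ ≫ m) ≫ q) ≫ i = ζ ≫ lR := by simp [← hlR]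
  have e₄ : ((ζ ≫ m) ≫ q) ≫ i ≫ fR = ρ := by rw [← Category.assoc, e₂, e']
  have e₅ : (ζ ≫ m) ≫ q ≫ i ≫ fR = ρ := (Category.assoc _ _ _).symm.trans e₄
  rw [← val_sectRes n pr hn G (ζ ≫ m) hζ e e₅, hx₁, ← h₁,
    val_sectRes q (i ≫ fR) rfl G (ζ ≫ m) rfl e₄ e₅, ← h₂,
    val_sectRes i fR rfl G ((ζ ≫ m) ≫ q) e₂ e' e₄]

/-- A section on `P` comes from `XR` once the two restriction maps are surjective. -/
theorem exists_chain {P P₀ X₀ XR : Scheme.{u}} {pr : P ⟶ X} {n : P₀ ⟶ P} {q : P₀ ⟶ X₀} {i : X₀ ⟶ XR}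
    {fR : XR ⟶ X} (hn : n ≫ pr = q ≫ i ≫ fR) {m : P ⟶ P₀} (hmn : m ≫ n = 𝟙 P) {lR : P ⟶ XR}
    (hlR : m ≫ q ≫ i = lR) (G : EtCoh.Ab X)
    (hq : Function.Bijective (sectPull q ((EtCoh.pull (i ≫ fR)).obj G)))
    (hi : Function.Bijective (sectPull i ((EtCoh.pull fR).obj G)))
    (x : ((EtCoh.pull pr).obj G).obj.obj (op (EtCoh.top P))) :
    ∃ xR : ((EtCoh.pull fR).obj G).obj.obj (op (EtCoh.top XR)),
      ∀ (Ω' : Type u) [Field Ω'] [IsSepClosed Ω'] (ζ : Spec (CommRingCat.of Ω') ⟶ P)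
        (ρ : Spec (CommRingCat.of Ω') ⟶ X) (e : ζ ≫ pr = ρ) (e' : (ζ ≫ lR) ≫ fR = ρ),
        val pr G ζ e x = val fR G (ζ ≫ lR) e' xR := by
  obtain ⟨x₁, hx₁⟩ : ∃ x₁, sectRes n pr hn G x = x₁ := ⟨_, rfl⟩
  let κ₁ := FHom.κ q (i ≫ fR) rfl G
  obtain ⟨x₀, hx₀⟩ := hq.2 (κ₁.inv.hom.app (op (EtCoh.top _)) x₁)
  have h₁ : sectRes q (i ≫ fR) rfl G x₀ = x₁ := by
    show κ₁.hom.hom.app (op (EtCoh.top _)) (sectPull q _ x₀) = x₁
    rw [hx₀]
    exact FHom.iso_inv_hom_apply κ₁ _ x₁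
  let κ₂ := FHom.κ i fR rfl G
  obtain ⟨xR, hxR⟩ := hi.2 (κ₂.inv.hom.app (op (EtCoh.top _)) x₀)
  have h₂ : sectRes i fR rfl G xR = x₀ := by
    show κ₂.hom.hom.app (op (EtCoh.top _)) (sectPull i _ xR) = x₀
    rw [hxR]
    exact FHom.iso_inv_hom_apply κ₂ _ x₀
  exact ⟨xR, fun Ω' _ _ ζ ρ e e' => val_chain hn hmn hlR G hx₁ h₁ h₂ ζ e e'⟩

/-- Descent to a neighbourhood through a strict localisation, abstractly. -/
theorem exists_rep_of_descent [QuasiCompact f] [QuasiSeparated f] (F : EtCoh.Ab X) {T K : Scheme.{u}}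
    {σR : T ⟶ Y} (Pr : EtPres σR) (c : K ⟶ T) (e : Spec (CommRingCat.of Ω) ⟶ K) (he : e ≫ c ≫ σR = ξ)
    (hq : ∀ G : EtCoh.Ab (pullback (pullback.snd f σR) c), Function.Bijective
      (sectPull (pullback.fst (pullback.snd (pullback.snd f σR) c) e) G))
    (hi : ∀ G : EtCoh.Ab (pullback f σR), Function.Bijective
      (sectPull (pullback.fst (pullback.snd f σR) c) G))
    (x : ((EtCoh.pull (pullback.fst f ξ)).obj F).obj.obj (op (EtCoh.top (pullback f ξ)))) :
    ∃ (V : Y.Etale) (φ : (Scheme.pointSmallEtale ξ).fiber.obj V)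
      (s : F.obj.obj (op ((EtCoh.bc f).obj V))), Rep f ξ x φ s := by
  let XR := pullback f σR
  let fR : XR ⟶ X := pullback.fst f σR
  let g : XR ⟶ T := pullback.snd f σR
  let X₀ := pullback g c
  let i : X₀ ⟶ XR := pullback.fst g c
  let a₀ : X₀ ⟶ K := pullback.snd g c
  let P := pullback f ξ
  let pr : P ⟶ X := pullback.fst f ξ
  let lR : P ⟶ XR := pullback.lift pr (pullback.snd f ξ ≫ e ≫ c) (by
    rw [pullback.condition, Category.assoc, Category.assoc, he])
  let l₀ : P ⟶ X₀ := pullback.lift lR (pullback.snd f ξ ≫ e) (by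
    rw [pullback.lift_snd, Category.assoc])
  let m : P ⟶ pullback a₀ e := pullback.lift l₀ (pullback.snd f ξ) (pullback.lift_snd _ _ _)
  let gi : X₀ ⟶ X := i ≫ fR
  let q : pullback a₀ e ⟶ X₀ := pullback.fst a₀ e
  let n : pullback a₀ e ⟶ P := pullback.lift (q ≫ gi) (pullback.snd a₀ e) (by
    show (q ≫ i ≫ fR) ≫ f = _
    rw [← he, Category.assoc, Category.assoc, pullback.condition, ← Category.assoc i,
      pullback.condition, Category.assoc, ← Category.assoc q, pullback.condition, Category.assoc])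
  have hlR : lR ≫ fR = pr := pullback.lift_fst _ _ _
  have hl₀ : l₀ ≫ i = lR := pullback.lift_fst _ _ _
  have hm : m ≫ q = l₀ := pullback.lift_fst _ _ _
  have hmn : m ≫ n = 𝟙 P := by
    refine pullback.hom_ext ?_ ?_
    · rw [Category.assoc, pullback.lift_fst, ← Category.assoc, hm, Category.id_comp]
      show l₀ ≫ i ≫ fR = pr
      rw [← Category.assoc, hl₀, hlR]
    · rw [Category.assoc, pullback.lift_snd, pullback.lift_snd, Category.id_comp]
  have hn : n ≫ pr = q ≫ gi := pullback.lift_fst _ _ _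
  have hm' : m ≫ q ≫ i = lR := by rw [← Category.assoc, hm, hl₀]
  obtain ⟨xR, hxR⟩ := exists_chain (pr := pr) (fR := fR) hn hmn hm' F
    (hq _) (hi _) x
  -- descend to a stage
  obtain ⟨j, z, hz⟩ : ∃ (j : Pr.I) (z : F.obj.obj (op (stageObj (Pr.bcp f) j))),
      Pr.resBc f F j z = xR := Pr.resBc_surjective f F xR
  let φ : (Scheme.pointSmallEtale ξ).fiber.obj (Pr.st j) :=
    (Over.homMk (e ≫ c ≫ Pr.stπ j) (by
      show (e ≫ c ≫ Pr.stπ j) ≫ (Pr.st j).hom = ξ
      rw [Category.assoc, Category.assoc, Pr.stπ_w j]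
      exact (congrArg (fun r => e ≫ c ≫ r) (Category.id_comp σR)).trans he) :
      Over.mk ξ ⟶ (Scheme.Etale.forget Y).obj (Pr.st j))
  have hpt : lR ≫ Pr.bcπ f j = toNbhd f ξ φ := by
    refine pullback.hom_ext ?_ ?_
    · exact (Category.assoc _ _ _).trans ((congrArg (lR ≫ ·) (Pr.bcπ_fst f j)).trans
        ((Category.assoc _ _ _).symm.trans ((congrArg (· ≫ Pr.π.app j) (pullback.lift_snd _ _ _)).trans
          ((Category.assoc _ _ _).trans ((congrArg (pullback.snd f ξ ≫ ·) (Category.assoc _ _ _)).trans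
            (toNbhd_fst f ξ φ).symm)))))
    · exact (Category.assoc _ _ _).trans ((congrArg (lR ≫ ·) (Pr.bcπ_bcp f j)).trans
        (hlR.trans (toNbhd_hom f ξ φ).symm))
  refine ⟨Pr.st j, φ, F.obj.map (Pr.ofSt f j).op z, fun Ω' _ _ ζ => ?_⟩
  have e₃ : (ζ ≫ lR) ≫ fR = ζ ≫ pullback.fst f ξ := (Category.assoc _ _ _).trans (congrArg (ζ ≫ ·) hlR)
  refine (hxR Ω' ζ _ rfl e₃).trans ?_
  rw [← hz]
  exact val_resBc f Pr F j z (ζ ≫ lR) e₃ (ζ ≫ toNbhd f ξ φ)
    ((congrArg (ζ ≫ ·) hpt.symm).trans (Category.assoc _ _ _).symm)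
    ((Category.assoc _ _ _).trans (congrArg (ζ ≫ ·) (toNbhd_hom f ξ φ)))

/-- Every section on the fibre of a proper morphism comes from a neighbourhood. -/
theorem exists_rep [IsProper f] (F : EtCoh.Ab X)
    (x : ((EtCoh.pull (pullback.fst f ξ)).obj F).obj.obj (op (EtCoh.top (pullback f ξ)))) :
    ∃ (V : Y.Etale) (φ : (Scheme.pointSmallEtale ξ).fiber.obj V)
      (s : F.obj.obj (op ((EtCoh.bc f).obj V))), Rep f ξ x φ s := by
  obtain ⟨_, _, _, hR⟩ := EtaleLocalRing.exists_isStrictHenselization ξ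
  let y := ξ default
  let R := EtBase.etaleLocalRing ξ
  haveI := hR
  haveI : HenselianLocalRing R :=
    Hensel.IsStrictHenselization.henselian (R := Y.presheaf.stalk y) (S := R)
  haveI hsc : IsSepClosure (ResidueField (Y.presheaf.stalk y)) (ResidueField R) :=
    Hensel.IsStrictHenselization.isSepClosure
  haveI : IsSepClosed (ResidueField R) := hsc.sep_closed
  let σR := Hens2.specOf Y y R
  let k : Type u := ResidueField R
  let c : Spec (CommRingCat.of k) ⟶ Spec (CommRingCat.of R) :=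
    Spec.map (CommRingCat.ofHom (Ideal.Quotient.mk (maximalIdeal R)))
  -- the geometric point factors through the closed point
  obtain ⟨⟨y', a'⟩, hξ'⟩ := (Scheme.SpecToEquivOfField Ω Y).symm.surjective ξ
  have hy' : y' = y := by
    show y' = ξ default
    rw [← hξ']
    exact ((Scheme.Hom.comp_apply _ _ _).trans (Scheme.fromSpecResidueField_apply _ _)).symm
  subst hy'
  letI : Algebra (Y.residueField y) Ω := a'.hom.toAlgebra
  letI : Algebra (ResidueField (Y.presheaf.stalk y)) Ω := a'.hom.toAlgebra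
  haveI := hsc.separable
  let ψ : k →ₐ[ResidueField (Y.presheaf.stalk y)] Ω := IsSepClosed.lift
  let ψ' : CommRingCat.of k ⟶ CommRingCat.of Ω := CommRingCat.ofHom ψ.toRingHom
  have hτ : Spec.map ψ' ≫ c ≫ σR = ξ := by
    refine Eq.trans ?_ hξ'
    show Spec.map ψ' ≫ c ≫ Spec.map _ ≫ Y.fromSpecStalk y =
      Spec.map a' ≫ Spec.map (Y.residue y) ≫ Y.fromSpecStalk y
    simp only [c, ← Category.assoc, ← Spec.map_comp]
    congr 2
    ext r
    exact ψ.commutes (residue _ r)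
  let XR := pullback f σR
  let g : XR ⟶ Spec (CommRingCat.of R) := pullback.snd f σR
  let a₀ : pullback g c ⟶ Spec (CommRingCat.of k) := pullback.snd g c
  letI : Algebra k Ω := ψ.toRingHom.toAlgebra
  obtain ⟨Pr⟩ := nonempty_etPres Y y R
  exact exists_rep_of_descent f ξ F Pr c
    (Spec.map (CommRingCat.ofHom (algebraMap k Ω))) hτ
    (fun G => bijective_sectPull_of_bijective _ _ (S0095.result (K := Ω) a₀ G))
    (fun G => bijective_sectPull_of_bijective _ _ (S0167.result R XR g G)) x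

end Groth.Agent.EtConsAb.ProperFibre

namespace Groth.Agent.EtConsAb.ProperFibre

open Groth.Agent Groth.Agent.EtaleSite Groth.Agent.EtLimit Groth.Agent.EtConsAb.PullVal
open Groth.Agent.EtConsAb.GabberLift (eqLocus isOpen_eqLocus mem_eqLocus germ_eq_of_mem_eqLocus)

/-- Germs of a direct image along a proper morphism are detected at the rational points of the fibre. -/
theorem eq_zero_of_cmpAt_proper {X Y : Scheme.{u}} (f : X ⟶ Y) [IsProper f] {L : Type u} [Field L]
    [IsAlgClosed L] (η : Spec (CommRingCat.of L) ⟶ Y) (F : EtCoh.Ab X)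
    (p : (EtCoh.stalk η).obj ((EtCoh.push f).obj F))
    (h : ∀ ρ (hρ : ρ ≫ f = η), cmpAt f ρ hρ F p = 0) : p = 0 := by
  obtain ⟨V, φ, s, rfl⟩ := exists_germ_eq η ((EtCoh.push f).obj F) p
  haveI : LocallyOfFiniteType (pullback.snd f η) := MorphismProperty.pullback_snd _ _ inferInstance
  haveI : JacobsonSpace ↥(pullback f η) := LocallyOfFiniteType.jacobsonSpace (pullback.snd f η)
  let S : Set ↥(pullback f η) := toNbhd f η φ ⁻¹' eqLocus (G := F) (U := (EtCoh.bc f).obj V) s 0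
  have hS : S = Set.univ := by
    by_contra hne
    obtain ⟨y, hy, hyc⟩ := nonempty_inter_closedPoints
      (Set.nonempty_compl.2 hne) ((isOpen_eqLocus _ _).preimage (toNbhd f η φ).continuous).isClosed_compl.isLocallyClosed
    let ζ : Spec (CommRingCat.of L) ⟶ pullback f η := pointOfClosedPoint (pullback.snd f η) y hyc
    have hζ : ζ ≫ pullback.snd f η = 𝟙 _ := pointOfClosedPoint_comp _ _ _
    have hζy : ζ (default : Spec (CommRingCat.of L)) = y := pointOfClosedPoint_apply _ _ _ _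
    have hρ : (ζ ≫ pullback.fst f η) ≫ f = η := by
      rw [Category.assoc, pullback.condition, ← Category.assoc, hζ, Category.id_comp]
    have h0 := h _ hρ
    rw [cmpAt_germ] at h0
    refine hy ?_
    have hpt : (bcPt f (ζ ≫ pullback.fst f η) hρ V φ).left = ζ ≫ toNbhd f η φ := by
      refine pullback.hom_ext ((pullback.lift_fst _ _ _).trans ?_) ((pullback.lift_snd _ _ _).trans ?_)
      · exact ((Category.assoc _ _ _).trans ((congrArg (ζ ≫ ·) (toNbhd_fst f η φ)).trans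
          ((Category.assoc _ _ _).symm.trans ((congrArg (· ≫ φ.left) hζ).trans (Category.id_comp _))))).symm
      · exact ((Category.assoc _ _ _).trans (congrArg (ζ ≫ ·) (toNbhd_hom f η φ))).symm
    have hm : (bcPt f (ζ ≫ pullback.fst f η) hρ V φ).left (default : Spec (CommRingCat.of L)) ∈
        eqLocus (G := F) (U := (EtCoh.bc f).obj V) s 0 := mem_eqLocus (h0.trans (map_zero _).symm)
    rw [hpt, Scheme.Hom.comp_apply] at hm
    replace hm := hζy ▸ hm
    exact hm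
  refine germ_eq_zero f η φ s fun Ω' _ _ ζ => ?_
  refine (germ_eq_of_mem_eqLocus ?_).trans (map_zero _)
  have hmem : ζ (default : Spec (CommRingCat.of Ω')) ∈ S := hS ▸ trivial
  exact hmem

/-- The degree zero proper base change. -/
theorem isIso_baseChange0_proper {X Y X' Y' : Scheme.{u}} (f : X ⟶ Y) [IsProper f]
    (f' : X' ⟶ Y') (g' : X' ⟶ X) (g : Y' ⟶ Y) (h : IsPullback g' f' f g) (F : EtCoh.Ab X) :
    IsIso (EtCoh.baseChange0 f g f' g' h.w F) := by
  haveI : IsProper f' := MorphismProperty.of_isPullback h inferInstance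
  refine isIso_of_stalk _ fun Ω _ _ η₀ => ?_
  let L := AlgebraicClosure Ω
  let σ : Spec (CommRingCat.of L) ⟶ Spec (CommRingCat.of Ω) :=
    Spec.map (CommRingCat.ofHom (algebraMap Ω L))
  refine (NatIso.isIso_map_iff (stalkExtIso σ η₀) _).2 ?_
  let η' := σ ≫ η₀
  let ξ := η' ≫ g
  let e := (stalkPullIso g η').app ((EtCoh.push f).obj F)
  let T := (EtCoh.stalk η').map (EtCoh.baseChange0 f g f' g' h.w F)
  suffices Function.Bijective T from (ConcreteCategory.isIso_iff_bijective _).2 this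
  have hee : ∀ q, e.inv (e.hom q) = q := fun q => congrArg (fun k => k q) e.hom_inv_id
  have key : ∀ (p : (EtCoh.stalk ξ).obj ((EtCoh.push f).obj F))
      (ρ : Spec (CommRingCat.of L) ⟶ X') (h' : ρ ≫ f' = η') (h'' : (ρ ≫ g') ≫ f = ξ),
      cmpAt f' ρ h' ((EtCoh.pull g').obj F) (T (e.inv p)) =
      (stalkPullIso g' ρ).inv.app F (cmpAt f (ρ ≫ g') h'' F p) := fun p ρ h' _ =>
    cmpAt_baseChange0 f g f' g' h.w ρ F h' _ p
  constructor
  · rw [injective_iff_map_eq_zero]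
    intro q hq
    have : e.hom q = 0 := eq_zero_of_cmpAt_proper f ξ F _ fun ρ₀ hρ₀ => by
      obtain ⟨ρ, hρ, hρ'⟩ : ∃ ρ : Spec (CommRingCat.of L) ⟶ X', ρ ≫ g' = ρ₀ ∧ ρ ≫ f' = η' :=
        ⟨h.lift ρ₀ η' hρ₀, h.lift_fst _ _ _, h.lift_snd _ _ _⟩
      subst hρ
      have hk := key (e.hom q) ρ hρ' hρ₀
      rw [hee, hq, map_zero] at hk
      exact (ConcreteCategory.bijective_of_isIso ((stalkPullIso g' ρ).inv.app F)).1
        (hk.symm.trans (map_zero _).symm)
    rw [← hee q, this, map_zero]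
  intro r
  let G := (EtCoh.pull g').obj F
  obtain ⟨V', φ', s', hr⟩ := exists_germ_eq η' ((EtCoh.push f').obj G) r
  let P := pullback f ξ
  let pr : P ⟶ X := pullback.fst f ξ
  let a : P ⟶ X' := h.lift pr (pullback.snd f ξ ≫ η') (by
    rw [pullback.condition, Category.assoc])
  have ha : a ≫ g' = pr := h.lift_fst _ _ _
  let w : P ⟶ ((EtCoh.bc f').obj V').left := pullback.lift (pullback.snd f ξ ≫ φ'.left) a (by
    rw [Category.assoc, h.lift_snd]
    exact congrArg (pullback.snd f ξ ≫ ·) (Over.w φ'))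
  let x₁ := (FHom.unit a G).app (EtCoh.top P) ((EtCoh.bc f').obj V') w
    ((pullback.lift_snd _ _ _).trans (Category.id_comp _).symm) s'
  let x := (FHom.κ a g' ha F).hom.hom.app (op (EtCoh.top P)) x₁
  obtain ⟨V, φ, s, hs⟩ := exists_rep f ξ F x
  refine ⟨e.inv (germ ξ ((EtCoh.push f).obj F) V φ s), sub_eq_zero.1 ?_⟩
  refine eq_zero_of_cmpAt_proper f' η' G _ fun ρ hρ => ?_
  rw [map_sub, sub_eq_zero]
  have hρ' : (ρ ≫ g') ≫ f = ξ := by rw [Category.assoc, h.w, ← Category.assoc, hρ]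
  rw [key _ ρ hρ hρ', cmpAt_germ, ← hr, cmpAt_germ]
  let ζ : Spec (CommRingCat.of L) ⟶ P := pullback.lift (ρ ≫ g') (𝟙 _) (hρ'.trans (Category.id_comp ξ).symm)
  have hζpr : ζ ≫ pr = ρ ≫ g' := pullback.lift_fst _ _ _
  have hζs : ζ ≫ pullback.snd f ξ = 𝟙 _ := pullback.lift_snd _ _ _
  have hζa : ζ ≫ a = ρ := by
    refine h.hom_ext ?_ ?_
    · rw [Category.assoc, ha, hζpr]
    · rw [Category.assoc, h.lift_snd, ← Category.assoc, hζs, Category.id_comp, hρ]
  have h1 : val pr F ζ hζpr x =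
      pullSt g' F ρ rfl (germ ρ G _ (bcPt f' ρ hρ V' φ') s') := by
    rw [val_κ a g' ha F ζ hζa rfl hζpr, val_eq, pullSt_germ_unit]
    refine congrArg (fun p => pullSt g' F ρ rfl (germ ρ G _ p s')) (Over.OverMorphism.ext ?_)
    refine pullback.hom_ext ?_ ?_
    · refine ((Category.assoc _ _ _).trans ?_).trans (pullback.lift_fst _ _ _).symm
      refine (congrArg (ζ ≫ ·) (pullback.lift_fst _ _ _)).trans ?_
      rw [← Category.assoc, hζs, Category.id_comp]
    · refine ((Category.assoc _ _ _).trans ?_).trans (pullback.lift_snd _ _ _).symm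
      exact (congrArg (ζ ≫ ·) (pullback.lift_snd _ _ _)).trans hζa
  have h2 : val pr F ζ hζpr x = germ (ρ ≫ g') F _ (bcPt f (ρ ≫ g') hρ' V φ) s := by
    have key : ∀ {ξ₂ : Spec (CommRingCat.of L) ⟶ X} (e₂ : ζ ≫ pr = ξ₂) (e₃ : ξ₂ ≫ f = ξ),
        val pr F ζ e₂ x = germ ξ₂ F _ (bcPt f ξ₂ e₃ V φ) s := by
      intro ξ₂ e₂ e₃
      subst e₂
      refine (hs L ζ).trans (congrArg (fun p => germ (ζ ≫ pr) F _ p s) (Over.OverMorphism.ext ?_))
      refine pullback.hom_ext ?_ ?_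
      · refine ((Category.assoc _ _ _).trans ?_).trans (pullback.lift_fst _ _ _).symm
        refine (congrArg (ζ ≫ ·) (toNbhd_fst f ξ φ)).trans ?_
        rw [← Category.assoc, hζs, Category.id_comp]
      · exact ((Category.assoc _ _ _).trans (congrArg (ζ ≫ ·) (toNbhd_hom f ξ φ))).trans
          (pullback.lift_snd _ _ _).symm
    exact key hζpr hρ'
  rw [h1] at h2
  rw [← h2]
  simp only [pullSt, eqToHom_refl, Category.comp_id]
  exact ConcreteCategory.congr_hom ((stalkPullIso g' ρ).hom_inv_id_app F) _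

end Groth.Agent.EtConsAb.ProperFibre
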