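import Groth.Agent.EtConsAb.Triv

/-!
# Constant abelian sheaves on the small étale site
-/

universe u

open CategoryTheory CategoryTheory.Limits AlgebraicGeometry Opposite

namespace Groth.Agent.EtConsAb

open Groth.Agent Groth.Agent.EtaleSite

variable {X : Scheme.{u}}
variable (M : Type (u + 1)) [AddCommGroup M]

/-- The constant sheaf of a large group. -/
noncomputable abbrev constAb (X : Scheme.{u}) : EtCoh.Ab X :=
  (constantSheaf X.smallEtaleTopology AddCommGrpCat.{u + 1}).obj (AddCommGrpCat.of M)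

/-- The canonical map from a group to the sections of its constant sheaf. -/
noncomputable def constSect (U : X.Etale) : M →+ (constAb M X).obj.obj (op U) :=
  ((toSheafify X.smallEtaleTopology
    ((Functor.const X.Etaleᵒᵖ).obj (AddCommGrpCat.of M))).app (op U)).hom

theorem bijective_const_fiber {Ω : Type u} [Field Ω] [IsSepClosed Ω]
    (ξ : Spec (CommRingCat.of Ω) ⟶ X) (U : X.Etale) (φ : (Scheme.pointSmallEtale ξ).fiber.obj U) :
    Function.Bijective fun x : M => (Scheme.pointSmallEtale ξ).toPresheafFiber U φ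
      ((Functor.const X.Etaleᵒᵖ).obj (AddCommGrpCat.of M)) x := by
  let Φ := Scheme.pointSmallEtale ξ
  refine ⟨fun x y e => ?_, fun p => ?_⟩
  · obtain ⟨V, g, v, -, h⟩ := (Φ.toPresheafFiber_eq_iff' U φ _ _).1 e
    exact h
  · obtain ⟨V, ψ, z, rfl⟩ := Φ.toPresheafFiber_jointly_surjective p
    obtain ⟨W, w, a, b, ha, hb⟩ := exists_refine φ ψ
    refine ⟨z, ?_⟩
    show Φ.toPresheafFiber U φ ((Functor.const X.Etaleᵒᵖ).obj (AddCommGrpCat.of M)) z =
      Φ.toPresheafFiber V ψ ((Functor.const X.Etaleᵒᵖ).obj (AddCommGrpCat.of M)) z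
    rw [← ha, ← hb]
    exact (Φ.toPresheafFiber_w_apply a w ((Functor.const X.Etaleᵒᵖ).obj (AddCommGrpCat.of M)) z).symm.trans
      (Φ.toPresheafFiber_w_apply b w ((Functor.const X.Etaleᵒᵖ).obj (AddCommGrpCat.of M)) z)

/-- Constant sheaves are trivialised everywhere. -/
theorem isTriv_constSect (U : X.Etale) : IsTriv (constAb M X) U M (constSect M U) := by
  intro Ω _ _ ξ φ
  let Φ := Scheme.pointSmallEtale ξ
  let η : (Functor.const X.Etaleᵒᵖ).obj (AddCommGrpCat.of M) ⟶ (constAb M X).obj :=
    toSheafify X.smallEtaleTopology _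
  have : IsIso (Φ.presheafFiber.map η) :=
    Φ.W_isInvertedBy_presheafFiber' η (X.smallEtaleTopology.W_toSheafify _)
  have hc : (fun x => germ ξ (constAb M X) U φ (constSect M U x)) =
      Φ.presheafFiber.map η ∘ fun x : M => Φ.toPresheafFiber U φ
        ((Functor.const X.Etaleᵒᵖ).obj (AddCommGrpCat.of M)) x :=
    funext fun x => (Φ.toPresheafFiber_naturality_apply η U φ x).symm
  rw [hc]
  exact (ConcreteCategory.bijective_of_isIso (Φ.presheafFiber.map η)).comp (bijective_const_fiber M ξ U φ)

/-- Constant sheaves with finite values are finite locally constant. -/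
theorem isFLC_const [Finite M] : EtCoh.IsFiniteLocallyConstant (constAb M X) :=
  isFLC_of_isTriv fun Ω _ _ ξ => by
    obtain ⟨φ, -⟩ := exists_fiber_point ξ (EtCoh.top X) (ξ default) rfl
    exact ⟨EtCoh.top X, φ, M, inferInstance, inferInstance, _, isTriv_constSect M _⟩

end Groth.Agent.EtConsAb
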