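import Groth.Agent.EtaleSite.Stalk
import Groth.Prelude.Def_PBC
import Groth.Agent.EtaleSite.Points

/-!
# Trivialisations of sheaves of modules

A linear map `m : M → F(U)` trivialises `F` on `U` if it induces bijections to the stalks at all
geometric points of `U`; this is the same as an isomorphism of `F|_U` with the constant sheaf.
-/

universe u

open CategoryTheory CategoryTheory.Limits AlgebraicGeometry Opposite

namespace Groth.Agent.EtConsAb

open Groth.Agent Groth.Agent.EtaleSite

variable {X : Scheme.{u}}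

/-- `m : M → F(U)` induces bijections to all stalks at geometric points of `U`. -/
def IsTriv (F : EtCoh.Ab X) (U : X.Etale) (M : Type (u + 1)) [AddCommGroup M] 
    (m : M →+ F.obj.obj (op U)) : Prop :=
  ∀ (Ω : Type u) [Field Ω] [IsSepClosed Ω] (ξ : Spec (CommRingCat.of Ω) ⟶ X)
    (φ : (Scheme.pointSmallEtale ξ).fiber.obj U), Function.Bijective fun x => germ ξ F U φ (m x)

section

variable {Ω : Type u} [Field Ω] [IsSepClosed Ω] {ξ : Spec (CommRingCat.of Ω) ⟶ X}

/-- Two étale neighbourhoods have a common refinement. -/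
theorem exists_refine {U V : X.Etale} (φ : (Scheme.pointSmallEtale ξ).fiber.obj U)
    (ψ : (Scheme.pointSmallEtale ξ).fiber.obj V) :
    ∃ (W : X.Etale) (w : (Scheme.pointSmallEtale ξ).fiber.obj W) (a : W ⟶ U) (b : W ⟶ V),
      (Scheme.pointSmallEtale ξ).fiber.map a w = φ ∧ (Scheme.pointSmallEtale ξ).fiber.map b w = ψ := by
  obtain ⟨z, ⟨p, hp⟩, ⟨q, hq⟩, -⟩ := IsCofilteredOrEmpty.cone_objs
    ((Scheme.pointSmallEtale ξ).fiber.elementsMk _ φ) ((Scheme.pointSmallEtale ξ).fiber.elementsMk _ ψ)
  exact ⟨z.1, z.2, p, q, hp, hq⟩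

theorem fiber_map_comp {U V W : X.Etale} (a : W ⟶ V) (b : V ⟶ U)
    (w : (Scheme.pointSmallEtale ξ).fiber.obj W) :
    (Scheme.pointSmallEtale ξ).fiber.map (a ≫ b) w =
      (Scheme.pointSmallEtale ξ).fiber.map b ((Scheme.pointSmallEtale ξ).fiber.map a w) :=
  congrArg (fun k => k w) ((Scheme.pointSmallEtale ξ).fiber.map_comp a b)

/-- A germ is represented on a refinement of any given neighbourhood. -/
theorem exists_germ_eq_refine {U : X.Etale} (φ : (Scheme.pointSmallEtale ξ).fiber.obj U)
    (F : EtCoh.Ab X) (p : ↑((EtCoh.stalk ξ).obj F)) :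
    ∃ (W : X.Etale) (g : W ⟶ U) (w : (Scheme.pointSmallEtale ξ).fiber.obj W) (s : F.obj.obj (op W)),
      (Scheme.pointSmallEtale ξ).fiber.map g w = φ ∧ germ ξ F W w s = p := by
  obtain ⟨V, ψ, s, rfl⟩ := exists_germ_eq ξ F p
  obtain ⟨W, w, a, b, ha, hb⟩ := exists_refine φ ψ
  exact ⟨W, a, w, F.obj.map b.op s, ha, by rw [germ_res, hb]⟩

/-- Finitely many pairs of sections with the same germ agree on a common neighbourhood. -/
theorem exists_nbhd_eq_of_finite {ι : Type*} [Finite ι] (F : EtCoh.Ab X) {U : X.Etale}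
    (φ : (Scheme.pointSmallEtale ξ).fiber.obj U) (s t : ι → F.obj.obj (op U))
    (h : ∀ i, germ ξ F U φ (s i) = germ ξ F U φ (t i)) :
    ∃ (V : X.Etale) (g : V ⟶ U) (y : (Scheme.pointSmallEtale ξ).fiber.obj V),
      (Scheme.pointSmallEtale ξ).fiber.map g y = φ ∧ ∀ i, F.obj.map g.op (s i) = F.obj.map g.op (t i) := by
  classical
  cases nonempty_fintype ι
  suffices ∀ T : Finset ι, ∃ (V : X.Etale) (g : V ⟶ U) (y : (Scheme.pointSmallEtale ξ).fiber.obj V),
      (Scheme.pointSmallEtale ξ).fiber.map g y = φ ∧ ∀ i ∈ T, F.obj.map g.op (s i) = F.obj.map g.op (t i) by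
    obtain ⟨V, g, y, hy, hT⟩ := this Finset.univ
    exact ⟨V, g, y, hy, fun i => hT i (Finset.mem_univ i)⟩
  intro T
  induction T using Finset.induction_on with
  | empty => exact ⟨U, 𝟙 U, φ, congrArg (fun k => k φ) ((Scheme.pointSmallEtale ξ).fiber.map_id U),
      fun i hi => absurd hi (Finset.notMem_empty i)⟩
  | @insert a T _ ih =>
    obtain ⟨V, g, y, hy, hT⟩ := ih
    obtain ⟨V', g', y', hy', hT'⟩ := (germ_eq_iff ξ F U φ (s a) (t a)).1 (h a)
    obtain ⟨W, w, p, q, hp, hq⟩ := exists_refine (ξ := ξ)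
      ((Scheme.pointSmallEtale ξ).fiber.map (𝟙 V) y) y'
    obtain ⟨W', r, w', hw', he⟩ : ∃ (W' : X.Etale) (r : W' ⟶ W)
        (w' : (Scheme.pointSmallEtale ξ).fiber.obj W'),
        (Scheme.pointSmallEtale ξ).fiber.map r w' = w ∧ r ≫ p ≫ g = r ≫ q ≫ g' := by
      have e : (Scheme.pointSmallEtale ξ).fiber.map (p ≫ g) w =
          (Scheme.pointSmallEtale ξ).fiber.map (q ≫ g') w := by
        rw [fiber_map_comp, fiber_map_comp, hp, hq, hy',
          CategoryTheory.Functor.map_id]
        exact hy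
      let f₁ : (Scheme.pointSmallEtale ξ).fiber.elementsMk _ w ⟶
          (Scheme.pointSmallEtale ξ).fiber.elementsMk _ φ :=
        CategoryOfElements.homMk _ _ (p ≫ g) (by
          show (Scheme.pointSmallEtale ξ).fiber.map (p ≫ g) w = φ
          rw [fiber_map_comp, hp, CategoryTheory.Functor.map_id]; exact hy)
      let f₂ : (Scheme.pointSmallEtale ξ).fiber.elementsMk _ w ⟶
          (Scheme.pointSmallEtale ξ).fiber.elementsMk _ φ :=
        CategoryOfElements.homMk _ _ (q ≫ g') (by
          show (Scheme.pointSmallEtale ξ).fiber.map (q ≫ g') w = φ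
          rw [fiber_map_comp, hq, hy'])
      obtain ⟨z, r, hr⟩ := IsCofilteredOrEmpty.cone_maps f₁ f₂
      exact ⟨z.1, r.1, z.2, r.2, congrArg Subtype.val hr⟩
    refine ⟨W', r ≫ p ≫ g, w', ?_, fun i hi => ?_⟩
    · rw [fiber_map_comp, fiber_map_comp, hw', hp, CategoryTheory.Functor.map_id]
      exact hy
    · rcases Finset.mem_insert.1 hi with rfl | hi
      · rw [he, op_comp, op_comp, Functor.map_comp, Functor.map_comp]
        exact congrArg (fun k => F.obj.map r.op (F.obj.map q.op k)) hT'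
      · rw [op_comp, op_comp, Functor.map_comp, Functor.map_comp]
        exact congrArg (fun k => F.obj.map r.op (F.obj.map p.op k)) (hT i hi)

end

variable {F G : EtCoh.Ab X} {U V : X.Etale} {M : Type (u + 1)} [AddCommGroup M] 

theorem IsTriv.restrict {m : M →+ F.obj.obj (op U)} (h : IsTriv F U M m) (g : V ⟶ U) :
    IsTriv F V M ((F.obj.map g.op).hom.comp m) := by
  intro Ω _ _ ξ φ
  have : (fun x => germ ξ F V φ ((F.obj.map g.op).hom.comp m x)) =
      fun x => germ ξ F U ((Scheme.pointSmallEtale ξ).fiber.map g φ) (m x) :=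
    funext fun x => germ_res ξ F g φ (m x)
  rw [this]
  exact h Ω ξ _

/-- The value of a trivialisation is the stalk. -/
noncomputable def IsTriv.stalkEquiv {m : M →+ F.obj.obj (op U)} (h : IsTriv F U M m)
    {Ω : Type u} [Field Ω] [IsSepClosed Ω] {ξ : Spec (CommRingCat.of Ω) ⟶ X}
    (φ : (Scheme.pointSmallEtale ξ).fiber.obj U) : M ≃+ ↑((EtCoh.stalk ξ).obj F) :=
  AddEquiv.ofBijective ((germ ξ F U φ).hom.comp m) (h Ω ξ φ)

/-- An isomorphism of sheaves transports trivialisations. -/
theorem IsTriv.of_iso {m : M →+ F.obj.obj (op U)} (h : IsTriv F U M m) (e : F ≅ G) :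
    IsTriv G U M ((e.hom.hom.app (op U)).hom.comp m) := by
  intro Ω _ _ ξ φ
  have : (fun x => germ ξ G U φ ((e.hom.hom.app (op U)).hom.comp m x)) =
      (EtCoh.stalk ξ).map e.hom ∘ fun x => germ ξ F U φ (m x) :=
    funext fun x => (germ_naturality ξ e.hom U φ (m x)).symm
  rw [this]
  exact (ConcreteCategory.bijective_of_isIso ((EtCoh.stalk ξ).map e.hom)).comp (h Ω ξ φ)

/-- The map of presheaves on the over category given by a linear map `M → F(U)`. -/
noncomputable def constNat (F : EtCoh.Ab X) (U : X.Etale) (m : M →+ F.obj.obj (op U)) :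
    (Functor.const (Over U)ᵒᵖ).obj (AddCommGrpCat.of M) ⟶ (F.over U).obj where
  app V := AddCommGrpCat.ofHom ((F.obj.map V.unop.hom.op).hom.comp m)
  naturality V W f := by
    ext x
    show F.obj.map W.unop.hom.op (m x) = F.obj.map f.unop.left.op (F.obj.map V.unop.hom.op (m x))
    rw [← Over.w f.unop, op_comp, Functor.map_comp]
    rfl

theorem isLocallyInjective_constNat {m : M →+ F.obj.obj (op U)} (h : IsTriv F U M m) :
    Presheaf.IsLocallyInjective (X.smallEtaleTopology.over U) (constNat F U m) where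
  equalizerSieve_mem {V} x y e := by
    rw [GrothendieckTopology.mem_over_iff]
    refine EtaleSite.mem_topology_of_forall_geomPoint _ fun Ω _ _ ξ φ => ?_
    have hxy : x = y := (h.restrict V.unop.hom Ω ξ φ).1 (congrArg (germ ξ F V.unop.left φ) e)
    refine ⟨V.unop.left, 𝟙 _, φ, ?_, congrArg (fun k => k φ) ((Scheme.pointSmallEtale ξ).fiber.map_id _)⟩
    refine (Sieve.overEquiv_iff _ _).2 ?_
    show x = y
    exact hxy

theorem isLocallySurjective_constNat {m : M →+ F.obj.obj (op U)} (h : IsTriv F U M m) :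
    Presheaf.IsLocallySurjective (X.smallEtaleTopology.over U) (constNat F U m) where
  imageSieve_mem {V} s := by
    rw [GrothendieckTopology.mem_over_iff]
    refine EtaleSite.mem_topology_of_forall_geomPoint _ fun Ω _ _ ξ φ => ?_
    obtain ⟨x, hx⟩ := (h.restrict V.hom Ω ξ φ).2 (germ ξ F V.left φ s)
    obtain ⟨W, g, w, hw, he⟩ := (germ_eq_iff ξ F V.left φ _ _).1 hx
    refine ⟨W, g, w, (Sieve.overEquiv_iff _ _).2 ⟨x, ?_⟩, hw⟩
    refine Eq.trans ?_ he
    show F.obj.map (g ≫ V.hom).op (m x) = _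
    rw [op_comp, Functor.map_comp]
    rfl

theorem W_constNat {m : M →+ F.obj.obj (op U)} (h : IsTriv F U M m) :
    (X.smallEtaleTopology.over U).W (constNat F U m) :=
  have := isLocallyInjective_constNat h
  have := isLocallySurjective_constNat h
  (X.smallEtaleTopology.over U).W_of_isLocallyBijective _

/-- The map from the constant sheaf given by a linear map `M → F(U)`. -/
noncomputable def constTo (F : EtCoh.Ab X) (U : X.Etale) (m : M →+ F.obj.obj (op U)) :
    (constantSheaf (X.smallEtaleTopology.over U) (AddCommGrpCat.{u + 1})).obj (AddCommGrpCat.of M) ⟶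
      EtCoh.restr F U :=
  ⟨sheafifyLift (X.smallEtaleTopology.over U) (constNat F U m) (F.over U).property⟩

theorem toSheafify_constTo (F : EtCoh.Ab X) (U : X.Etale) (m : M →+ F.obj.obj (op U)) :
    toSheafify (X.smallEtaleTopology.over U) ((Functor.const (Over U)ᵒᵖ).obj (AddCommGrpCat.of M)) ≫
      (constTo F U m).hom = constNat F U m :=
  toSheafify_sheafifyLift _ _ _

theorem isIso_constTo {m : M →+ F.obj.obj (op U)} (h : IsTriv F U M m) :
    IsIso (constTo F U m) := by
  rw [← (X.smallEtaleTopology.over U).W_sheafToPresheaf_map_iff_isIso]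
  refine MorphismProperty.of_precomp _
    (toSheafify (X.smallEtaleTopology.over U) ((Functor.const (Over U)ᵒᵖ).obj (AddCommGrpCat.of M))) _
    ((X.smallEtaleTopology.over U).W_toSheafify _) ?_
  show (X.smallEtaleTopology.over U).W (_ ≫ (constTo F U m).hom)
  convert W_constNat h using 1
  exact toSheafify_constTo F U m

/-- The isomorphism with the constant sheaf given by a trivialisation. -/
noncomputable def IsTriv.restrIso {m : M →+ F.obj.obj (op U)} (h : IsTriv F U M m) :
    EtCoh.restr F U ≅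
      (constantSheaf (X.smallEtaleTopology.over U) (AddCommGrpCat.{u + 1})).obj (AddCommGrpCat.of M) :=
  have := isIso_constTo h
  (asIso (constTo F U m)).symm

theorem isTriv_of_W {m : M →+ F.obj.obj (op U)}
    (h : (X.smallEtaleTopology.over U).W (constNat F U m)) : IsTriv F U M m := by
  have := GrothendieckTopology.W.isLocallyInjective h
  have := GrothendieckTopology.W.isLocallySurjective h
  intro Ω _ _ ξ φ
  refine ⟨fun x y e => ?_, fun p => ?_⟩
  · obtain ⟨V, g, v, -, he⟩ := (germ_eq_iff ξ F U φ _ _).1 e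
    have hS := Presheaf.equalizerSieve_mem (X.smallEtaleTopology.over U) (constNat F U m)
      (X := op (Over.mk g)) x y he
    rw [GrothendieckTopology.mem_over_iff] at hS
    obtain ⟨W, k, hk, w, -⟩ := (Scheme.pointSmallEtale ξ).jointly_surjective _ hS v
    exact (Sieve.overEquiv_iff _ _).1 hk
  · obtain ⟨W₀, g, w, s, hw, rfl⟩ := exists_germ_eq_refine φ F p
    have hS := Presheaf.imageSieve_mem (X.smallEtaleTopology.over U) (constNat F U m)
      (U := op (Over.mk g)) s
    rw [GrothendieckTopology.mem_over_iff] at hS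
    obtain ⟨W, k, hk, w', hw'⟩ := (Scheme.pointSmallEtale ξ).jointly_surjective _ hS w
    obtain ⟨x, hx⟩ := (Sieve.overEquiv_iff _ _).1 hk
    refine ⟨x, ?_⟩
    show germ ξ F U φ (m x) = germ ξ F W₀ w s
    rw [← hw, ← hw', ← fiber_map_comp, ← germ_res, ← germ_res]
    exact congrArg (germ ξ F W w') hx

/-- An isomorphism with a constant sheaf gives a trivialisation. -/
theorem exists_isTriv_of_restrIso
    (e : EtCoh.restr F U ≅
      (constantSheaf (X.smallEtaleTopology.over U) (AddCommGrpCat.{u + 1})).obj (AddCommGrpCat.of M)) :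
    ∃ m : M →+ F.obj.obj (op U), IsTriv F U M m := by
  let η : (Functor.const (Over U)ᵒᵖ).obj (AddCommGrpCat.of M) ⟶ (F.over U).obj :=
    toSheafify (X.smallEtaleTopology.over U) _ ≫ e.inv.hom
  have hη : (X.smallEtaleTopology.over U).W η :=
    MorphismProperty.comp_mem _ _ _ ((X.smallEtaleTopology.over U).W_toSheafify _)
      (((X.smallEtaleTopology.over U).W_sheafToPresheaf_map_iff_isIso e.inv).2 inferInstance)
  refine ⟨(η.app (op (Over.mk (𝟙 U)))).hom, isTriv_of_W ?_⟩
  have hh : constNat F U (η.app (op (Over.mk (𝟙 U)))).hom = η := by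
    ext V x
    exact (congrArg (fun k => k x)
      (η.naturality (Over.homMk V.unop.hom (Category.comp_id _) : V.unop ⟶ Over.mk (𝟙 U)).op)).symm
  rw [hh]
  exact hη

/-- `P` holds on the members of some covering if it holds near every geometric point. -/
theorem exists_covers_of_forall_geomPoint (P : X.Etale → Prop)
    (h : ∀ (Ω : Type u) [Field Ω] [IsSepClosed Ω] (ξ : Spec (CommRingCat.of Ω) ⟶ X),
      ∃ (V : X.Etale) (_ : (Scheme.pointSmallEtale ξ).fiber.obj V), P V) :
    ∃ (ι : Type u) (U : ι → X.Etale), EtCoh.Covers U ∧ ∀ i, P (U i) := by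
  choose V φ hV using fun x : X => h _ (EtaleSite.geomPointAt X x)
  refine ⟨X, V, fun x => ⟨x, (φ x).left (default : Spec (CommRingCat.of (SeparableClosure (X.residueField x)))), ?_⟩, hV⟩
  exact (congrArg (fun k : Spec (CommRingCat.of (SeparableClosure (X.residueField x))) ⟶ X => k default) (Over.w (φ x))).trans (EtaleSite.geomPointAt_apply X x _)

/-- Finite type locally constant sheaves have trivialisations near every geometric point. -/
theorem exists_isTriv (hF : EtCoh.IsFiniteLocallyConstant F) {Ω : Type u} [Field Ω] [IsSepClosed Ω]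
    (ξ : Spec (CommRingCat.of Ω) ⟶ X) :
    ∃ (V : X.Etale) (_ : (Scheme.pointSmallEtale ξ).fiber.obj V) (M : Type (u + 1)) (_ : AddCommGroup M)
      (_ : Finite M) (m : M →+ F.obj.obj (op V)), IsTriv F V M m := by
  obtain ⟨ι, U, hU, hM⟩ := hF
  obtain ⟨i, y, hy⟩ := hU (ξ default)
  obtain ⟨φ, -⟩ := EtaleSite.exists_fiber_point ξ (U i) y hy
  obtain ⟨M, h₁, h₂, ⟨e⟩⟩ := hM i
  obtain ⟨m, hm⟩ := exists_isTriv_of_restrIso e
  exact ⟨U i, φ, ULift.{u + 1} M, inferInstance, inferInstance, m, hm⟩

/-- A sheaf with trivialisations near every geometric point is locally constant of finite type. -/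
theorem isFLC_of_isTriv
    (h : ∀ (Ω : Type u) [Field Ω] [IsSepClosed Ω] (ξ : Spec (CommRingCat.of Ω) ⟶ X),
      ∃ (V : X.Etale) (_ : (Scheme.pointSmallEtale ξ).fiber.obj V) (M : Type (u + 1)) (_ : AddCommGroup M)
        (_ : Finite M) (m : M →+ F.obj.obj (op V)), IsTriv F V M m) :
    EtCoh.IsFiniteLocallyConstant F := by
  refine exists_covers_of_forall_geomPoint
    (fun V => ∃ (M : Type) (_ : AddCommGroup M) (_ : Finite M),
    Nonempty (EtCoh.restr F V ≅
      (constantSheaf (X.smallEtaleTopology.over V) (AddCommGrpCat.{u + 1})).obj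
        (AddCommGrpCat.of (ULift.{u + 1} M))))
    fun Ω _ _ ξ => ?_
  obtain ⟨V, φ, M, h₁, h₂, m, hm⟩ := h Ω ξ
  refine ⟨V, φ, Shrink.{0} M, inferInstance, Finite.of_equiv M (equivShrink.{0} M), ⟨hm.restrIso ≪≫
    (constantSheaf (X.smallEtaleTopology.over V) (AddCommGrpCat.{u + 1})).mapIso
      (AddEquiv.toAddCommGrpIso (Shrink.addEquiv.symm.trans AddEquiv.ulift.symm))⟩⟩

/-- Stalks of a finite type locally constant sheaf are finite. -/
theorem finite_stalk (hF : EtCoh.IsFiniteLocallyConstant F) {Ω : Type u} [Field Ω] [IsSepClosed Ω]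
    (ξ : Spec (CommRingCat.of Ω) ⟶ X) : Finite ↑((EtCoh.stalk ξ).obj F) := by
  obtain ⟨V, φ, M, h₁, h₂, m, hm⟩ := exists_isTriv hF ξ
  exact Finite.of_equiv M (hm.stalkEquiv φ).toEquiv

/-- Being locally constant of finite type is invariant under isomorphisms. -/
theorem isFLC_of_iso (e : F ≅ G) (hF : EtCoh.IsFiniteLocallyConstant F) :
    EtCoh.IsFiniteLocallyConstant G := by
  refine isFLC_of_isTriv fun Ω _ _ ξ => ?_
  obtain ⟨V, φ, M, h₁, h₂, m, hm⟩ := exists_isTriv hF ξ
  exact ⟨V, φ, M, h₁, h₂, _, hm.of_iso e⟩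

/-- A morphism between trivialised sheaves is given by a linear map near every point. -/
theorem exists_linearMap [Finite M] {N : Type (u + 1)} [AddCommGroup N] 
    (a : F ⟶ G) {m : M →+ F.obj.obj (op U)} (hm : IsTriv F U M m)
    {n : N →+ G.obj.obj (op V)} (hn : IsTriv G V N n)
    {Ω : Type u} [Field Ω] [IsSepClosed Ω] {ξ : Spec (CommRingCat.of Ω) ⟶ X}
    (φ : (Scheme.pointSmallEtale ξ).fiber.obj U) (ψ : (Scheme.pointSmallEtale ξ).fiber.obj V) :
    ∃ (W : X.Etale) (_ : (Scheme.pointSmallEtale ξ).fiber.obj W) (m' : M →+ F.obj.obj (op W))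
      (n' : N →+ G.obj.obj (op W)) (h : M →+ N), IsTriv F W M m' ∧ IsTriv G W N n' ∧
        ∀ x, a.hom.app (op W) (m' x) = n' (h x) := by
  obtain ⟨W, w, p, q, hp, hq⟩ := exists_refine φ ψ
  let m₁ := (F.obj.map p.op).hom.comp m
  let n₁ := (G.obj.map q.op).hom.comp n
  have hn₁ : IsTriv G W N n₁ := hn.restrict q
  let h : M →+ N := (hn₁.stalkEquiv w).symm.toAddMonoidHom.comp
    ((germ ξ G W w).hom.comp ((a.hom.app (op W)).hom.comp m₁))
  obtain ⟨W', g, w', -, hW'⟩ := exists_nbhd_eq_of_finite G w (fun i : M => a.hom.app (op W) (m₁ i))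
    (fun i => n₁ (h i)) fun i => ((hn₁.stalkEquiv w).apply_symm_apply _).symm
  refine ⟨W', w', (F.obj.map g.op).hom.comp m₁, (G.obj.map g.op).hom.comp n₁, h,
    (hm.restrict p).restrict g, hn₁.restrict g, fun x => ?_⟩
  have hlin : (a.hom.app (op W')).hom.comp ((F.obj.map g.op).hom.comp m₁) =
      ((G.obj.map g.op).hom.comp n₁).comp h := by
    refine AddMonoidHom.ext fun i => ?_
    exact (NatTrans.naturality_apply a.hom g.op (m₁ i)).trans (hW' i)
  exact DFunLike.congr_fun hlin x

/-- Trivialisations intertwining a morphism with a linear map give a commutative square. -/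
theorem restrIso_comm {N : Type (u + 1)} [AddCommGroup N]  (a : F ⟶ G)
    {m : M →+ F.obj.obj (op U)} (hm : IsTriv F U M m)
    {n : N →+ G.obj.obj (op U)} (hn : IsTriv G U N n) (h : M →+ N)
    (hh : ∀ x, a.hom.app (op U) (m x) = n (h x)) :
    (X.smallEtaleTopology.overPullback (AddCommGrpCat.{u + 1}) U).map a ≫ hn.restrIso.hom =
      hm.restrIso.hom ≫
        (constantSheaf (X.smallEtaleTopology.over U) (AddCommGrpCat.{u + 1})).map (AddCommGrpCat.ofHom h) := by
  have key : constTo F U m ≫ (X.smallEtaleTopology.overPullback (AddCommGrpCat.{u + 1}) U).map a =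
      (constantSheaf (X.smallEtaleTopology.over U) (AddCommGrpCat.{u + 1})).map (AddCommGrpCat.ofHom h) ≫
        constTo G U n := by
    apply Sheaf.hom_ext
    refine sheafify_hom_ext _ _ _ (G.over U).property ?_
    have e₁ : toSheafify (X.smallEtaleTopology.over U) ((Functor.const (Over U)ᵒᵖ).obj (AddCommGrpCat.of M)) ≫
        ((constantSheaf (X.smallEtaleTopology.over U) (AddCommGrpCat.{u + 1})).map (AddCommGrpCat.ofHom h)).hom =
        (Functor.const (Over U)ᵒᵖ).map (AddCommGrpCat.ofHom h) ≫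
          toSheafify (X.smallEtaleTopology.over U) ((Functor.const (Over U)ᵒᵖ).obj (AddCommGrpCat.of N)) :=
      (toSheafify_naturality _ _).symm
    refine ((Category.assoc _ _ _).symm.trans (congrArg (· ≫ _) (toSheafify_constTo F U m))).trans ?_
    refine Eq.trans ?_ ((Category.assoc _ _ _).symm.trans (congrArg (· ≫ _) e₁)).symm
    refine Eq.trans ?_ ((Category.assoc _ _ _).trans (congrArg (_ ≫ ·) (toSheafify_constTo G U n))).symm
    ext V x
    show a.hom.app (op V.unop.left) (F.obj.map V.unop.hom.op (m x)) = G.obj.map V.unop.hom.op (n (h x))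
    rw [NatTrans.naturality_apply]
    exact congrArg (G.obj.map V.unop.hom.op) (hh x)
  have := isIso_constTo hm
  have := isIso_constTo hn
  show _ ≫ inv (constTo G U n) = inv (constTo F U m) ≫ _
  rw [IsIso.eq_inv_comp, ← Category.assoc, IsIso.comp_inv_eq]
  exact key

end Groth.Agent.EtConsAb
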