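import Groth.Agent.EtaleSite.Pull
import Groth.Prelude.Def_EtCore
import Groth.Agent.EtConsAb.Triv
import Groth.Agent.EtaleSite.PushStalk

/-!
# Inverse images of locally constant sheaves of modules
-/

universe u

open CategoryTheory CategoryTheory.Limits AlgebraicGeometry Opposite

namespace Groth.Agent.EtConsAb

open Groth.Agent Groth.Agent.EtaleSite

variable {X Y : Scheme.{u}} (f : X ⟶ Y)

/-- Pulling back a section. -/
noncomputable def pullSect (G : EtCoh.Ab Y) (V : Y.Etale) :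
    G.obj.obj (op V) →+ ((EtCoh.pull f).obj G).obj.obj (op ((EtCoh.bc f).obj V)) :=
  (((EtCoh.pullPushAdj f).unit.app G).hom.app (op V)).hom

theorem germ_pullSect {Ω : Type u} [Field Ω] [IsSepClosed Ω] (ξ : Spec (CommRingCat.of Ω) ⟶ X)
    (G : EtCoh.Ab Y) (V : Y.Etale) (φ : (Scheme.pointSmallEtale (ξ ≫ f)).fiber.obj V)
    (s : G.obj.obj (op V)) :
    germ ξ ((EtCoh.pull f).obj G) ((EtCoh.bc f).obj V) (EtaleSite.fiberBcEquiv f ξ V φ)
      (pullSect f G V s) = (stalkPullIso f ξ).inv.app G (germ (ξ ≫ f) G V φ s) :=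
  (germ_stalkPullIso_inv f ξ G V φ s).symm

/-- Trivialisations pull back. -/
theorem IsTriv.pull {G : EtCoh.Ab Y} {V : Y.Etale} {M : Type (u + 1)} [AddCommGroup M] 
    {m : M →+ G.obj.obj (op V)} (h : IsTriv G V M m) :
    IsTriv ((EtCoh.pull f).obj G) ((EtCoh.bc f).obj V) M ((pullSect f G V).comp m) := by
  intro Ω _ _ ξ φ
  obtain ⟨φ₀, rfl⟩ := (EtaleSite.fiberBcEquiv f ξ V).surjective φ
  simp only [AddMonoidHom.comp_apply, germ_pullSect]
  exact (ConcreteCategory.bijective_of_isIso ((stalkPullIso f ξ).inv.app G)).comp (h Ω _ φ₀)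

/-- Inverse images of finite type locally constant sheaves are finite type locally constant. -/
theorem isFLC_pull {G : EtCoh.Ab Y} (hG : EtCoh.IsFiniteLocallyConstant G) :
    EtCoh.IsFiniteLocallyConstant ((EtCoh.pull f).obj G) := by
  refine isFLC_of_isTriv fun Ω _ _ ξ => ?_
  obtain ⟨V, φ, M, h₁, h₂, m, hm⟩ := exists_isTriv hG (ξ ≫ f)
  exact ⟨(EtCoh.bc f).obj V, EtaleSite.fiberBcEquiv f ξ V φ, M, h₁, h₂, _, hm.pull f⟩

/-- Inverse images compose. -/
noncomputable def pullComp {Z : Scheme.{u}} (f : X ⟶ Y) (g : Z ⟶ X) :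
    EtCoh.pull f ⋙ EtCoh.pull g ≅ EtCoh.pull (g ≫ f) :=
  (EtCore.pullComp g f).symm

/-- Inverse images along equal morphisms agree. -/
noncomputable def pullCongr {f f' : X ⟶ Y} (h : f = f') : EtCoh.pull f ≅ EtCoh.pull f' :=
  EtCore.pullCongr h

theorem isFLC_pull_comp {Z : Scheme.{u}} (f : X ⟶ Y) (g : Z ⟶ X) {G : EtCoh.Ab Y}
    (h : EtCoh.IsFiniteLocallyConstant ((EtCoh.pull f).obj G)) :
    EtCoh.IsFiniteLocallyConstant ((EtCoh.pull (g ≫ f)).obj G) :=
  isFLC_of_iso ((pullComp f g).app G) (isFLC_pull g h)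

end Groth.Agent.EtConsAb
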