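import Groth.Agent.EtConsAb.PullTriv
import Groth.Agent.EtConsAb.ConstMod
import Groth.Agent.EtaleSite.ConstSections
import Groth.Agent.EtStruct.UnibranchGlobal
import Groth.Agent.Comod.LunaEtale
import Groth.Prelude.Def_Pi1
import Groth.Agent.EtConsAb.Descend

/-!
# Constant sheaves and the generic point of a normal integral scheme
-/

set_option linter.style.haveILetI false

universe u

open CategoryTheory CategoryTheory.Limits AlgebraicGeometry Opposite Topology

noncomputable section

namespace Groth.Agent.EtConsAb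

open Groth.Agent Groth.Agent.EtaleSite Groth.Agent.EtaleSite.ConstSections

variable {X : Scheme.{u}}

theorem germ_cst_surjective {M : AddCommGrpCat.{u + 1}} {Ω : Type u} [Field Ω] [IsSepClosed Ω]
    (ξ : Spec (CommRingCat.of Ω) ⟶ X) (W : X.Etale) (φ : (Scheme.pointSmallEtale ξ).fiber.obj W)
    (p : (EtCoh.stalk ξ).obj (cSheaf X M)) : ∃ c : M, germ ξ (cSheaf X M) W φ (cst W c) = p := by
  obtain ⟨U, x, s, rfl⟩ := exists_germ_eq ξ _ p
  obtain ⟨V, g, y, c, hy, hs⟩ := exists_eq_cst ξ U x s
  exact ⟨c, by rw [germ_cst_eq ξ W V φ y c, ← hs, germ_res, hy]⟩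

/-- Over a subsingleton space, germs at one geometric point determine sections. -/
theorem sect_ext_of_subsingleton {F : EtCoh.Ab X} {U : X.Etale} [Subsingleton ↥U.left]
    {Ω : Type u} [Field Ω] [IsSepClosed Ω] (ξ : Spec (CommRingCat.of Ω) ⟶ X)
    (φ : (Scheme.pointSmallEtale ξ).fiber.obj U) {s t : F.obj.obj (op U)}
    (h : germ ξ F U φ s = germ ξ F U φ t) : s = t := by
  obtain ⟨V, g, v, -, hV⟩ := (germ_eq_iff ξ F U φ s t).1 h
  refine sect_ext s t fun Ω' _ _ ξ' x => ?_
  let v₀ : V.left := v.left (default : Spec (CommRingCat.of Ω))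
  obtain ⟨y, hy⟩ := exists_fiber_lift g x v₀ (Subsingleton.elim _ _)
  rw [← hy, ← germ_res, ← germ_res, hV]

/-- The unit at a constant sheaf along a point over the generic point, provided étale schemes have
irreducible neighbourhoods and single points over their generic points. -/
theorem isIso_unit_generic [IrreducibleSpace X]
    (hX : ∀ (W : X.Etale) (w : W.left), ∃ N : W.left.Opens, w ∈ N ∧ IsIrreducible (N : Set W.left))
    {P : Scheme.{u}} [Subsingleton ↥P] [Nonempty ↥P] (g : P ⟶ X) [IsPreimmersion g]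
    (hg : ∀ p, g p = genericPoint X) (M : AddCommGrpCat.{u + 1}) :
    IsIso ((EtCoh.pullPushAdj g).unit.app (cSheaf X M)) := by
  let G := cSheaf X M
  refine isIso_of_stalk _ fun Ω _ _ ξ => (ConcreteCategory.isIso_iff_bijective _).2 ?_
  obtain ⟨φ₀, -⟩ := exists_fiber_point ξ (EtCoh.top X) (ξ default) rfl
  let u₀ : G ⟶ (EtCoh.push g).obj ((EtCoh.pull g).obj G) := (EtCoh.pullPushAdj g).unit.app G
  let L := ConcreteCategory.hom ((EtCoh.stalk ξ).map u₀)
  show Function.Bijective L
  have hL : ∀ (W : X.Etale) (φ : (Scheme.pointSmallEtale ξ).fiber.obj W) (c : M),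
      L (germ ξ G W φ (cst W c)) = germ ξ ((EtCoh.push g).obj ((EtCoh.pull g).obj G)) W φ
        (pullSect g G W (cst W c)) := fun W φ c => germ_naturality ξ u₀ W φ (cst W c)
  refine ⟨(injective_iff_map_eq_zero L).2 fun p hp => ?_, fun q => ?_⟩
  · obtain ⟨c, rfl⟩ := germ_cst_surjective ξ (EtCoh.top X) φ₀ p
    rw [hL, ← map_zero (germ ξ ((EtCoh.push g).obj ((EtCoh.pull g).obj G)) (EtCoh.top X) φ₀).hom] at hp
    obtain ⟨V, k, v, hv, hV⟩ := (germ_eq_iff ξ _ _ φ₀ _ _).1 hp
    obtain ⟨p⟩ := ‹Nonempty ↥P›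
    obtain ⟨w, hw⟩ := exists_point_over_genericPoint V (v.left (default : Spec (CommRingCat.of Ω)))
    let ζ := geomPointAt P p
    obtain ⟨ψ, -⟩ := exists_fiber_point (ζ ≫ g) V w (by
      rw [Scheme.Hom.comp_apply, geomPointAt_apply, hg, hw])
    have h0 : germ (ζ ≫ g) G V ψ (cst V c) = germ (ζ ≫ g) G V ψ (cst V 0) := by
      have he : pullSect g G V (cst V c) = 0 := by
        rw [← map_cst k c]
        exact ((((EtCoh.pullPushAdj g).unit.app G).hom.naturality k.op).symm.trans rfl
          |> fun e => (ConcreteCategory.congr_hom e.symm (cst (EtCoh.top X) c))).trans (hV.trans (map_zero _))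
      have h1 := germ_pullSect g ζ G V ψ (cst V c)
      rw [he, map_zero] at h1
      have h2 := congrArg ((stalkPullIso g ζ).hom.app G) h1
      rw [map_zero, ← ConcreteCategory.comp_apply, Iso.inv_hom_id_app, ConcreteCategory.id_apply] at h2
      rw [← h2, cst, map_zero, map_zero]
    rw [germ_cst_injective (ζ ≫ g) V ψ h0, cst, map_zero, map_zero]
  · obtain ⟨W, φ, t, rfl⟩ := exists_germ_eq ξ _ q
    obtain ⟨N, hwN, hN⟩ := hX W (φ.left (default : Spec (CommRingCat.of Ω)))
    obtain ⟨φ', hφ'⟩ := exists_fiber_lift (pieceHom W N) φ ⟨_, hwN⟩ rfl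
    let W' := piece W N
    let t' := ((EtCoh.pull g).obj G).obj.map ((EtCoh.bc g).map (pieceHom W N)).op t
    have hq : germ ξ ((EtCoh.push g).obj ((EtCoh.pull g).obj G)) W φ t =
        germ ξ ((EtCoh.push g).obj ((EtCoh.pull g).obj G)) W' φ' t' := by
      rw [← hφ', ← germ_res]
      rfl
    haveI : Etale W'.hom := W'.prop
    haveI : IrreducibleSpace ↥W'.left :=
      haveI : PreirreducibleSpace ↥(N : Scheme.{u}) := Subtype.preirreducibleSpace hN.2
      haveI : Nonempty ↥(N : Scheme.{u}) := ⟨⟨_, hwN⟩⟩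
      (⟨inferInstance⟩ : IrreducibleSpace ↥(N : Scheme.{u}))
    let h : W'.left ⟶ X := W'.hom
    haveI : Etale h := W'.prop
    haveI : LocallyQuasiFinite h := EtStruct.locallyQuasiFinite_of_formallyUnramified h
    have hgen : h (genericPoint (α := ↥W'.left)) = genericPoint X :=
      ((EtStruct.maximal_iff_map_maximal h _).1 (fun y hy => (hy.antisymm (genericPoint_specializes y)).eq) _
        (genericPoint_specializes _)).symm
    haveI : Subsingleton ↥((EtCoh.bc g).obj W').left := ⟨fun a b => by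
      refine (pullback.fst W'.hom g).isEmbedding.injective ?_
      suffices ∀ a, pullback.fst W'.hom g a = genericPoint (α := ↥W'.left) from (this a).trans (this b).symm
      intro a
      refine ((EtStruct.maximal_iff_map_maximal h _).2 (fun w hw => ?_) _ (genericPoint_specializes _)).symm
      have ha : h (pullback.fst W'.hom g a) = genericPoint X :=
        (Scheme.Hom.comp_apply _ _ _).symm.trans ((congrArg (fun k : _ ⟶ X => k a) pullback.condition).trans
          ((Scheme.Hom.comp_apply _ _ _).trans (hg _)))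
      rw [ha] at hw ⊢
      exact (hw.antisymm (genericPoint_specializes w)).eq⟩
    obtain ⟨p⟩ := ‹Nonempty ↥P›
    let ζ := geomPointAt P p
    obtain ⟨ψ, -⟩ := exists_fiber_point (ζ ≫ g) W' (genericPoint (α := ↥W'.left)) (by
      rw [Scheme.Hom.comp_apply, geomPointAt_apply, hg]; exact hgen)
    obtain ⟨c, hc⟩ := germ_cst_surjective (ζ ≫ g) W' ψ
      ((stalkPullIso g ζ).hom.app G (germ ζ _ ((EtCoh.bc g).obj W') (fiberBcEquiv g ζ W' ψ) t'))
    refine ⟨germ ξ G W' φ' (cst W' c), (hL W' φ' c).trans (hq.trans (congrArg _ ?_)).symm⟩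
    refine sect_ext_of_subsingleton ζ (fiberBcEquiv g ζ W' ψ) ?_
    rw [germ_pullSect, hc]
    exact (ConcreteCategory.congr_hom ((stalkPullIso g ζ).hom_inv_id_app G) _).symm

theorem exists_irreducible_nhd_of_normal [IsIntegral X] (hX : Pi1.IsNormalScheme X) (W : X.Etale)
    (w : W.left) : ∃ N : W.left.Opens, w ∈ N ∧ IsIrreducible (N : Set W.left) := by
  let h : W.left ⟶ X := W.hom
  haveI : Etale h := W.prop
  haveI := (hX (h w)).1
  haveI := (hX (h w)).2
  exact EtStruct.exists_irreducible_nhd_of_etale h w (Comod.isGeomUnibranch_of_normal _)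

end Groth.Agent.EtConsAb
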