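import Mathlib.AlgebraicGeometry.Normalization
import Mathlib.AlgebraicGeometry.Morphisms.Preimmersion
import Mathlib.AlgebraicGeometry.ResidueField
import Mathlib.AlgebraicGeometry.FunctionField
import Mathlib.RingTheory.Polynomial.ScaleRoots
import Mathlib.FieldTheory.IsAlgClosed.AlgebraicClosure

/-!
# The normalization of a scheme in the algebraic closure of a residue field
-/

set_option linter.style.haveILetI false

universe u

open CategoryTheory AlgebraicGeometry Opposite Topology Polynomial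

noncomputable section

namespace Groth.Agent.EtConsAb

/-- If every element of `k` is a fraction of images of `A`, elements algebraic over `k` become
integral over `A` after multiplication by the image of an element with nonzero image. -/
theorem exists_integral_multiple {A k L : Type u} [CommRing A] [Field k] [Field L] [Algebra k L]
    [Algebra.IsAlgebraic k L] (φ : A →+* k) (hφ : ∀ c : k, ∃ a b, φ b ≠ 0 ∧ c * φ b = φ a) (z : L) :
    ∃ b : A, φ b ≠ 0 ∧ ((algebraMap k L).comp φ).IsIntegralElem (algebraMap k L (φ b) * z) := by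
  classical
  obtain ⟨p, hp, hpz⟩ := (Algebra.IsAlgebraic.isAlgebraic (R := k) z).isIntegral
  choose a b hb hab using hφ
  let d : A := ∏ i ∈ Finset.range (p.natDegree + 1), b (p.coeff i)
  have hd : φ d ≠ 0 := by
    rw [map_prod]
    exact Finset.prod_ne_zero_iff.2 fun i _ => hb _
  have hlift : p.scaleRoots (φ d) ∈ lifts φ := by
    rw [lifts_iff_coeff_lifts]
    intro n
    rw [coeff_scaleRoots]
    rcases lt_trichotomy n p.natDegree with h | h | h
    · obtain ⟨m, hm⟩ : ∃ m, p.natDegree - n = m + 1 := ⟨p.natDegree - n - 1, by omega⟩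
      refine ⟨a (p.coeff n) * (∏ i ∈ (Finset.range (p.natDegree + 1)).erase n, b (p.coeff i)) * d ^ m, ?_⟩
      rw [hm, pow_succ', map_mul, map_mul, map_pow, ← mul_assoc, ← hab]
      simp only [d, map_prod]
      rw [← Finset.mul_prod_erase _ _ (Finset.mem_range.2 (by omega) : n ∈ Finset.range (p.natDegree + 1))]
      ring
    · exact ⟨1, by rw [h, Nat.sub_self, pow_zero, mul_one, map_one, hp.coeff_natDegree]⟩
    · exact ⟨0, by rw [map_zero, coeff_eq_zero_of_natDegree_lt h, zero_mul]⟩
  obtain ⟨q, hq, -, hqm⟩ := lifts_and_degree_eq_and_monic hlift (monic_scaleRoots_iff _ |>.2 hp)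
  refine ⟨d, hd, q, hqm, ?_⟩
  rw [← eval₂_map, hq]
  exact scaleRoots_eval₂_eq_zero _ hpz

variable {X : Scheme.{u}}

set_option backward.isDefEq.respectTransparency.types false in
theorem app_specMap_fromSpec {U : X.Opens} (hU : IsAffineOpen U) {R : CommRingCat.{u}} (ψ : Γ(X, U) ⟶ R) :
    (Spec.map ψ ≫ hU.fromSpec).app U = ψ ≫ (Scheme.ΓSpecIso R).inv ≫
      (Spec R).presheaf.map (homOfLE le_top).op := by
  rw [Scheme.Hom.comp_app, hU.fromSpec_app_self, Category.assoc,
    Scheme.ΓSpecIso_inv_naturality_assoc]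
  refine congrArg _ ?_
  exact (Spec.map ψ).naturality _

/-- The structure map of the algebraic closure of a residue field. -/
abbrev closurePt (x : X) : Spec (CommRingCat.of (AlgebraicClosure (X.residueField x))) ⟶ X :=
  Spec.map (CommRingCat.ofHom (algebraMap (X.residueField x) (AlgebraicClosure (X.residueField x)))) ≫
    X.fromSpecResidueField x

set_option backward.isDefEq.respectTransparency.types false in
/-- The geometric point is a preimmersion into the normalization. -/
theorem isPreimmersion_toNormalization (x : X) [QuasiCompact (closurePt x)] [QuasiSeparated (closurePt x)] :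
    IsPreimmersion (closurePt x).toNormalization := by
  let k := X.residueField x
  let Ω := AlgebraicClosure k
  let P := Spec (CommRingCat.of Ω)
  let f := closurePt x
  let g := f.toNormalization
  have hss : ∀ p q : P, p = q := fun p q => Subsingleton.elim (α := Spec (CommRingCat.of Ω)) p q
  have hemb : IsEmbedding g := by
    haveI : Subsingleton P := ⟨hss⟩
    exact ⟨⟨Subsingleton.elim _ _⟩, fun a b _ => hss a b⟩
  refine { isEmbedding := hemb, toSurjectiveOnStalks := ⟨fun p s => ?_⟩ }
  have hfp : f p = x := by rw [Scheme.Hom.comp_apply, Scheme.fromSpecResidueField_apply]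
  obtain ⟨U, hU, hxU, -⟩ := exists_isAffineOpen_mem_and_subset (show x ∈ (⊤ : X.Opens) from trivial)
  let ev : Γ(X, U) ⟶ k := X.presheaf.germ U x hxU ≫ X.residue x
  let ι : k ⟶ CommRingCat.of Ω := CommRingCat.ofHom (algebraMap k Ω)
  have hev : ∀ c : k, ∃ a b, ev b ≠ 0 ∧ c * ev b = ev a := fun c => by
    letI : Algebra Γ(X, U) (X.presheaf.stalk x) := TopCat.Presheaf.algebra_section_stalk X.presheaf ⟨x, hxU⟩
    haveI := hU.isLocalization_stalk ⟨x, hxU⟩
    obtain ⟨c, rfl⟩ := X.residue_surjective x c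
    obtain ⟨⟨a, b⟩, hab⟩ := IsLocalization.surj (hU.primeIdealOf ⟨x, hxU⟩).asIdeal.primeCompl c
    refine ⟨a, b, ?_, ?_⟩
    · exact ((IsLocalization.map_units (X.presheaf.stalk x) b).map (X.residue x).hom).ne_zero
    · exact (map_mul _ _ _).symm.trans (congrArg (X.residue x) hab)
  have hfU : f = Spec.map (ev ≫ ι) ≫ hU.fromSpec := by
    show Spec.map ι ≫ Spec.map (X.residue x) ≫ X.fromSpecStalk x = _
    rw [← hU.fromSpecStalk_eq_fromSpecStalk hxU]
    simp only [ev, IsAffineOpen.fromSpecStalk, Spec.map_comp, Category.assoc]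
  have hpre : f ⁻¹ᵁ U = ⊤ := eq_top_iff.2 fun q _ => show f q ∈ U by rw [hss q p, hfp]; exact hxU
  let r : CommRingCat.of Ω ⟶ Γ(P, f ⁻¹ᵁ U) :=
    (Scheme.ΓSpecIso _).inv ≫ P.presheaf.map (homOfLE le_top).op
  have happ : f.app U = (ev ≫ ι) ≫ r := by
    have h := Scheme.Hom.congr_app hfU U
    rw [app_specMap_fromSpec hU (ev ≫ ι)] at h
    rw [h]
    simp only [r, Category.assoc]
    congr 3
  haveI : IsIso (P.presheaf.map (homOfLE (le_top : f ⁻¹ᵁ U ≤ ⊤)).op) := by
    rw [show (homOfLE (le_top : f ⁻¹ᵁ U ≤ ⊤)).op = (eqToHom hpre).op from Subsingleton.elim _ _]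
    infer_instance
  have hr : Function.Bijective r := ConcreteCategory.bijective_of_isIso r
  have hpU : p ∈ f ⁻¹ᵁ U := hpre ▸ trivial
  obtain ⟨W, hpW, t, rfl⟩ := P.presheaf.exists_germ_eq s
  obtain rfl : W = f ⁻¹ᵁ U := TopologicalSpace.Opens.ext ((Set.eq_univ_of_forall fun q => hss p q ▸ hpW).trans
    (Set.eq_univ_of_forall fun q => hss p q ▸ hpU).symm)
  obtain ⟨z, rfl⟩ := hr.2 t
  obtain ⟨b, hb, hint⟩ := exists_integral_multiple ev.hom hev z
  letI := (f.app U).hom.toAlgebra
  let e := f.normalizationObjIso hU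
  have hmem : r (ι (ev b) * z) ∈ integralClosure Γ(X, U) Γ(P, f ⁻¹ᵁ U) := by
    obtain ⟨q, hq, hq0⟩ := hint
    refine ⟨q, hq, ?_⟩
    show q.eval₂ (f.app U).hom _ = 0
    rw [happ, CommRingCat.hom_comp, ← hom_eval₂]
    exact (congrArg r.hom hq0).trans (map_zero _)
  let w : Γ(f.normalization, f.fromNormalization ⁻¹ᵁ U) := e.inv ⟨_, hmem⟩
  let wb : Γ(f.normalization, f.fromNormalization ⁻¹ᵁ U) := e.inv ⟨f.app U b, isIntegral_algebraMap⟩
  have hle : f ⁻¹ᵁ U ≤ g ⁻¹ᵁ (f.fromNormalization ⁻¹ᵁ U) := by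
    rw [← Scheme.Hom.comp_preimage, f.toNormalization_fromNormalization]
  have hval : ∀ v, g.appLE _ _ hle (e.inv v) = v.1 := fun v =>
    (congr($(f.normalizationObjIso_hom_val hU).hom (e.inv v))).symm.trans
      (congrArg Subtype.val (ConcreteCategory.congr_hom e.inv_hom_id v))
  have hgp : g p ∈ f.fromNormalization ⁻¹ᵁ U := hle hpU
  have hgerm : ∀ v, g.stalkMap p (f.normalization.presheaf.germ _ (g p) hgp (e.inv v)) =
      P.presheaf.germ (f ⁻¹ᵁ U) p hpU v.1 := fun v => by
    rw [← hval, ← ConcreteCategory.comp_apply, Scheme.Hom.germ_stalkMap, ConcreteCategory.comp_apply,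
      Scheme.Hom.appLE, ConcreteCategory.comp_apply, TopCat.Presheaf.germ_res_apply]
  have hfield : IsField (f.normalization.presheaf.stalk (g p)) := by
    have hgen : g p = genericPoint f.normalization := by
      refine (IsGenericPoint.eq (genericPoint_spec _) ?_).symm
      rw [IsGenericPoint, ← g.denseRange.closure_range]
      congr 1
      exact (Set.eq_singleton_iff_unique_mem (s := Set.range g).2 ⟨⟨p, rfl⟩, fun _ ⟨q, hq⟩ => hq ▸ congrArg g (hss q p)⟩).symm
    rw [hgen]
    exact Field.toIsField f.normalization.functionField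
  let G := P.presheaf.germ (f ⁻¹ᵁ U) p hpU
  letI := hfield.toField
  let σ := (g.stalkMap p).hom
  let u := f.normalization.presheaf.germ _ (g p) hgp
  have h1 : σ (u w) = G (r (ι (ev b) * z)) := hgerm _
  have h2 : σ (u wb) = G (r (ι (ev b))) := (hgerm _).trans (congrArg (fun y => G (y b)) happ)
  have hb' : IsUnit (ι (ev b)) := isUnit_iff_ne_zero.2 fun h => hb ((map_eq_zero (algebraMap k Ω)).1 h)
  have hu : IsUnit (σ (u wb)) := h2 ▸ (hb'.map r.hom).map G.hom
  have hne : u wb ≠ 0 := fun h => by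
    haveI : Nontrivial (P.presheaf.stalk p) := inferInstance
    exact hu.ne_zero (by rw [h, map_zero])
  refine ⟨u w * (u wb)⁻¹, ?_⟩
  show σ (u w * (u wb)⁻¹) = G (r z)
  refine hu.mul_right_cancel ?_
  rw [← map_mul, mul_assoc, inv_mul_cancel₀ hne, mul_one, h1, h2, ← map_mul, ← map_mul, mul_comm]

end Groth.Agent.EtConsAb
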