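import Groth.Agent.EtConsAb.Colim
import Groth.Agent.EtColim.Sections

/-!
# Constructible sheaves are compact objects
-/

set_option linter.style.haveILetI false

universe w w' u

open CategoryTheory CategoryTheory.Limits AlgebraicGeometry Opposite

noncomputable section

namespace Groth.Agent.EtConsAb

open Groth.Agent Groth.Agent.EtaleSite

variable {X : Scheme.{u}}

/-- Maps out of finite sums of generators into a filtered colimit agree at a stage as soon as they
agree on sections in the colimit. -/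
theorem exists_comp_eq {I : Type w} [Category.{w'} I] [IsFiltered I]
    [HasColimitsOfShape I AddCommGrpCat.{u + 1}]
    [PreservesColimitsOfShape I (forget AddCommGrpCat.{u + 1})]
    {D : I ⥤ EtCoh.Ab X} (c : Cocone D) (hc : IsColimit c) {ι : Type (u + 1)} [Finite ι] (U : ι → X.Etale)
    (n : ι → ℕ) (hU : ∀ k, IsAffine (U k).left) {i : I}
    (a b : (⨁ fun k => EtPBC.extZeroConst (U k) (ZMod (n k))) ⟶ D.obj i)
    (h : a ≫ c.ι.app i = b ≫ c.ι.app i) : ∃ (j : I) (φ : i ⟶ j), a ≫ D.map φ = b ≫ D.map φ := by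
  let Z := fun k => EtPBC.extZeroConst (U k) (ZMod (n k))
  have hk : ∀ k, ∃ (j : I) (φ : i ⟶ j),
      (D.map φ).hom.app (op (U k)) ((biproduct.ι Z k ≫ a).hom.app (op (U k)) (gen (U k) (n k))) =
      (D.map φ).hom.app (op (U k)) ((biproduct.ι Z k ≫ b).hom.app (op (U k)) (gen (U k) (n k))) := fun k => by
    haveI := hU k
    refine EtColim.Sections.exists_map_eq D c hc (U k) _ _ ?_
    exact congrArg (fun q => (biproduct.ι Z k ≫ q).hom.app (op (U k)) (gen (U k) (n k))) h
  choose j φ hφ using hk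
  obtain ⟨m, ψ, hm⟩ := EtColim.Sections.exists_bound j φ
  refine ⟨m, ψ, biproduct.hom_ext' _ _ fun k => gen_hom_ext ?_⟩
  obtain ⟨χ, hχ⟩ := hm k
  rw [← hχ, Functor.map_comp]
  exact congrArg ((D.map χ).hom.app (op (U k))) (hφ k)

/-- Maps out of finite sums of generators into a filtered colimit factor through a stage. -/
theorem exists_comp_fac {I : Type w} [Category.{w'} I] [IsFiltered I]
    [HasColimitsOfShape I AddCommGrpCat.{u + 1}]
    [PreservesColimitsOfShape I (forget AddCommGrpCat.{u + 1})]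
    {D : I ⥤ EtCoh.Ab X} (c : Cocone D) (hc : IsColimit c) {ι : Type (u + 1)} [Finite ι] (U : ι → X.Etale)
    (n : ι → ℕ) (hU : ∀ k, IsAffine (U k).left)
    (f : (⨁ fun k => EtPBC.extZeroConst (U k) (ZMod (n k))) ⟶ c.pt) :
    ∃ (i : I) (g : (⨁ fun k => EtPBC.extZeroConst (U k) (ZMod (n k))) ⟶ D.obj i), g ≫ c.ι.app i = f := by
  classical
  let Z := fun k => EtPBC.extZeroConst (U k) (ZMod (n k))
  have hk : ∀ k, ∃ (i : I) (t : (D.obj i).obj.obj (op (U k))), n k • t = 0 ∧
      (c.ι.app i).hom.app (op (U k)) t = (biproduct.ι Z k ≫ f).hom.app (op (U k)) (gen (U k) (n k)) := fun k => by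
    haveI := hU k
    obtain ⟨i, t, ht⟩ := EtColim.Sections.exists_rep D c hc (U k)
      ((biproduct.ι Z k ≫ f).hom.app (op (U k)) (gen (U k) (n k)))
    obtain ⟨j, φ, hj⟩ := EtColim.Sections.exists_map_eq_zero D c hc (U k) (n k • t)
      (by rw [map_nsmul, ht, ← map_nsmul, nsmul_gen, map_zero])
    refine ⟨j, (D.map φ).hom.app (op (U k)) t, by rw [← map_nsmul]; exact hj, ?_⟩
    rw [← ht]
    exact congrArg (fun q => q.hom.app (op (U k)) t) (c.w φ)
  choose i t ht hti using hk
  letI := Fintype.ofFinite ι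
  obtain ⟨i₀, hi₀⟩ := IsFiltered.sup_objs_exists (Finset.univ.image i)
  let e : ∀ k, i k ⟶ i₀ := fun k => (hi₀ (Finset.mem_image_of_mem _ (Finset.mem_univ k))).some
  refine ⟨i₀, biproduct.desc fun k => secHom (t k) (ht k) ≫ D.map (e k), biproduct.hom_ext' _ _ fun k => ?_⟩
  rw [biproduct.ι_desc_assoc, Category.assoc, c.w (e k)]
  refine gen_hom_ext ?_
  refine (congrArg ((c.ι.app (i k)).hom.app (op (U k))) (secHom_gen (t k) (ht k))).trans (hti k)

/-- `Hom` out of a constructible sheaf commutes with filtered colimits. -/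
theorem nonempty_isColimit_map_coyoneda [CompactSpace X] [QuasiSeparatedSpace X] {F : EtCoh.Ab X}
    (hF : EtPBC.IsConstructible F) {I : Type w} [Category.{w'} I] [IsFiltered I]
    [HasColimitsOfShape I AddCommGrpCat.{u + 1}]
    [PreservesColimitsOfShape I (forget AddCommGrpCat.{u + 1})]
    {D : I ⥤ EtCoh.Ab X} {c : Cocone D} (hc : IsColimit c) :
    Nonempty (IsColimit ((coyoneda.obj (op F)).mapCocone c)) := by
  obtain ⟨q, hq⟩ := Stage.exists_iso_of_isConstructible hF
  let e : genSum q.1.1 ⟶ F := cokernel.π (Stage.relMap q) ≫ Stage.π q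
  have hd : Epi e := epi_comp _ _
  have key : ∀ i (a b : F ⟶ D.obj i), a ≫ c.ι.app i = b ≫ c.ι.app i →
      ∃ (j : I) (φ : i ⟶ j), a ≫ D.map φ = b ≫ D.map φ := fun i a b hab => by
    obtain ⟨j, φ, hφ⟩ := exists_comp_eq c hc (fun g : q.1.1 => g.1.U) (fun g => g.1.n) (fun g => g.1.affine)
      (e ≫ a) (e ≫ b) ((Category.assoc _ _ _).trans ((congrArg (e ≫ ·) hab).trans (Category.assoc _ _ _).symm))
    exact ⟨j, φ, (cancel_epi e).1 (by simpa using hφ)⟩
  refine ⟨Types.FilteredColimit.isColimitOf' _ _ (fun f => ?_) fun i a b hab => ?_⟩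
  · obtain ⟨i, g, hg⟩ := exists_comp_fac c hc (fun g : q.1.1 => g.1.U) (fun g => g.1.n) (fun g => g.1.affine) (e ≫ f)
    obtain ⟨j, φ, hj⟩ := exists_comp_eq c hc (fun r : q.1.2 => r.1.rel.U) (fun r => r.1.rel.n)
      (fun r => r.1.rel.affine) (Stage.relMap q ≫ g) 0 (by
        rw [Category.assoc, hg, zero_comp]
        simp [e])
    have h0 : Stage.relMap q ≫ g ≫ D.map φ = 0 := by simpa using hj
    refine ⟨j, inv (Stage.π q) ≫ cokernel.desc _ (g ≫ D.map φ) h0, ?_⟩
    refine (cancel_epi e).1 ?_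
    show e ≫ f = e ≫ (inv (Stage.π q) ≫ cokernel.desc _ (g ≫ D.map φ) h0) ≫ c.ι.app j
    simp only [e, Category.assoc, IsIso.hom_inv_id_assoc, cokernel.π_desc_assoc, c.w, hg]
  · obtain ⟨j, φ, hj⟩ := key i a b hab
    exact ⟨j, φ, hj⟩

end Groth.Agent.EtConsAb
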