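import Groth.Agent.EtConsAb.Special
import Groth.Agent.LimTop.Closure
import Groth.Agent.EtShriekLib.ExtZeroIso
import Mathlib.AlgebraicGeometry.Morphisms.QuasiFinite
import Groth.Agent.EtConsAb.Strata

/-!
# Constructibility and local constancy by specialisation
-/

set_option linter.style.haveILetI false

universe u

open CategoryTheory CategoryTheory.Limits AlgebraicGeometry Opposite Topology

noncomputable section

namespace Groth.Agent.EtConsAb

open Groth.Agent Groth.Agent.EtaleSite

variable {X : Scheme.{u}}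

theorem isConstructible_of_isFLC [QuasiSeparatedSpace X] {F : EtCoh.Ab X}
    (hF : EtCoh.IsFiniteLocallyConstant F) : EtPBC.IsConstructible F :=
  isConstructible_of_strataCover ⟨PUnit, inferInstance, fun _ => X, fun _ => 𝟙 X, fun _ => inferInstance,
    fun _ => by simp,
    Set.eq_univ_of_forall fun x => Set.mem_iUnion.2 ⟨⟨⟩, x, rfl⟩, fun _ => isFLC_pull (𝟙 X) hF⟩

/-- The closure of a constructible set consists of specialisations of its points. -/
theorem exists_specializes_of_isConstructible {E : Set X} (hE : IsConstructible E) {y : X}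
    (hy : y ∈ closure E) : ∃ z ∈ E, z ⤳ y :=
  LimTop.exists_specializes_of_mem_closure
    (fun x => ⟨Set.univ, isOpen_univ, trivial, {Subtype.val ⁻¹' E}, fun T hT => by
      rw [Set.mem_singleton_iff.1 hT]
      exact (isConstructible_preimage_val_univ hE).isLocallyConstructible,
      (Set.sInter_singleton _).symm⟩) hy

/-- A trivialisation near a point in an open over which the sheaf is finite locally constant. -/
theorem exists_isTriv_of_open {F : EtCoh.Ab X} (V : X.Opens)
    (hF : EtCoh.IsFiniteLocallyConstant ((EtCoh.pull V.ι).obj F)) {Ω : Type u} [Field Ω] [IsSepClosed Ω]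
    (ξ : Spec (CommRingCat.of Ω) ⟶ X) (hξ : ξ default ∈ V) :
    ∃ (W : X.Etale) (_ : (Scheme.pointSmallEtale ξ).fiber.obj W) (M : Type (u + 1)) (_ : AddCommGroup M)
      (_ : Finite M) (m : M →+ F.obj.obj (op W)), IsTriv F W M m := by
  obtain ⟨η, rfl⟩ := exists_lift_of_isImmersion V.ι ξ ⟨_, hξ⟩ rfl
  refine exists_isTriv_of_pull V.ι F hF η fun W w => ?_
  haveI : Etale W.hom := W.prop
  let V' : X.Etale := Scheme.Etale.mk (W.hom ≫ V.ι)
  refine ⟨V', (Over.homMk w.left ((Category.assoc _ _ _).symm.trans (congrArg (· ≫ V.ι) (Over.w w))) :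
    Over.mk (η ≫ V.ι) ⟶ (Scheme.Etale.forget X).obj V'), ?_, ⟨MorphismProperty.Over.homMk
      (pullback.fst V'.hom V.ι) ?_ trivial⟩⟩
  · rintro _ ⟨v, rfl⟩
    exact ⟨W.hom v, (Scheme.Hom.comp_apply _ _ _).symm⟩
  · refine (cancel_mono V.ι).1 ?_
    exact (Category.assoc _ _ _).trans pullback.condition

/-- Specialisation maps are isomorphisms on finite locally constant sheaves. -/
theorem isIso_sheafFiber_of_isTriv {F : EtCoh.Ab X} {Ω Ω' : Type u} [Field Ω] [IsSepClosed Ω] [Field Ω']
    [IsSepClosed Ω'] {ξ : Spec (CommRingCat.of Ω) ⟶ X} {ξ' : Spec (CommRingCat.of Ω') ⟶ X}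
    (f : Scheme.pointSmallEtale ξ' ⟶ Scheme.pointSmallEtale ξ) {W : X.Etale}
    (w : (Scheme.pointSmallEtale ξ).fiber.obj W) {M : Type (u + 1)} [AddCommGroup M]
    {m : M →+ F.obj.obj (op W)} (hm : IsTriv F W M m) :
    IsIso ((GrothendieckTopology.Point.Hom.sheafFiber (A := AddCommGrpCat.{u + 1}) f).app F) := by
  refine (ConcreteCategory.isIso_iff_bijective _).2 ?_
  refine (Function.Bijective.of_comp_iff _ (hm Ω ξ w)).1 ?_
  have h : (fun q => (GrothendieckTopology.Point.Hom.sheafFiber (A := AddCommGrpCat.{u + 1}) f).app F q) ∘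
      (fun x => germ ξ F W w (m x)) = fun x => germ ξ' F W (f.hom.app W w) (m x) :=
    funext fun x => sheafFiber_germ ξ ξ' f F W w (m x)
  exact h ▸ hm Ω' ξ' (f.hom.app W w)

/-- A constructible sheaf whose specialisation maps out of `ξ` are isomorphisms is finite locally
constant near it. -/
theorem exists_open_flc_of_special {F : EtCoh.Ab X} (hF : EtPBC.IsConstructible F) {Ω : Type u} [Field Ω]
    [IsSepClosed Ω] (ξ : Spec (CommRingCat.of Ω) ⟶ X)
    (h : ∀ (Ω' : Type u) [Field Ω'] [IsSepClosed Ω'] (ξ' : Spec (CommRingCat.of Ω') ⟶ X)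
      (f : Scheme.pointSmallEtale ξ' ⟶ Scheme.pointSmallEtale ξ),
      IsIso ((GrothendieckTopology.Point.Hom.sheafFiber (A := AddCommGrpCat.{u + 1}) f).app F)) :
    ∃ V : X.Opens, ξ default ∈ V ∧ EtCoh.IsFiniteLocallyConstant ((EtCoh.pull V.ι).obj F) := by
  haveI := finite_stalk_of_isConstructible hF ξ
  obtain ⟨U, hU, φ, m, hm⟩ := exists_stalk_sect F ξ
  obtain ⟨a, ha⟩ := exists_sectMap F U m
  let Bad : Set U.left := EtPBC.supp (kernel a) ∪ EtPBC.supp (cokernel a)
  have hM := isConstructible_of_isFLC (isFLC_const (X := U.left) (↑((EtCoh.stalk ξ).obj F)))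
  have hF' := isConstructible_pull U.hom hF
  have hBad : IsConstructible Bad :=
    (isConstructible_supp_of_strataCover (strataCover_of_isConstructible (isConstructible_kernel a hM hF'))).union
      (isConstructible_supp_of_strataCover (strataCover_of_isConstructible (isConstructible_cokernel a hM hF')))
  have hgood : ∀ v, v ∉ Bad → v ∈ goodSet F U m := fun v hv Ω' _ _ ξ' φ' hy => by
    obtain ⟨h1, h2⟩ := ha Ω' ξ' φ'
    rw [hy] at h1 h2
    exact ⟨h1.2 fun h => hv (Or.inl h), h2.2 fun h => hv (Or.inr h)⟩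
  let u₀ := φ.left (default : Spec (CommRingCat.of Ω))
  have hu : u₀ ∉ closure Bad := by
    intro hcl
    obtain ⟨y, hy, hyu⟩ := exists_specializes_of_isConstructible hBad hcl
    obtain ⟨f, hf⟩ := exists_pointHom ξ (geomPointAt X (U.hom y)) U φ y hyu (geomPointAt_apply X _ _).symm
    have hb : Function.Bijective fun x => germ _ F U (f.hom.app U φ) (m x) := by
      have e : (fun x => germ _ F U (f.hom.app U φ) (m x)) =
          fun q => (GrothendieckTopology.Point.Hom.sheafFiber (A := AddCommGrpCat.{u + 1}) f).app F q :=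
        funext fun q => ((sheafFiber_germ ξ _ f F U φ (m q)).symm.trans
          (congrArg ((GrothendieckTopology.Point.Hom.sheafFiber (A := AddCommGrpCat.{u + 1}) f).app F) (hm q)))
      rw [e]
      haveI := h _ _ f
      exact ConcreteCategory.bijective_of_isIso _
    obtain ⟨h1, h2⟩ := ha _ _ (f.hom.app U φ)
    rw [hf] at h1 h2
    rcases hy with hy | hy
    · exact h1.1 hb.1 hy
    · exact h2.1 hb.2 hy
  obtain ⟨V, hV, hVF⟩ := exists_open_flc_of_goodSet F m ⟨(closure Bad)ᶜ, isClosed_closure.isOpen_compl⟩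
    fun v hv => hgood v fun h => hv (subset_closure h)
  refine ⟨V, ?_, hVF⟩
  have := hV u₀ hu
  rwa [show U.hom u₀ = ξ default from congrArg (fun k : Spec (CommRingCat.of Ω) ⟶ X => k default) (Over.w φ)]
    at this

/-- The part of an étale neighbourhood near `u` over the closure of its image consists of
specialisations of `u`. -/
theorem exists_open_specializes [IsLocallyNoetherian X] (U : X.Etale) [IsAffine U.left] (u₀ : U.left) :
    ∃ O : U.left.Opens, u₀ ∈ O ∧ ∀ v ∈ O, U.hom v ∈ closure ({U.hom u₀} : Set X) → u₀ ⤳ v := by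
  haveI : Etale U.hom := U.prop
  haveI : IsLocallyNoetherian ((Functor.fromPUnit X).obj U.right) := ‹IsLocallyNoetherian X›
  haveI : IsLocallyNoetherian U.left := LocallyOfFiniteType.isLocallyNoetherian U.hom
  haveI : CompactSpace ↥U.left := inferInstance
  haveI : IsNoetherian U.left := {}
  let C : Set U.left := U.hom ⁻¹' closure ({U.hom u₀} : Set X)
  have hC : IsClosed C := isClosed_closure.preimage U.hom.continuous
  let S := {Z | Z ∈ irreducibleComponents ↥C ∧ u₀ ∉ Subtype.val '' Z}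
  have hB : IsClosed (⋃ Z ∈ S, Subtype.val '' Z) :=
    ((TopologicalSpace.NoetherianSpace.finite_irreducibleComponents (α := ↥C)).subset fun Z hZ => hZ.1).isClosed_biUnion
      fun Z hZ => hC.isClosedMap_subtype_val _ (isClosed_of_mem_irreducibleComponents Z hZ.1)
  refine ⟨⟨(⋃ Z ∈ S, Subtype.val '' Z)ᶜ, hB.isOpen_compl⟩, fun h => ?_, fun v hv hvC => ?_⟩
  · obtain ⟨Z, hZ, hu⟩ := Set.mem_iUnion₂.1 h
    exact hZ.2 hu
  · let Z := irreducibleComponent (⟨v, hvC⟩ : C)
    have hu : u₀ ∈ Subtype.val '' Z := by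
      by_contra hu
      exact hv (Set.mem_biUnion ⟨irreducibleComponent_mem_irreducibleComponents _, hu⟩
        ⟨⟨v, hvC⟩, mem_irreducibleComponent, rfl⟩)
    have hi : IsIrreducible (Subtype.val '' Z) :=
      isIrreducible_irreducibleComponent.image _ continuous_subtype_val.continuousOn
    have hgen := hi.isGenericPoint_genericPoint (hC.isClosedMap_subtype_val _ isClosed_irreducibleComponent)
    obtain ⟨⟨z, hzC⟩, -, hz⟩ := hgen.mem
    have hzu : z ⤳ u₀ := by rw [show z = hi.genericPoint from hz]; exact hgen.specializes hu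
    -- fibres of étale morphisms have no proper generisations
    have he : U.hom z = U.hom u₀ :=
      ((hzu.map U.hom.continuous).antisymm (specializes_iff_mem_closure.2 hzC)).eq
    have hzu' : z = u₀ := by
      haveI : LocallyQuasiFinite U.hom := EtShriekLib.locallyQuasiFinite_of_etale U.hom
      have hd : DiscreteTopology (U.hom ⁻¹' {U.hom u₀}) := U.hom.isDiscrete_preimage_singleton _ |>.to_subtype
      have hs : (⟨z, he⟩ : ↥(U.hom ⁻¹' {U.hom u₀})) ⤳ ⟨u₀, rfl⟩ := (subtype_specializes_iff _ _).2 hzu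
      exact congrArg Subtype.val hs.eq
    rw [← hzu', show z = hi.genericPoint from hz]
    exact hgen.specializes ⟨⟨v, hvC⟩, mem_irreducibleComponent, rfl⟩

/-- A locally closed neighbourhood of `x` in its closure made of good points gives a stratum. -/
theorem exists_stratum_of_good {F : EtCoh.Ab X} {U : X.Etale} {M : Type (u + 1)} [AddCommGroup M] [Finite M]
    (m : M →+ F.obj.obj (op U)) (u₀ : U.left) (O : U.left.Opens) (hu : u₀ ∈ O)
    (hgood : ∀ v ∈ O, U.hom v ∈ closure ({U.hom u₀} : Set X) → v ∈ goodSet F U m) :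
    ∃ (V : X.Opens) (T : Scheme.{u}) (g : T ⟶ X), IsImmersion g ∧ U.hom u₀ ∈ V ∧
      Set.range g.base = (V : Set X) ∩ closure {U.hom u₀} ∧
      EtCoh.IsFiniteLocallyConstant ((EtCoh.pull g).obj F) := by
  haveI : Etale U.hom := U.prop
  let V : X.Opens := ⟨U.hom '' (O : Set U.left), U.hom.isOpenMap _ O.2⟩
  obtain ⟨Z, c, hc, _, hx⟩ := exists_irreducible_subscheme (U.hom u₀)
  have hr : Set.range c = closure ({U.hom u₀} : Set X) := by
    have h := (genericPoint_spec ↥Z).image c.continuous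
    rw [hx, Set.image_univ, c.isClosedEmbedding.isClosed_range.closure_eq] at h
    exact h.symm
  let g := (c ⁻¹ᵁ V).ι ≫ c
  have hg : Set.range g = (V : Set X) ∩ closure {U.hom u₀} := by
    rw [show ⇑g = c ∘ (c ⁻¹ᵁ V).ι from funext fun _ => Scheme.Hom.comp_apply _ _ _, Set.range_comp,
      Scheme.Opens.range_ι, ← hr]
    exact Set.image_preimage_eq_inter_range (f := c) (t := (V : Set X))
  refine ⟨V, (c ⁻¹ᵁ V : Z.Opens), g, inferInstance, ⟨u₀, hu, rfl⟩, hg, ?_⟩
  refine isFLC_pull_of_goodSet F ((F.obj.map (pieceHom U O).op).hom.comp m) g (fun t => ?_)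
    fun v hv Ω _ _ ξ φ hφ => ?_
  · obtain ⟨hV, hcl⟩ := hg.subset ⟨t, rfl⟩
    obtain ⟨v, hv, hvt⟩ := hV
    refine ⟨⟨v, hv⟩, fun Ω _ _ ξ φ hφ => ?_, hvt⟩
    have hb := hgood v hv (hvt ▸ hcl) Ω ξ ((Scheme.pointSmallEtale ξ).fiber.map (pieceHom U O) φ)
      (congrArg Subtype.val hφ)
    simpa only [AddMonoidHom.comp_apply, germ_res] using hb
  · have hb := hgood _ v.2 (hg.subset hv).2 Ω ξ ((Scheme.pointSmallEtale ξ).fiber.map (pieceHom U O) φ)
      (congrArg Subtype.val hφ)
    simpa only [AddMonoidHom.comp_apply, germ_res] using hb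

/-- Injective specialisations and finite stalks give a stratum at every point. -/
theorem exists_stratum_of_mono [IsLocallyNoetherian X] (F : EtCoh.Ab X)
    (hfin : ∀ (Ω : Type u) [Field Ω] [IsSepClosed Ω] (ξ : Spec (CommRingCat.of Ω) ⟶ X),
      Finite ((EtCoh.stalk ξ).obj F))
    (hmono : ∀ (Ω Ω' : Type u) [Field Ω] [IsSepClosed Ω] [Field Ω'] [IsSepClosed Ω']
        (ξ : Spec (CommRingCat.of Ω) ⟶ X) (ξ' : Spec (CommRingCat.of Ω') ⟶ X)
        (φ : Scheme.pointSmallEtale ξ' ⟶ Scheme.pointSmallEtale ξ),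
        Mono ((GrothendieckTopology.Point.Hom.sheafFiber (A := AddCommGrpCat.{u + 1}) φ).app F)) (x : X) :
    ∃ (V : X.Opens) (T : Scheme.{u}) (g : T ⟶ X), IsImmersion g ∧ x ∈ V ∧
      Set.range g.base = (V : Set X) ∩ closure {x} ∧
      EtCoh.IsFiniteLocallyConstant ((EtCoh.pull g).obj F) := by
  let η := geomPointAt X x
  haveI := hfin _ η
  obtain ⟨U, hU, φ, m, hm⟩ := exists_stalk_sect F η
  let u₀ := φ.left (default : Spec (CommRingCat.of _))
  have hu₀ : U.hom u₀ = x := (congrArg (fun k : Spec (CommRingCat.of (SeparableClosure (X.residueField x))) ⟶ X => k default) (Over.w φ)).trans (geomPointAt_apply X x _)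
  have hgu : u₀ ∈ goodSet F U m := mem_goodSet rfl (by
    rw [show (fun q => germ η F U φ (m q)) = id from funext hm]
    exact Function.bijective_id)
  obtain ⟨O, hO, hspec⟩ := exists_open_specializes U u₀
  have hgood : ∀ v ∈ O, U.hom v ∈ closure ({U.hom u₀} : Set X) → v ∈ goodSet F U m := by
    intro v hv hvC Ω _ _ ξ ψ hψ
    obtain ⟨f, hf⟩ := exists_pointHom ξ η U ψ u₀ (hψ.symm ▸ hspec v hv hvC)
      (hu₀.trans (geomPointAt_apply X x _).symm)
    have hb := hgu _ η (f.hom.app U ψ) hf
    let σ := (GrothendieckTopology.Point.Hom.sheafFiber (A := AddCommGrpCat.{u + 1}) f).app F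
    haveI := hmono _ _ ξ η f
    have hσ : Function.Injective σ := (AddCommGrpCat.mono_iff_injective _).1 inferInstance
    have e : σ ∘ (fun q => germ ξ F U ψ (m q)) = fun q => germ η F U (f.hom.app U ψ) (m q) :=
      funext fun q => sheafFiber_germ ξ η f F U ψ (m q)
    rw [← e] at hb
    exact ⟨hb.1.of_comp, hb.2.of_comp_left hσ⟩
  obtain ⟨V, T, g, h1, h2, h3, h4⟩ := exists_stratum_of_good m u₀ O hO hgood
  exact ⟨V, T, g, h1, hu₀ ▸ h2, by rw [h3, hu₀], h4⟩

end Groth.Agent.EtConsAb
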