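import Groth.Agent.EtConsAb.SurjDescent
import Groth.Agent.EtaleSite.IntegralBC
import Groth.Agent.EtaleSite.PushIntegral
import Groth.Agent.EtaleSite.Recollement
import Groth.Agent.EtaleSite.HpullComp
import Groth.Agent.EtaleStrat.Main
import Groth.Agent.EtConsAb.Strata
import Groth.Agent.S12442
import Mathlib.AlgebraicGeometry.Morphisms.FinitePresentation
import Mathlib.AlgebraicGeometry.Morphisms.Finite

/-!
# Finite morphisms split over constructible covers, and direct images along finite morphisms

Over a surjective family of constructible strata of auxiliary schemes, a finite morphism of finite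
presentation is covered by pairwise disjoint sections.
-/

set_option linter.style.haveILetI false

universe u

open CategoryTheory CategoryTheory.Limits AlgebraicGeometry Opposite Topology

noncomputable section

namespace Groth.Agent.EtConsAb

open Groth.Agent Groth.Agent.EtaleSite

variable {X Y : Scheme.{u}}

/-- Through every point of a constructible set passes an immersed stratum inside it. -/
theorem exists_stratum_subset [CompactSpace X] [QuasiSeparatedSpace X] {E : Set X}
    (hE : IsConstructible E) {x : X} (hx : x ∈ E) :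
    ∃ (T : Scheme.{u}) (a : T ⟶ X), IsImmersion a ∧ IsConstructible (Set.range a) ∧ x ∈ Set.range a ∧
      Set.range a ⊆ E ∧ CompactSpace T ∧ QuasiSeparatedSpace T := by
  classical
  obtain ⟨G, hGf, hGo, hGd⟩ := ConstrLib.exists_finite_determining hE
  haveI := hGf.to_subtype
  let O : X.Opens := ⟨⋂ a : {a : ↥G // x ∈ a.1}, a.1.1, isOpen_iInter_of_finite fun a => (hGo _ a.1.2).1⟩
  let C : Set X := ⋂ a : {a : ↥G // x ∉ a.1}, (a.1.1)ᶜ
  have hC : IsClosed C := isClosed_iInter fun a => (hGo _ a.1.2).1.isClosed_compl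
  let Z : TopologicalSpace.Closeds O.toScheme := ⟨Subtype.val ⁻¹' C, hC.preimage continuous_subtype_val⟩
  let a := (Scheme.IdealSheafData.vanishingIdeal Z).subschemeι ≫ O.ι
  have hr : Set.range a = (O : Set X) ∩ C := by
    rw [show ⇑a = O.ι ∘ (Scheme.IdealSheafData.vanishingIdeal Z).subschemeι
      from funext fun _ => Scheme.Hom.comp_apply _ _ _, Set.range_comp,
      Scheme.IdealSheafData.range_subschemeι, Scheme.IdealSheafData.coe_support_vanishingIdeal]
    ext y
    constructor
    · rintro ⟨y, hy, rfl⟩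
      exact ⟨y.2, hy⟩
    · rintro ⟨hy, hy'⟩
      exact ⟨⟨y, hy⟩, hy', rfl⟩
  have hcons : IsConstructible (Set.range a) := by
    rw [hr]
    exact (IsConstructible.iInter fun s : {s : ↥G // x ∈ s.1} =>
      (hGo _ s.1.2).2.isConstructible (hGo _ s.1.2).1).inter
      (IsConstructible.iInter fun s : {s : ↥G // x ∉ s.1} =>
        isConstructible_compl.2 ((hGo _ s.1.2).2.isConstructible (hGo _ s.1.2).1))
  have hmem : x ∈ Set.range a := by
    rw [hr]
    exact ⟨Set.mem_iInter.2 fun s => s.2, Set.mem_iInter.2 fun s => s.2⟩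
  refine ⟨_, a, inferInstance, hcons, hmem, fun y hy => (hGd x y fun g hg => ?_).1 hx, ?_, ?_⟩
  · rw [hr] at hy
    exact ⟨fun h => Set.mem_iInter.1 hy.1 ⟨⟨g, hg⟩, h⟩,
      fun h => by_contra fun h' => Set.mem_iInter.1 hy.2 ⟨⟨g, hg⟩, h'⟩ h⟩
  · haveI : IsImmersion a := inferInstance
    refine isCompact_univ_iff.1 (a.isEmbedding.isCompact_iff.2 ?_)
    rw [Set.image_univ, ← Set.univ_inter (Set.range a), Set.inter_comm]
    exact ConstrLib.isRetrocompact_of_isConstructible hcons isCompact_univ isOpen_univ
  · exact quasiSeparatedSpace_of_quasiSeparated a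

/-- The direct image along the identity. -/
theorem isConstructible_push_of_eq_id {T : Scheme.{u}} {g : T ⟶ T} (hg : g = 𝟙 T) {H : EtCoh.Ab T}
    (hH : EtPBC.IsConstructible H) : EtPBC.IsConstructible ((EtCoh.push g).obj H) := by
  subst hg
  exact isConstructible_of_iso (((EtCoh.pullPushAdj (𝟙 T)).ofNatIsoLeft (HpullComp.pullId T)).rightAdjointUniq
    Adjunction.id |>.app H).symm hH

/-- A sheaf on a scheme covered by the disjoint images of finitely many closed immersions. -/
theorem nonempty_iso_biproduct_push {P : Scheme.{u}} {ι : Type} [Finite ι] (T : ι → Scheme.{u})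
    (τ : ∀ a, T a ⟶ P) [∀ a, IsClosedImmersion (τ a)]
    (hdisj : Pairwise fun a b => Disjoint (Set.range (τ a)) (Set.range (τ b)))
    (hcov : ∀ p : P, ∃ a, p ∈ Set.range (τ a)) (G : EtCoh.Ab P) :
    Nonempty (G ≅ ⨁ fun a => (EtCoh.push (τ a)).obj ((EtCoh.pull (τ a)).obj G)) := by
  classical
  cases nonempty_fintype ι
  let B := fun a => (EtCoh.push (τ a)).obj ((EtCoh.pull (τ a)).obj G)
  let φ : G ⟶ ⨁ B := biproduct.lift fun a => (EtCoh.pullPushAdj (τ a)).unit.app G
  suffices IsIso φ from ⟨asIso φ⟩
  refine isIso_of_stalk _ fun Ω _ _ η => ?_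
  obtain ⟨b, hb⟩ := hcov (η default)
  let L := EtCoh.stalk η
  haveI : IsIso (L.map (biproduct.π B b)) := by
    refine ⟨L.map (biproduct.ι B b), ?_, ?_⟩
    · have h : L.map (∑ a, biproduct.π B a ≫ biproduct.ι B a) = 𝟙 _ := by
        rw [biproduct.total, CategoryTheory.Functor.map_id]
      rw [← h, Functor.map_sum, Finset.sum_eq_single b, ← L.map_comp]
      · intro a _ ha
        rw [L.map_comp, (isZero_stalk_push (τ a) η (Set.disjoint_right.1 (hdisj ha) hb) _).eq_of_tgt
          (L.map (biproduct.π B a)) 0, zero_comp]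
      · exact fun h => absurd (Finset.mem_univ b) h
    · rw [← L.map_comp, biproduct.ι_π_self, CategoryTheory.Functor.map_id]
  haveI := isIso_stalk_unit_push (τ b) G η hb
  haveI : IsIso (L.map φ ≫ L.map (biproduct.π B b)) := by
    rw [← L.map_comp, biproduct.lift_π]
    infer_instance
  exact IsIso.of_isIso_comp_right (L.map φ) (L.map (biproduct.π B b))

/-- Direct images along a finite morphism covered by disjoint sections. -/
theorem isConstructible_push_of_sections {P T : Scheme.{u}} (f : P ⟶ T) [IsFinite f] {ι : Type} [Finite ι]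
    (τ : ι → (T ⟶ P)) (hτ : ∀ a, τ a ≫ f = 𝟙 T)
    (hdisj : Pairwise fun a b => Disjoint (Set.range (τ a)) (Set.range (τ b)))
    (hcov : ∀ p : P, ∃ a, p ∈ Set.range (τ a)) {G : EtCoh.Ab P} (hG : EtPBC.IsConstructible G) :
    EtPBC.IsConstructible ((EtCoh.push f).obj G) := by
  classical
  cases nonempty_fintype ι
  haveI : ∀ a, IsClosedImmersion (τ a) := fun a => by
    haveI : IsClosedImmersion (τ a ≫ f) := by rw [hτ a]; infer_instance
    exact IsClosedImmersion.of_comp (τ a) f
  obtain ⟨e⟩ := nonempty_iso_biproduct_push (fun _ => T) τ hdisj hcov G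
  refine isConstructible_of_iso ((EtCoh.push f).mapIso e ≪≫ (EtCoh.push f).mapBiproduct _).symm
    (isConstructible_biproduct _ fun a => ?_)
  exact isConstructible_of_iso ((EtCoh.pushComp f (τ a)).app _).symm
    (isConstructible_push_of_eq_id (hτ a) (isConstructible_pull (τ a) hG))

section Split

variable (f : X ⟶ Y) [IsFinite f] [LocallyOfFinitePresentation f]

/-- Every geometric point lifts to an auxiliary scheme over which the morphism has pairwise disjoint
sections whose images contain the whole fibre. -/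
theorem exists_sections [CompactSpace Y] [QuasiSeparatedSpace Y] {Ω : Type u} [Field Ω] [IsAlgClosed Ω]
    (η : Spec (CommRingCat.of Ω) ⟶ Y) :
    ∃ (S : Scheme.{u}) (π : S ⟶ Y) (_ : CompactSpace S) (_ : QuasiSeparatedSpace S)
      (_ : LocallyOfFinitePresentation π) (_ : QuasiCompact π) (ι : Type) (_ : Finite ι)
      (τ : ι → (S ⟶ pullback π f)) (s : Spec (CommRingCat.of Ω) ⟶ S), s ≫ π = η ∧
      (∀ a, τ a ≫ pullback.fst π f = 𝟙 S) ∧
      Pairwise (fun a b => Disjoint (Set.range (τ a)) (Set.range (τ b))) ∧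
      ∀ p, pullback.fst π f p = s default → ∃ a, p ∈ Set.range (τ a) := by
  classical
  haveI : Finite ↥(pullback η f) := Set.finite_univ_iff.1 <| by
    have h := (pullback.fst η f).finite_preimage_singleton (default : Spec (CommRingCat.of Ω))
    rwa [show (pullback.fst η f) ⁻¹' {default} = Set.univ from
      Set.eq_univ_of_forall fun z => Subsingleton.elim (α := Spec (CommRingCat.of Ω)) _ _] at h
  suffices key : ∀ (m : ℕ) (S : Scheme.{u}) (π : S ⟶ Y) (_ : CompactSpace S) (_ : QuasiSeparatedSpace S)
      (_ : LocallyOfFinitePresentation π) (_ : QuasiCompact π) (ι : Type) (_ : Finite ι)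
      (σ : ι → (S ⟶ X)) (hσ : ∀ a, 𝟙 S ≫ π = σ a ≫ f) (s : Spec (CommRingCat.of Ω) ⟶ S) (hs : s ≫ π = η),
      Pairwise (fun a b => Disjoint (Set.range (pullback.lift (𝟙 S) (σ a) (hσ a)))
        (Set.range (pullback.lift (𝟙 S) (σ b) (hσ b)))) →
      ({z : ↥(pullback η f) | ∀ a, (pullback.lift (f := η) (g := f) (𝟙 _) (s ≫ σ a) (by
        rw [Category.id_comp, Category.assoc, ← hσ a, Category.id_comp, hs])) default ≠ z}).ncard = m →
      ∃ (S : Scheme.{u}) (π : S ⟶ Y) (_ : CompactSpace S) (_ : QuasiSeparatedSpace S)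
        (_ : LocallyOfFinitePresentation π) (_ : QuasiCompact π) (ι : Type) (_ : Finite ι)
        (τ : ι → (S ⟶ pullback π f)) (s : Spec (CommRingCat.of Ω) ⟶ S), s ≫ π = η ∧
        (∀ a, τ a ≫ pullback.fst π f = 𝟙 S) ∧
        Pairwise (fun a b => Disjoint (Set.range (τ a)) (Set.range (τ b))) ∧
        ∀ p, pullback.fst π f p = s default → ∃ a, p ∈ Set.range (τ a) from
    key _ Y (𝟙 Y) inferInstance inferInstance inferInstance inferInstance PEmpty inferInstance
      PEmpty.elim (fun a => a.elim) η (Category.comp_id η) (fun a => a.elim) rfl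
  intro m
  induction m using Nat.strong_induction_on with
  | _ m ih =>
  intro S π _ _ _ _ ι _ σ hσ s hs hdisj hm
  let τ : ι → (S ⟶ pullback π f) := fun a => pullback.lift (𝟙 S) (σ a) (hσ a)
  have hτ : ∀ a, τ a ≫ pullback.fst π f = 𝟙 S := fun a => pullback.lift_fst _ _ _
  by_cases hp : ∀ p, pullback.fst π f p = s default → ∃ a, p ∈ Set.range (τ a)
  · exact ⟨S, π, ‹_›, ‹_›, ‹_›, ‹_›, ι, ‹_›, τ, s, hs, hτ, hdisj, hp⟩
  push Not at hp
  obtain ⟨p, hps, hp⟩ := hp
  haveI : CompactSpace ↥(pullback π f) := QuasiCompact.compactSpace_of_compactSpace (pullback.fst π f)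
  haveI : QuasiSeparatedSpace ↥(pullback π f) := quasiSeparatedSpace_of_quasiSeparated (pullback.fst π f)
  haveI : ∀ a, IsClosedImmersion (τ a) := fun a => by
    haveI : IsClosedImmersion (τ a ≫ pullback.fst π f) := by rw [hτ a]; infer_instance
    exact IsClosedImmersion.of_comp (τ a) (pullback.fst π f)
  haveI : ∀ a, LocallyOfFinitePresentation (τ a) := fun a => by
    haveI : LocallyOfFinitePresentation (τ a ≫ pullback.fst π f) := by rw [hτ a]; infer_instance
    exact S12442.result (τ a) (pullback.fst π f)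
  let R : (pullback π f).Opens := ⟨(⋃ a, Set.range (τ a))ᶜ,
    (isClosed_iUnion_of_finite fun a => (τ a).isClosedEmbedding.isClosed_range).isOpen_compl⟩
  have hRc : IsConstructible (R : Set ↥(pullback π f)) := isConstructible_compl.2 <|
    IsConstructible.iUnion fun a => by
      rw [← Set.image_univ]
      exact (τ a).isConstructible_image IsConstructible.univ
  haveI : CompactSpace (R : Scheme.{u}) := isCompact_iff_compactSpace.1 (by
    have := ConstrLib.isRetrocompact_of_isConstructible hRc isCompact_univ isOpen_univ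
    rwa [Set.inter_univ] at this)
  haveI : QuasiSeparatedSpace (R : Scheme.{u}) := quasiSeparatedSpace_of_quasiSeparated R.ι
  haveI : QuasiCompact (R.ι ≫ pullback.fst π f ≫ π) := inferInstance
  obtain ⟨ξ, hξ, hξp⟩ := exists_point_over (pullback.fst π f) s p hps
  have hpR : p ∈ R := fun h => let ⟨a, ha⟩ := Set.mem_iUnion.1 h; hp a ha
  let s' : Spec (CommRingCat.of Ω) ⟶ (R : Scheme.{u}) := IsOpenImmersion.lift R.ι ξ (by
    rw [Scheme.Opens.range_ι, range_geomPoint, Set.singleton_subset_iff, hξp]
    exact hpR)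
  have hs' : s' ≫ R.ι = ξ := IsOpenImmersion.lift_fac _ _ _
  let π' : (R : Scheme.{u}) ⟶ Y := R.ι ≫ pullback.fst π f ≫ π
  have hs'π : s' ≫ π' = η := by simp only [π', reassoc_of% hs', reassoc_of% hξ, hs]
  let σ' : Option ι → ((R : Scheme.{u}) ⟶ X) := fun o => o.elim (R.ι ≫ pullback.snd π f)
    fun a => R.ι ≫ pullback.fst π f ≫ σ a
  have hσ' : ∀ o, 𝟙 _ ≫ π' = σ' o ≫ f := by
    rintro (_ | a)
    · simp [π', σ', pullback.condition]
    · simp [π', σ', ← hσ a]
  let q : pullback π' f ⟶ pullback π f :=
    pullback.map π' f π f (R.ι ≫ pullback.fst π f) (𝟙 X) (𝟙 Y) (by simp [π']) (by simp)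
  have hq₀ : pullback.lift (𝟙 _) (σ' none) (hσ' none) ≫ q = R.ι := by
    apply pullback.hom_ext <;>
      simp only [q, σ', pullback.map, Category.assoc, pullback.lift_fst, pullback.lift_snd, pullback.lift_fst_assoc, pullback.lift_snd_assoc, Category.comp_id, Category.id_comp, Option.elim_none, Option.elim_some]
  have hq₁ : ∀ a, pullback.lift (𝟙 _) (σ' (some a)) (hσ' (some a)) ≫ q =
      (R.ι ≫ pullback.fst π f) ≫ τ a := fun a => by
    apply pullback.hom_ext <;>
      simp only [q, σ', τ, pullback.map, Category.assoc, pullback.lift_fst, pullback.lift_snd, pullback.lift_fst_assoc, pullback.lift_snd_assoc, Category.comp_id, Category.id_comp, Option.elim_none, Option.elim_some]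
  have hd₀ : ∀ a, Disjoint (Set.range (pullback.lift (𝟙 _) (σ' none) (hσ' none)))
      (Set.range (pullback.lift (𝟙 _) (σ' (some a)) (hσ' (some a)))) := fun a => by
    rw [Set.disjoint_left]
    rintro _ ⟨r, rfl⟩ ⟨t, ht⟩
    have h := congrArg q ht
    rw [← Scheme.Hom.comp_apply, ← Scheme.Hom.comp_apply, hq₀, hq₁, Scheme.Hom.comp_apply] at h
    exact r.2 (Set.mem_iUnion.2 ⟨a, _, h⟩)
  have hdisj' : Pairwise fun a b => Disjoint (Set.range (pullback.lift (𝟙 _) (σ' a) (hσ' a)))
      (Set.range (pullback.lift (𝟙 _) (σ' b) (hσ' b))) := by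
    rintro (_ | a) (_ | b) hne
    · exact absurd rfl hne
    · exact hd₀ b
    · exact (hd₀ a).symm
    · rw [Set.disjoint_left]
      rintro _ ⟨r, rfl⟩ ⟨t, ht⟩
      have h := congrArg q ht
      rw [← Scheme.Hom.comp_apply, ← Scheme.Hom.comp_apply, hq₁, hq₁, Scheme.Hom.comp_apply,
        Scheme.Hom.comp_apply (f := R.ι ≫ pullback.fst π f)] at h
      exact Set.disjoint_left.1 (hdisj fun h' => hne (congrArg some h')) ⟨_, h.symm⟩ ⟨_, rfl⟩
  refine ih _ ?_ _ π' inferInstance inferInstance inferInstance inferInstance (Option ι) inferInstance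
    σ' hσ' s' hs'π hdisj' rfl
  subst hm
  refine Set.ncard_lt_ncard ⟨fun z hz a => ?_, fun hle => ?_⟩ (Set.toFinite _)
  · convert hz (some a) using 5
    simp [σ', reassoc_of% hs', reassoc_of% hξ]
  · let ζ : Spec (CommRingCat.of Ω) ⟶ pullback η f := pullback.lift (𝟙 _) (ξ ≫ pullback.snd π f) (by
      rw [Category.id_comp, Category.assoc, ← pullback.condition, reassoc_of% hξ, hs])
    refine hle (a := ζ default) (fun a h => hp a ⟨s default, ?_⟩) none ?_
    · let w : pullback η f ⟶ pullback π f :=
        pullback.map η f π f s (𝟙 X) (𝟙 Y) (by simp [hs]) (by simp)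
      have h' := congrArg w h
      rw [← Scheme.Hom.comp_apply, ← Scheme.Hom.comp_apply] at h'
      rw [← hξp, ← Scheme.Hom.comp_apply]
      have e₁ : s ≫ τ a = pullback.lift (f := η) (g := f) (𝟙 _) (s ≫ σ a) (by
          rw [Category.id_comp, Category.assoc, ← hσ a, Category.id_comp, hs]) ≫ w := by
        apply pullback.hom_ext <;>
      simp only [w, τ, pullback.map, Category.assoc, pullback.lift_fst, pullback.lift_snd, pullback.lift_fst_assoc, pullback.lift_snd_assoc, Category.comp_id, Category.id_comp, Option.elim_none, Option.elim_some]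
      have e₂ : ξ = ζ ≫ w := by apply pullback.hom_ext <;>
      simp only [w, ζ, hξ, pullback.map, Category.assoc, pullback.lift_fst, pullback.lift_snd, pullback.lift_fst_assoc, pullback.lift_snd_assoc, Category.comp_id, Category.id_comp, Option.elim_none, Option.elim_some]
      exact (congrArg (fun k : _ ⟶ pullback π f => k default) e₁).trans
        (h'.trans (congrArg (fun k : _ ⟶ pullback π f => k default) e₂).symm)
    · simp [σ', ζ, reassoc_of% hs']

/-- Through every point of the base passes the image of a stratum over which a finite morphism of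
finite presentation is covered by disjoint sections. -/
theorem exists_cover_push [CompactSpace Y] [QuasiSeparatedSpace Y] {F : EtCoh.Ab X}
    (hF : EtPBC.IsConstructible F) (y : Y) :
    ∃ (T : Scheme.{u}) (g : T ⟶ Y) (_ : CompactSpace T) (_ : QuasiSeparatedSpace T),
      y ∈ Set.range g ∧ IsConstructible (Set.range g) ∧
      EtPBC.IsConstructible ((EtCoh.pull g).obj ((EtCoh.push f).obj F)) := by
  let η : Spec (CommRingCat.of (AlgebraicClosure (Y.residueField y))) ⟶ Y :=
    Spec.map (CommRingCat.ofHom (algebraMap (Y.residueField y) (AlgebraicClosure (Y.residueField y)))) ≫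
      Y.fromSpecResidueField y
  have hη : η default = y := by rw [Scheme.Hom.comp_apply, Scheme.fromSpecResidueField_apply]
  obtain ⟨S, π, _, _, _, _, ι, _, τ, s, hs, hτ, hdisj, hfull⟩ := exists_sections f η
  haveI : CompactSpace ↥(pullback π f) := QuasiCompact.compactSpace_of_compactSpace (pullback.fst π f)
  haveI : QuasiSeparatedSpace ↥(pullback π f) := quasiSeparatedSpace_of_quasiSeparated (pullback.fst π f)
  haveI : ∀ a, LocallyOfFinitePresentation (τ a) := fun a => by
    haveI : LocallyOfFinitePresentation (τ a ≫ pullback.fst π f) := by rw [hτ a]; infer_instance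
    exact S12442.result (τ a) (pullback.fst π f)
  haveI : ∀ a, QuasiCompact (τ a) := fun a => inferInstance
  let E : Set S := (pullback.fst π f '' (⋃ a, Set.range (τ a))ᶜ)ᶜ
  have hE : IsConstructible E := isConstructible_compl.2 ((pullback.fst π f).isConstructible_image
    (isConstructible_compl.2 (IsConstructible.iUnion fun a => by
      rw [← Set.image_univ]
      exact (τ a).isConstructible_image IsConstructible.univ)))
  have hsE : s default ∈ E := by
    rintro ⟨p, hp, hps⟩
    obtain ⟨a, ha⟩ := hfull p hps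
    exact hp (Set.mem_iUnion.2 ⟨a, ha⟩)
  obtain ⟨T, a, ha, hac, ⟨t, ht⟩, haE, _, _⟩ := exists_stratum_subset hE hsE
  refine ⟨T, a ≫ π, ‹_›, ‹_›, ⟨t, ?_⟩, ?_, ?_⟩
  · rw [Scheme.Hom.comp_apply, ht, ← Scheme.Hom.comp_apply, hs, hη]
  · rw [show ⇑(a ≫ π) = π ∘ a from funext fun _ => Scheme.Hom.comp_apply _ _ _, Set.range_comp]
    exact π.isConstructible_image hac
  let P' := pullback a (pullback.fst π f)
  let f' : P' ⟶ T := pullback.fst _ _
  let q : P' ⟶ pullback π f := pullback.snd _ _
  have hsq : IsPullback (q ≫ pullback.snd π f) f' f (a ≫ π) :=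
    (IsPullback.of_hasPullback a (pullback.fst π f)).flip.paste_horiz
      (IsPullback.of_hasPullback π f).flip
  haveI := isIso_baseChange0_integral f (a ≫ π) f' (q ≫ pullback.snd π f) hsq F
  let τ' : ι → (T ⟶ P') := fun b => pullback.lift (𝟙 T) (a ≫ τ b) (by
    rw [Category.id_comp, Category.assoc, hτ, Category.comp_id])
  have hqτ : ∀ b x, q (τ' b x) = τ b (a x) := fun b x => by
    rw [← Scheme.Hom.comp_apply, pullback.lift_snd, Scheme.Hom.comp_apply]
  refine isConstructible_of_iso (asIso (EtCoh.baseChange0 f (a ≫ π) f' (q ≫ pullback.snd π f) hsq.w F)).symm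
    (isConstructible_push_of_sections f' τ' (fun b => pullback.lift_fst _ _ _) ?_ ?_
      (isConstructible_pull _ hF))
  · intro b c hne
    rw [Set.disjoint_left]
    rintro _ ⟨x, rfl⟩ ⟨x', hx'⟩
    have h := congrArg q hx'
    rw [hqτ, hqτ] at h
    exact Set.disjoint_left.1 (hdisj hne) ⟨_, h.symm⟩ ⟨_, rfl⟩
  · intro p
    obtain ⟨b, x, hx⟩ : ∃ b, q p ∈ Set.range (τ b) := by
      have h := haE ⟨f' p, rfl⟩
      by_contra hn
      refine h ⟨q p, fun hm => hn (Set.mem_iUnion.1 hm), ?_⟩
      rw [← Scheme.Hom.comp_apply, ← Scheme.Hom.comp_apply, pullback.condition]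
    have hx' : x = a (f' p) := by
      have h := congrArg (pullback.fst π f) hx
      rw [← Scheme.Hom.comp_apply, hτ] at h
      replace h : x = pullback.fst π f (q p) := h
      rw [h, ← Scheme.Hom.comp_apply, ← Scheme.Hom.comp_apply, pullback.condition]
    refine ⟨b, f' p, q.isEmbedding.injective ?_⟩
    rw [hqτ, ← hx', hx]

/-- Direct images of constructible sheaves along finite morphisms of finite presentation over
quasi-compact quasi-separated bases. -/
theorem isConstructible_push_of_qcqs [CompactSpace Y] [QuasiSeparatedSpace Y] {F : EtCoh.Ab X}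
    (hF : EtPBC.IsConstructible F) : EtPBC.IsConstructible ((EtCoh.push f).obj F) := by
  choose T g hT hT' hy hc hcons using exists_cover_push f hF
  obtain ⟨t, ht⟩ := exists_finite_subcover_of_isConstructible _ hc
    (Set.eq_univ_of_forall fun y => Set.mem_iUnion.2 ⟨y, hy y⟩)
  exact isConstructible_of_pull_family (fun k : t => T k.1) (fun k => g k.1)
    (fun y => by
      obtain ⟨i, hi, x, hx⟩ := Set.mem_iUnion₂.1 (ht.ge (Set.mem_univ y))
      exact ⟨⟨i, hi⟩, x, hx⟩)
    fun k => hcons k.1

/-- Direct images of constructible sheaves along finite morphisms of finite presentation. -/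
theorem isConstructible_push_of_finite {F : EtCoh.Ab X} (hF : EtPBC.IsConstructible F) :
    EtPBC.IsConstructible ((EtCoh.push f).obj F) := by
  refine isConstructible_of_forall_exists fun y => ?_
  obtain ⟨V, hV, hyV, -⟩ := exists_isAffineOpen_mem_and_subset (show y ∈ (⊤ : Y.Opens) from trivial)
  haveI : IsAffine (V : Scheme.{u}) := hV
  haveI : IsFinite (f ∣_ V) := MorphismProperty.of_isPullback (P := @IsFinite) (isPullback_morphismRestrict f V).flip inferInstance
  haveI : LocallyOfFinitePresentation (f ∣_ V) :=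
    MorphismProperty.of_isPullback (P := @LocallyOfFinitePresentation) (isPullback_morphismRestrict f V).flip inferInstance
  haveI := isIso_baseChange0_integral f V.ι (f ∣_ V) (f ⁻¹ᵁ V).ι (isPullback_morphismRestrict f V).flip F
  refine ⟨V, V.ι, inferInstance, by rw [Scheme.Opens.range_ι]; exact hyV, ?_⟩
  exact isConstructible_of_iso (asIso (EtCoh.baseChange0 f V.ι (f ∣_ V) (f ⁻¹ᵁ V).ι
    (isPullback_morphismRestrict f V).flip.w F)).symm
    (isConstructible_push_of_qcqs (f ∣_ V) (isConstructible_pull _ hF))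

end Split

end Groth.Agent.EtConsAb
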