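import Groth.Agent.EtConsAb.GenericPush
import Groth.Agent.EtConsAb.AlgClosureCover
import Groth.Agent.EtConsAb.SplitCover
import Groth.Agent.EtConsAb.Compact
import Groth.Agent.EtConsAb.SpecialCrit
import Groth.Agent.EtRestLib.LocallyConstant
import Groth.Agent.EtLimit.Acyclic
import Groth.Agent.NormNormal.Rel
import Groth.Agent.S7382
import Mathlib.AlgebraicGeometry.Normalization

/-!
# Constructible sheaves embed into direct images of constant sheaves along finite morphisms
-/

set_option linter.style.haveILetI false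

universe u

open CategoryTheory CategoryTheory.Limits AlgebraicGeometry Opposite Topology

noncomputable section

namespace Groth.Agent.EtConsAb

open Groth.Agent Groth.Agent.EtaleSite Groth.Agent.EtaleSite.ConstSections

variable {X : Scheme.{u}}

theorem injective_stalk_pull_iff {A B : EtCoh.Ab X} (a : A ⟶ B) {Y : Scheme.{u}} (g : Y ⟶ X) {Ω : Type u}
    [Field Ω] [IsSepClosed Ω] (ζ : Spec (CommRingCat.of Ω) ⟶ Y) :
    Function.Injective ((EtCoh.stalk ζ).map ((EtCoh.pull g).map a)) ↔
      Function.Injective ((EtCoh.stalk (ζ ≫ g)).map a) := by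
  rw [← AddCommGrpCat.mono_iff_injective, ← AddCommGrpCat.mono_iff_injective]
  exact (MorphismProperty.monomorphisms _).arrow_mk_iso_iff
    (Arrow.isoMk ((stalkPullIso g ζ).app A) ((stalkPullIso g ζ).app B) ((stalkPullIso g ζ).hom.naturality a).symm)

/-- A sheaf with finite stalk on the spectrum of a separably closed field is constant. -/
theorem exists_iso_const_point {Ω : Type u} [Field Ω] [IsSepClosed Ω]
    {G : EtCoh.Ab (Spec (CommRingCat.of Ω))} (hG : EtPBC.IsConstructible G) :
    ∃ (M : Type) (_ : AddCommGroup M) (_ : Finite M),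
      Nonempty (G ≅ EtCoh.const (Spec (CommRingCat.of Ω)) M) := by
  haveI : IsSepClosed (IsLocalRing.ResidueField Ω) := by
    let e : Ω ≃+* IsLocalRing.ResidueField Ω :=
      RingEquiv.ofBijective (IsLocalRing.residue Ω) ⟨(IsLocalRing.residue Ω).injective, IsLocalRing.residue_surjective⟩
    refine IsSepClosed.of_exists_root _ fun p hp hirr hsep => ?_
    obtain ⟨a, ha⟩ := IsSepClosed.exists_root (k := Ω) (p.map e.symm.toRingHom)
      (by rw [Polynomial.degree_map]; exact Polynomial.degree_ne_of_natDegree_ne (Nat.pos_iff_ne_zero.1 hirr.natDegree_pos))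
      hsep.map
    refine ⟨e a, ?_⟩
    have h := congrArg e.toRingHom ha
    rw [Polynomial.eval_map, Polynomial.hom_eval₂, map_zero] at h
    rw [show e.toRingHom.comp e.symm.toRingHom = RingHom.id _ from RingHom.ext e.apply_symm_apply] at h
    exact h
  let ξ := closedPt Ω
  haveI := finite_stalk_of_isConstructible hG ξ
  haveI : Finite (G.obj.obj (op (EtCoh.top (Spec (CommRingCat.of Ω))))) :=
    Finite.of_injective _ (bijective_germ_top Ω G).1
  let m := AddMonoidHom.id (G.obj.obj (op (EtCoh.top (Spec (CommRingCat.of Ω)))))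
  have hm : IsTriv G (EtCoh.top (Spec (CommRingCat.of Ω))) _ m := fun Ω' _ _ ξ' φ =>
    mem_goodSet (y := φ.left (default : Spec (CommRingCat.of Ω'))) (φ := topPoint Ω)
      (Subsingleton.elim (α := Spec (CommRingCat.of Ω)) _ _) (bijective_germ_top Ω G) Ω' ξ' φ rfl
  obtain ⟨e⟩ := EtRestLib.exists_iso_const Ω G _ (topPoint Ω) m hm
  let A := G.obj.obj (op (EtCoh.top (Spec (CommRingCat.of Ω))))
  obtain ⟨n, ⟨eA⟩⟩ := Finite.exists_equiv_fin A
  haveI : Small.{0} A := ⟨⟨Fin n, ⟨eA⟩⟩⟩
  exact ⟨Shrink.{0} A, inferInstance, inferInstance, ⟨e ≪≫ (constantSheaf _ AddCommGrpCat.{u + 1}).mapIso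
    (((Shrink.addEquiv.{0}).symm.trans AddEquiv.ulift.symm).toAddCommGrpIso)⟩⟩

/-- An integral scheme over `X` with a normal integral total space carrying, over a given point, a map
of the inverse image to a finite constant sheaf injective on the stalk there. -/
theorem exists_integral_cover [QuasiSeparatedSpace X] {F : EtCoh.Ab X} (hF : EtPBC.IsConstructible F)
    (x : X) :
    ∃ (Y : Scheme.{u}) (h : Y ⟶ X) (_ : IsIntegralHom h) (Ω : Type u) (_ : Field Ω) (_ : IsSepClosed Ω)
      (ζ : Spec (CommRingCat.of Ω) ⟶ Y) (M : Type) (_ : AddCommGroup M) (_ : Finite M)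
      (θ : (EtCoh.pull h).obj F ⟶ EtCoh.const Y M),
      (ζ ≫ h) default = x ∧ Function.Injective ((EtCoh.stalk ζ).map θ) := by
  let Ω := AlgebraicClosure (X.residueField x)
  let P := Spec (CommRingCat.of Ω)
  let f : P ⟶ X := closurePt x
  haveI : QuasiSeparated f := QuasiSeparated.of_comp f (terminal.from X)
  haveI : QuasiCompact f := QuasiCompact.of_comp f (terminal.from X)
  have hf : f default = x := by rw [Scheme.Hom.comp_apply, Scheme.fromSpecResidueField_apply]
  let Y := f.normalization
  have hP : Pi1.IsNormalScheme P := fun p => by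
    haveI : AlgebraicGeometry.IsIntegral P := inferInstance
    obtain rfl : p = genericPoint P := Subsingleton.elim (α := Spec (CommRingCat.of Ω)) _ _
    exact ⟨inferInstanceAs (IsDomain P.functionField), inferInstanceAs (IsIntegrallyClosed P.functionField)⟩
  have hirr : closure {(default : P)} ∈ irreducibleComponents ↥P := by
    rw [irreducibleComponents_eq_singleton, Set.mem_singleton_iff]
    exact Set.eq_univ_of_forall fun p =>
      subset_closure (Subsingleton.elim (α := Spec (CommRingCat.of Ω)) _ _)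
  have hgen : ∀ p, f.toNormalization p = genericPoint Y := fun p => by
    refine (IsGenericPoint.eq (genericPoint_spec Y) ?_).symm
    rw [IsGenericPoint, ← f.toNormalization.denseRange.closure_range]
    congr 1
    exact (Set.eq_singleton_iff_unique_mem (s := Set.range f.toNormalization).2 ⟨⟨p, rfl⟩, fun _ ⟨q, hq⟩ =>
      hq ▸ congrArg _ (Subsingleton.elim (α := Spec (CommRingCat.of Ω)) q p)⟩).symm
  have hY : Pi1.IsNormalScheme Y := fun y =>
    (NormNormal.normal_and_eq f hP (locallyFinite_of_finite _) hirr y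
      (hgen default ▸ genericPoint_specializes y)).1
  obtain ⟨M, _, _, ⟨e⟩⟩ := exists_iso_const_point (isConstructible_pull f hF)
  let g := f.toNormalization
  let A := (EtCoh.pull f.fromNormalization).obj F
  let C := AddCommGrpCat.of (ULift.{u + 1} M)
  let β : (EtCoh.pull g).obj A ⟶ (EtCoh.pull g).obj (cSheaf Y C) :=
    ((pullComp f.fromNormalization g).app F).hom ≫
      ((pullCongr f.toNormalization_fromNormalization).app F).hom ≫ e.hom ≫
      ((EtCore.pullConstIso g).app C).inv
  haveI : IsIso β := inferInstance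
  haveI : IsPreimmersion g := isPreimmersion_toNormalization x
  haveI : Subsingleton P := inferInstanceAs (Subsingleton (Spec (CommRingCat.of Ω)))
  have hu : IsIso ((EtCoh.pullPushAdj g).unit.app (cSheaf Y C)) :=
    isIso_unit_generic (exists_irreducible_nhd_of_normal hY) g hgen C
  let θ : A ⟶ cSheaf Y C :=
    (EtCoh.pullPushAdj g).homEquiv _ _ β ≫ inv ((EtCoh.pullPushAdj g).unit.app (cSheaf Y C))
  have hθ : (EtCoh.pull g).map θ = β := by
    refine ((EtCoh.pullPushAdj g).homEquiv _ _).injective ?_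
    rw [Adjunction.homEquiv_unit]
    refine ((EtCoh.pullPushAdj g).unit.naturality θ).symm.trans ?_
    show θ ≫ _ = _
    simp [θ]
  refine ⟨Y, f.fromNormalization, inferInstance, Ω, inferInstance, inferInstance, g, M, inferInstance,
    inferInstance, θ, (congrArg (fun k : P ⟶ X => k default) f.toNormalization_fromNormalization).trans hf, ?_⟩
  have h1 := (injective_stalk_pull_iff θ g (𝟙 P)).1 (by
    rw [hθ]
    exact (ConcreteCategory.bijective_of_isIso ((EtCoh.stalk (𝟙 P)).map β)).1)
  rwa [Category.id_comp] at h1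

/-- Through every point some finite morphism of finite presentation carries a map into a constant
sheaf injective on the stalk there. -/
theorem exists_push_const [CompactSpace X] [QuasiSeparatedSpace X] {F : EtCoh.Ab X}
    (hF : EtPBC.IsConstructible F) (x : X) :
    ∃ (T : Scheme.{u}) (f : T ⟶ X) (_ : IsFinite f) (_ : LocallyOfFinitePresentation f)
      (M : Type) (_ : AddCommGroup M) (_ : Finite M) (β : F ⟶ (EtCoh.push f).obj (EtCoh.const T M)),
      x ∉ EtPBC.supp (kernel β) := by
  classical
  obtain ⟨Y, h, _, Ω, _, _, ζ, M, _, _, θ, hx, hθ⟩ := exists_integral_cover hF x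
  obtain ⟨I, _, _, _, D, c, hc, hD, ⟨e⟩⟩ := S7382.result h
  let i₀ : Iᵒᵖ := op (Classical.arbitrary I)
  let D' : Over i₀ ⥤ Scheme.{u} := CategoryTheory.Over.forget i₀ ⋙ D ⋙ CategoryTheory.Over.forget X
  let c₀ : Cone (D ⋙ CategoryTheory.Over.forget X) := (CategoryTheory.Over.forget X).mapCone c
  let c' : Cone D' := c₀.whisker (CategoryTheory.Over.forget i₀)
  have hc' : IsLimit c' :=
    (Functor.Initial.isLimitWhiskerEquiv (CategoryTheory.Over.forget i₀) c₀).symm
      (isLimitOfPreserves (CategoryTheory.Over.forget X) hc)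
  let s : ∀ j, (D.obj j).left ⟶ X := fun j => (D.obj j).hom
  haveI : ∀ j, IsFinite (s j) := fun j => (hD j).1
  haveI : ∀ (i j : Over i₀) (a : i ⟶ j), IsAffineHom (D'.map a) := fun i j a => by
    haveI : IsFinite (s i.left) := (hD i.left).1
    haveI : IsFinite (s j.left) := (hD j.left).1
    haveI : IsAffineHom (D'.map a ≫ s j.left) := by
      rw [show D'.map a ≫ s j.left = s i.left from Over.w (D.map a.left)]
      exact (show IsAffineHom (s i.left) from inferInstance)
    exact MorphismProperty.of_postcomp (W := @IsAffineHom) (W' := @IsSeparated) (D'.map a)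
      (s j.left) (show IsSeparated (s j.left) from inferInstance) inferInstance
  haveI : ∀ i, CompactSpace (D'.obj i) := fun i =>
    haveI : IsFinite (s i.left) := (hD i.left).1
    (show CompactSpace (D.obj i.left).left from QuasiCompact.compactSpace_of_compactSpace (s i.left))
  haveI : ∀ i, QuasiSeparatedSpace (D'.obj i) := fun i =>
    haveI : IsFinite (s i.left) := (hD i.left).1
    (show QuasiSeparatedSpace (D.obj i.left).left from quasiSeparatedSpace_of_quasiSeparated (s i.left))
  let l : Over i₀ := Over.mk (𝟙 i₀)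
  let T : IsTerminal l := Over.mkIdTerminal
  let C := AddCommGrpCat.of (ULift.{u + 1} M)
  let S := EtLimit.Sys.ofSheaf D' T (cSheaf (D'.obj l) C)
  let cc := EtLimit.Sys.ofSheafCocone D' T (cSheaf (D'.obj l) C) c'
  obtain ⟨hcol⟩ := S.nonempty_isColimit_pushCocone cc hc'
    (EtLimit.Sys.isColimitOfSheafCocone D' T (cSheaf (D'.obj l) C) c') l
  let g₀ : D'.obj l ⟶ X := (D.obj i₀).hom
  let π : c'.pt ⟶ D'.obj l := c'.π.app l
  let φ : c'.pt ⟶ Y := e.hom.left
  have hφ : π ≫ g₀ = φ ≫ h := (Over.w (c.π.app i₀)).trans (Over.w e.hom).symm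
  let G := (EtCoh.pull g₀).obj F
  let θ' : (EtCoh.pull π).obj G ⟶ cc.pt :=
    ((pullComp g₀ π).app F).hom ≫ ((pullCongr hφ).app F).hom ≫ ((pullComp h φ).app F).inv ≫
      (EtCoh.pull φ).map θ ≫ ((EtCore.pullConstIso φ).app C).hom ≫ ((EtCore.pullConstIso π).app C).inv
  haveI : IsFiltered (Over l)ᵒᵖ := inferInstance
  obtain ⟨hco⟩ := nonempty_isColimit_map_coyoneda (isConstructible_pull g₀ hF) hcol
  obtain ⟨m, b, hb⟩ := Types.jointly_surjective _ hco ((EtCoh.pullPushAdj π).homEquiv _ _ θ')
  let a : D'.obj m.unop.left ⟶ D'.obj l := D'.map m.unop.hom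
  refine ⟨D'.obj m.unop.left, a ≫ g₀, ?_, ?_, M, inferInstance, inferInstance,
    (EtCoh.pullPushAdj g₀).homEquiv _ _ b ≫
      (EtCoh.push g₀).map ((EtCoh.push a).map ((EtCore.pullConstIso _).app C).hom) ≫
      ((EtCoh.pushComp g₀ a).app _).hom, ?_⟩
  · rw [show a ≫ g₀ = s m.unop.left.left from Over.w (D.map m.unop.hom.left)]
    exact (hD _).1
  · rw [show a ≫ g₀ = (D.obj m.unop.left.left).hom from Over.w (D.map m.unop.hom.left)]
    exact (hD _).2
  generalize hβ : (EtCoh.pullPushAdj g₀).homEquiv _ _ b ≫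
    (EtCoh.push g₀).map ((EtCoh.push a).map ((EtCore.pullConstIso _).app C).hom) ≫
      ((EtCoh.pushComp g₀ a).app _).hom = β
  let K := kernel.ι β
  have h0 : (EtCoh.pull g₀).map K ≫ b = 0 := by
    refine ((EtCoh.pullPushAdj g₀).homEquiv _ _).injective ?_
    rw [Adjunction.homEquiv_naturality_left]
    let i := (EtCoh.push g₀).map ((EtCoh.push a).map ((EtCore.pullConstIso
      (D'.map (T.from m.unop.left))).app C).hom) ≫ ((EtCoh.pushComp g₀ a).app _).hom
    have hz : (EtCoh.pullPushAdj g₀).homEquiv (kernel β) ((S.pushDiag l).obj m) 0 = 0 := by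
      rw [Adjunction.homEquiv_unit, Functor.map_zero, comp_zero]
    refine Eq.trans ?_ hz.symm
    refine (cancel_mono i).1 ((Category.assoc _ _ _).trans ?_)
    refine (congrArg (K ≫ ·) (show (EtCoh.pullPushAdj g₀).homEquiv _ _ b ≫ i = β from hβ)).trans ?_
    exact (kernel.condition β).trans zero_comp.symm
  have h1 : (EtCoh.pull g₀).map K ≫ (EtCoh.pullPushAdj π).homEquiv _ _ θ' = 0 := by
    rw [← hb]
    exact ((Category.assoc _ _ _).symm.trans (congrArg (· ≫ (S.pushCocone cc l).ι.app m) h0)).trans zero_comp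
  have h2 : (EtCoh.pull π).map ((EtCoh.pull g₀).map K) ≫ θ' = 0 := by
    refine ((EtCoh.pullPushAdj π).homEquiv _ _).injective ?_
    rw [Adjunction.homEquiv_naturality_left, h1, Adjunction.homEquiv_unit, Functor.map_zero, comp_zero]
  let ζ' : Spec (CommRingCat.of Ω) ⟶ c'.pt := ζ ≫ e.inv.left
  have hζ : ζ' ≫ φ = ζ := by
    show (ζ ≫ e.inv.left) ≫ e.hom.left = ζ
    rw [Category.assoc, ← Over.comp_left, e.inv_hom_id]
    exact Category.comp_id ζ
  let L := EtCoh.stalk ζ'
  haveI : Mono (L.map θ') := by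
    haveI : Mono (L.map ((EtCoh.pull φ).map θ)) :=
      (AddCommGrpCat.mono_iff_injective _).2 ((injective_stalk_pull_iff θ φ ζ').2 (by rw [hζ]; exact hθ))
    simp only [θ', Functor.map_comp]
    exact @mono_comp _ _ _ _ _ _ inferInstance _ (@mono_comp _ _ _ _ _ _ inferInstance _
      (@mono_comp _ _ _ _ _ _ inferInstance _ (@mono_comp _ _ _ _ _ _ this _
        (@mono_comp _ _ _ _ _ _ inferInstance _ inferInstance))))
  haveI : Mono ((EtCoh.pull g₀).map K) := (EtCoh.pull g₀).map_mono K
  haveI : Mono ((EtCoh.pull π).map ((EtCoh.pull g₀).map K)) := (EtCoh.pull π).map_mono _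
  haveI : Mono (L.map ((EtCoh.pull π).map ((EtCoh.pull g₀).map K))) := L.map_mono _
  have h3 : L.map ((EtCoh.pull π).map ((EtCoh.pull g₀).map K)) = 0 := by
    rw [← cancel_mono (L.map θ'), ← L.map_comp, h2, L.map_zero, zero_comp]
  have h4 : IsZero ((EtCoh.stalk ((ζ' ≫ π) ≫ g₀)).obj (kernel β)) :=
    IsZero.of_iso (IsZero.of_mono_eq_zero _ h3) ((stalkPullIso g₀ (ζ' ≫ π)).symm.app _ ≪≫
      (stalkPullIso π ζ').symm.app ((EtCoh.pull g₀).obj (kernel β)))
  have hpt : ((ζ' ≫ π) ≫ g₀) default = x := by
    rw [Category.assoc, hφ, ← Category.assoc, hζ, hx]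
  rw [← hpt, mem_supp_iff, not_not]
  exact h4

/-- Constructible sheaves on quasi-compact quasi-separated schemes embed into finite sums of direct
images of finite constant sheaves along finite morphisms of finite presentation. -/
theorem exists_embedding [CompactSpace X] [QuasiSeparatedSpace X] {F : EtCoh.Ab X}
    (hF : EtPBC.IsConstructible F) :
    ∃ (n : ℕ) (Y : Fin n → Scheme.{u}) (f : ∀ i, Y i ⟶ X) (_ : ∀ i, IsFinite (f i))
      (_ : ∀ i, LocallyOfFinitePresentation (f i))
      (M : Fin n → Type) (_ : ∀ i, AddCommGroup (M i)) (_ : ∀ i, Finite (M i)),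
      ∃ (ι : F ⟶ ⨁ fun i => (EtCoh.push (f i)).obj (EtCoh.const (Y i) (M i))), Mono ι := by
  classical
  choose T f hf hfp M hM hMf β hβ using exists_push_const hF
  have hcons : ∀ x, IsConstructible (EtPBC.supp (kernel (β x)))ᶜ := fun x => by
    haveI := hf x
    haveI := hfp x
    haveI : QuasiSeparatedSpace (T x) := quasiSeparatedSpace_of_quasiSeparated (f x)
    refine isConstructible_compl.2 (isConstructible_supp_of_strataCover (strataCover_of_isConstructible ?_))
    exact isConstructible_kernel _ hF (isConstructible_push_of_finite (f x)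
      (isConstructible_of_isFLC (isFLC_const (X := T x) (ULift.{u + 1} (M x)))))
  obtain ⟨t, ht⟩ := exists_finite_subcover_of_isConstructible _ hcons
    (Set.eq_univ_of_forall fun x => Set.mem_iUnion.2 ⟨x, hβ x⟩)
  let e := t.equivFin
  let k := fun i : Fin t.card => (e.symm i).1
  refine ⟨t.card, fun i => T (k i), fun i => f (k i), fun i => hf _, fun i => hfp _, fun i => M (k i),
    fun i => hM _, fun i => hMf _, biproduct.lift fun i => β (k i), mono_of_stalk _ fun Ω _ _ ξ => ?_⟩
  obtain ⟨z, hz, hxz⟩ := Set.mem_iUnion₂.1 (ht.ge (Set.mem_univ (ξ default)))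
  have hk : k (e ⟨z, hz⟩) = z := by simp [k]
  let L := EtCoh.stalk ξ
  have hz' : IsZero (L.obj (kernel (β (k (e ⟨z, hz⟩))))) := by
    rw [hk]
    exact not_not.1 fun h => hxz ((mem_supp_iff ξ).2 h)
  haveI : Mono (L.map (β (k (e ⟨z, hz⟩)))) :=
    Preadditive.mono_of_isZero_kernel _ (hz'.of_iso (PreservesKernel.iso L _).symm)
  have he : L.map (biproduct.lift fun i => β (k i)) ≫ L.map (biproduct.π _ (e ⟨z, hz⟩)) =
      L.map (β (k (e ⟨z, hz⟩))) := by
    rw [← L.map_comp, biproduct.lift_π]
  rw [← AddCommGrpCat.mono_iff_injective]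
  exact mono_of_mono_fac he

end Groth.Agent.EtConsAb
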