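import Groth.Agent.EtConsAb.ExtZero
import Groth.Agent.EtaleSite.FiniteBC
import Groth.Agent.EtaleSite.HpullComp
import Groth.Agent.EtShriekLib.ExtZeroIso
import Groth.Agent.EtShriekLib.Sheaf

/-!
# Direct image along a finite étale morphism

It preserves finite local constancy and constructibility.
-/

set_option linter.style.haveILetI false

universe u

open CategoryTheory CategoryTheory.Limits AlgebraicGeometry Opposite Topology

noncomputable section

namespace Groth.Agent.EtConsAb

open Groth.Agent Groth.Agent.EtaleSite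

variable {X Y : Scheme.{u}}

/-- For a finite étale morphism `f_!` is `f_*`. -/
theorem nonempty_extZero_iso_push (f : X ⟶ Y) [IsFinite f] [Etale f] [EtShriek.JCont f] :
    Nonempty (EtShriek.extZero f ≅ EtCoh.push f) := by
  obtain ⟨e⟩ := EtShriekLib.nonempty_extZero_iso f
  have : ∀ G, IsIso ((EtShriekLib.shriek₀ι f).app G) := fun G => by
    have hb : ∀ V, IsIso ((EtShriek.lowerShriekPreι f G).app V) := fun V =>
      (ConcreteCategory.isIso_iff_bijective _).mpr ⟨Subtype.val_injective, fun s => ⟨⟨s, by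
        rw [EtShriekLib.mem_shriekSubgroup_iff]
        have : IsProper (EtShriek.prV f V.unop) :=
          MorphismProperty.pullback_fst (P := @IsProper) _ _ inferInstance
        exact EtShriekLib.ipo_of_isProper _ (EtShriekLib.isClosed_sectSupp _ _ _)⟩, rfl⟩⟩
    have : IsIso ((sheafToPresheaf Y.smallEtaleTopology AddCommGrpCat.{u + 1}).map
        ((EtShriekLib.shriek₀ι f).app G)) :=
      @NatIso.isIso_of_isIso_app _ _ _ _ _ _ (EtShriek.lowerShriekPreι f G) hb
    exact isIso_of_fully_faithful (f := (EtShriekLib.shriek₀ι f).app G)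
      (sheafToPresheaf Y.smallEtaleTopology AddCommGrpCat.{u + 1})
  exact ⟨e ≪≫ EtShriekLib.shriekIso f ≪≫
    @asIso _ _ _ _ _ (NatIso.isIso_of_isIso_app (EtShriekLib.shriek₀ι f))⟩

/-- The direct image of a finite locally constant sheaf along a finite étale morphism is finite
locally constant. -/
theorem isFLC_push_of_finite_etale (f : X ⟶ Y) [IsFinite f] [Etale f] (F : EtCoh.Ab X)
    (hF : EtCoh.IsFiniteLocallyConstant F) :
    EtCoh.IsFiniteLocallyConstant ((EtCoh.push f).obj F) := by
  haveI : EtShriek.JCont f := inferInstance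
  obtain ⟨e⟩ := nonempty_extZero_iso_push f
  haveI : IsFinite (pullback.snd f (𝟙 Y)) := MorphismProperty.pullback_snd (P := @IsFinite) _ _ ‹_›
  exact isFLC_of_iso ((HpullComp.pullId Y).app _ ≪≫ e.app F) (isFLC_pull_extZero f (𝟙 Y) F hF)

/-- Simultaneous stratum for finitely many étale morphisms. -/
theorem exists_stratum_finset [QuasiSeparatedSpace Y] {A : Type*} (U : A → Scheme.{u})
    [∀ a, QuasiSeparatedSpace (U a)] (j : ∀ a, U a ⟶ Y) [∀ a, Etale (j a)] [∀ a, QuasiCompact (j a)]
    (y : Y) (s : Finset A) :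
    ∃ (T : Scheme.{u}) (g : T ⟶ Y), IsImmersion g ∧ IsConstructible (Set.range g) ∧ y ∈ Set.range g ∧
      ∀ a ∈ s, IsFinite (pullback.snd (j a) g) := by
  classical
  induction s using Finset.induction_on with
  | empty =>
    exact ⟨Y, 𝟙 Y, inferInstance, by simp, ⟨y, rfl⟩, fun a ha => absurd ha (Finset.notMem_empty a)⟩
  | @insert a s _ ih =>
    obtain ⟨T, g, hg, hc, hy, hfin⟩ := ih
    obtain ⟨T', g', hg', hc', hy', hfin'⟩ := EtaleStrat.exists_stratum (j a) y
    refine ⟨pullback g g', pullback.fst g g' ≫ g, inferInstance, ?_, ?_, fun b hb => ?_⟩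
    · rw [Scheme.Pullback.range_fst_comp]
      exact hc.inter hc'
    · rw [Scheme.Pullback.range_fst_comp]
      exact ⟨hy, hy'⟩
    · rcases Finset.mem_insert.1 hb with rfl | hb
      · exact EtaleStrat.isFinite_snd_of_fac (j b) g' (pullback.snd g g') _ pullback.condition.symm
      · haveI := hfin b hb
        exact EtaleStrat.isFinite_snd_of_fac (j b) g (pullback.fst g g') _ rfl

/-- A stratum of the base over which the direct image is finite locally constant. -/
theorem exists_stratum_push [IsAffine Y] (f : X ⟶ Y) [IsFinite f] [Etale f] {F : EtCoh.Ab X}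
    (hF : EtPBC.IsConstructible F) (y : Y) :
    ∃ (T : Scheme.{u}) (g : T ⟶ Y), IsImmersion g ∧ IsConstructible (Set.range g) ∧ y ∈ Set.range g ∧
      EtCoh.IsFiniteLocallyConstant ((EtCoh.pull g).obj ((EtCoh.push f).obj F)) := by
  classical
  haveI : IsAffine X := isAffine_of_isAffineHom f
  obtain ⟨ι, _, S, σ, hσ, hσc, hσu, hσF⟩ := strataCover_of_isConstructible hF
  choose G hGf hGo hGd using fun i => ConstrLib.exists_finite_determining (hσc i)
  haveI : Finite ↥(⋃ i, G i) := (Set.finite_iUnion hGf).to_subtype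
  cases nonempty_fintype ↥(⋃ i, G i)
  have ho : ∀ a : ↥(⋃ i, G i), IsOpen a.1 ∧ IsRetrocompact a.1 := fun a => by
    obtain ⟨i, hi⟩ := Set.mem_iUnion.1 a.2
    exact hGo i _ hi
  let O : ↥(⋃ i, G i) → X.Opens := fun a => ⟨a.1, (ho a).1⟩
  have hOc : ∀ a, CompactSpace (O a).toScheme := fun a => isCompact_iff_compactSpace.1 (by
    have := (ho a).2 isCompact_univ isOpen_univ
    rwa [Set.inter_univ] at this)
  haveI : ∀ a, QuasiSeparatedSpace (O a).toScheme := fun a =>
    (isQuasiSeparated_iff_quasiSeparatedSpace _ (O a).2).1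
      (isQuasiSeparated_univ.of_subset (Set.subset_univ _))
  let j : ∀ a, (O a).toScheme ⟶ Y := fun a => (O a).ι ≫ f
  haveI : ∀ a, QuasiCompact (j a) := fun a => by
    haveI := hOc a
    haveI : QuasiCompact (j a ≫ terminal.from Y) := by
      rw [terminal.comp_from]
      exact (compactSpace_iff_quasiCompact _).mp inferInstance
    haveI : QuasiSeparated (terminal.from Y) :=
      (quasiSeparatedSpace_iff_quasiSeparated Y).mp inferInstance
    exact QuasiCompact.of_comp (j a) (terminal.from Y)
  obtain ⟨T, g, hg, hgc, hy, hfin⟩ := exists_stratum_finset (fun a => (O a).toScheme) j y Finset.univ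
  refine ⟨T, g, hg, hgc, hy, ?_⟩
  let g' := pullback.fst f g
  let f' := pullback.snd f g
  have h : IsPullback g' f' f g := IsPullback.of_hasPullback f g
  haveI : IsFinite f' := MorphismProperty.pullback_snd (P := @IsFinite) _ _ ‹_›
  haveI := isIso_baseChange0 (h := h) (F := F)
  refine isFLC_of_iso (asIso (EtCoh.baseChange0 f g f' g' h.w F)).symm
    (isFLC_push_of_finite_etale f' _ ?_)
  -- the opens `O a` become clopen on `pullback f g`
  have hclopen : ∀ a, IsClopen (g' ⁻¹' (O a : Set X)) := fun a => by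
    refine ⟨?_, (O a).2.preimage g'.continuous⟩
    let r := (O a).ι
    haveI : IsFinite (pullback.snd (r ≫ f) g) := hfin a (Finset.mem_univ a)
    haveI : IsFinite (pullback.snd r g' ≫ f') := by
      rw [show pullback.snd r g' ≫ f' = (pullbackRightPullbackFstIso f g r).hom ≫ pullback.snd (r ≫ f) g from
        (pullbackRightPullbackFstIso_hom_snd f g r).symm]
      infer_instance
    haveI : IsFinite (pullback.snd r g') := IsFinite.of_comp _ f'
    have hr : Set.range (pullback.snd r g') = g' ⁻¹' (O a : Set X) := by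
      rw [Scheme.Pullback.range_snd]
      simp [r]
    rw [← hr]
    exact (pullback.snd r g').isClosedMap.isClosed_range
  -- the atoms
  let Wz : ↥(pullback f g) → (pullback f g).Opens := fun z =>
    ⟨⋂ a, {w | (g' w ∈ (a : ↥(⋃ i, G i)).1) ↔ g' z ∈ a.1}, isOpen_iInter_of_finite fun a => by
      by_cases hza : g' z ∈ a.1
      · simp only [hza, iff_true]
        exact (hclopen a).2
      · simp only [hza, iff_false]
        exact (hclopen a).compl.2⟩
  refine isFLC_of_openCover (fun z => (Wz z).ι) (Set.eq_univ_of_forall fun z => Set.mem_iUnion.2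
    ⟨z, by rw [Scheme.Opens.range_ι]; exact Set.mem_iInter.2 fun a => Iff.rfl⟩) _ fun z => ?_
  obtain ⟨i, hi⟩ := Set.mem_iUnion.1 (hσu.ge (Set.mem_univ (g' z)))
  haveI := hσ i
  let b := (Wz z).ι ≫ g'
  have hsub : Set.range b ⊆ Set.range (σ i) := by
    rintro _ ⟨w, rfl⟩
    refine (hGd i (g' z) (b w) fun s hs => ?_).1 hi
    exact (Set.mem_iInter.1 w.2 ⟨s, Set.mem_iUnion.2 ⟨i, hs⟩⟩).symm
  let p := pullback.fst b (σ i)
  haveI : Surjective p := ⟨fun w => by
    obtain ⟨t, ht⟩ := hsub ⟨w, rfl⟩
    obtain ⟨q, hq, -⟩ := Scheme.Pullback.exists_preimage_pullback (f := b) (g := σ i) w t ht.symm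
    exact ⟨q, hq⟩⟩
  haveI : IsClosedImmersion p := IsClosedImmersion.of_isPreimmersion p (by
    rw [p.surjective.range_eq]; exact isClosed_univ)
  refine isFLC_of_iso ((pullComp g' (Wz z).ι).app F).symm ?_
  refine isFLC_of_pull_closed p _ (isFLC_of_iso ?_
    (isFLC_pull_comp (σ i) (pullback.snd b (σ i)) (hσF i)))
  exact (pullCongr pullback.condition.symm).app F ≪≫ ((pullComp b p).app F).symm

/-- The direct image of a constructible sheaf along a finite étale morphism is constructible. -/
theorem isConstructible_push_of_finite_etale (f : X ⟶ Y) [IsFinite f] [Etale f] {F : EtCoh.Ab X}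
    (hF : EtPBC.IsConstructible F) : EtPBC.IsConstructible ((EtCoh.push f).obj F) := by
  classical
  refine isConstructible_of_forall_exists fun y => ?_
  obtain ⟨V, hV, hyV, -⟩ := exists_isAffineOpen_mem_and_subset (show y ∈ (⊤ : Y.Opens) from trivial)
  haveI : IsAffine V.toScheme := hV
  refine ⟨V, V.ι, inferInstance, ⟨⟨y, hyV⟩, rfl⟩, ?_⟩
  let h : IsPullback (pullback.fst f V.ι) (pullback.snd f V.ι) f V.ι := IsPullback.of_hasPullback f V.ι
  haveI := isIso_baseChange0 (h := h) (F := F)
  haveI : IsFinite (pullback.snd f V.ι) := MorphismProperty.pullback_snd (P := @IsFinite) _ _ ‹_›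
  refine isConstructible_of_iso (asIso (EtCoh.baseChange0 f V.ι _ _ h.w F)).symm ?_
  choose T g hg hgc hy hgF using
    exists_stratum_push (pullback.snd f V.ι) (isConstructible_pull (pullback.fst f V.ι) hF)
  obtain ⟨t, ht⟩ := exists_finite_subcover_of_isConstructible _ hgc
    (Set.eq_univ_of_forall fun v => Set.mem_iUnion.2 ⟨v, hy v⟩)
  let e := t.equivFin
  exact isConstructible_of_strataCover ⟨Fin t.card, inferInstance, fun k => T (e.symm k).1,
    fun k => g (e.symm k).1, fun k => hg _, fun k => hgc _, Set.eq_univ_of_forall fun x => by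
      obtain ⟨i, hi, hxi⟩ := Set.mem_iUnion₂.1 (ht.ge (Set.mem_univ x))
      exact Set.mem_iUnion.2 ⟨e ⟨i, hi⟩, by
        show x ∈ Set.range (g (e.symm (e ⟨i, hi⟩)).1)
        rw [Equiv.symm_apply_apply]; exact hxi⟩,
    fun k => hgF _⟩

end Groth.Agent.EtConsAb
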