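import Groth.Agent.EtConsAb.Strata

/-!
# Supports of constructible abelian sheaves
-/

set_option linter.style.haveILetI false

universe u

open CategoryTheory CategoryTheory.Limits AlgebraicGeometry Opposite Topology

namespace Groth.Agent.EtConsAb

open Groth.Agent Groth.Agent.EtaleSite

variable {X Y : Scheme.{u}}

theorem range_geomPoint {Ω : Type u} [Field Ω] (ξ : Spec (CommRingCat.of Ω) ⟶ X) :
    Set.range ξ = {ξ default} := by
  ext y
  refine ⟨fun ⟨a, ha⟩ => ?_, fun h => ⟨default, h.symm⟩⟩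
  rw [← ha, Subsingleton.elim a default]
  rfl

/-- Whether a stalk vanishes only depends on the point. -/
theorem isZero_stalk_iff {F : EtCoh.Ab X} {Ω : Type u} [Field Ω] [IsSepClosed Ω]
    (ξ : Spec (CommRingCat.of Ω) ⟶ X) {x : X} (hx : ξ default = x) :
    IsZero ((EtCoh.stalk ξ).obj F) ↔ IsZero ((EtCoh.stalk (geomPointAt X x)).obj F) := by
  subst hx
  obtain ⟨i⟩ := nonempty_stalk_iso_geomPointAt ξ
  exact (i.app F).isZero_iff

theorem mem_supp_iff {F : EtCoh.Ab X} {Ω : Type u} [Field Ω] [IsSepClosed Ω]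
    (ξ : Spec (CommRingCat.of Ω) ⟶ X) :
    ξ default ∈ EtPBC.supp F ↔ ¬ IsZero ((EtCoh.stalk ξ).obj F) := by
  refine ⟨fun ⟨Ω', _, _, ξ', hr, hne⟩ h => hne ?_, fun h => ⟨Ω, _, ‹_›, ξ, range_geomPoint ξ, h⟩⟩
  have hd : ξ' default = ξ default := hr.subset ⟨default, rfl⟩
  exact (isZero_stalk_iff ξ' hd).2 ((isZero_stalk_iff ξ rfl).1 h)

/-- Supports commute with inverse images. -/
theorem supp_pull (f : X ⟶ Y) (F : EtCoh.Ab Y) :
    EtPBC.supp ((EtCoh.pull f).obj F) = f ⁻¹' EtPBC.supp F := by
  ext x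
  let ξ := geomPointAt X x
  have hx : ξ default = x := geomPointAt_apply X x _
  have hfx : (ξ ≫ f) default = f x := (Scheme.Hom.comp_apply _ _ _).trans (congrArg f hx)
  rw [Set.mem_preimage]
  constructor
  · intro h
    rw [← hx, mem_supp_iff] at h
    rw [← hfx, mem_supp_iff]
    exact fun h0 => h (h0.of_iso ((stalkPullIso f ξ).app F))
  · intro h
    rw [← hfx, mem_supp_iff] at h
    rw [← hx, mem_supp_iff]
    exact fun h0 => h (h0.of_iso ((stalkPullIso f ξ).app F).symm)

/-- The support of a finite locally constant sheaf is open and closed. -/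
theorem isClopen_supp {F : EtCoh.Ab X} (hF : EtCoh.IsFiniteLocallyConstant F) :
    IsClopen (EtPBC.supp F) := by
  suffices h : ∀ x : X, ∃ O : X.Opens, x ∈ O ∧ ∀ y ∈ O, (y ∈ EtPBC.supp F ↔ x ∈ EtPBC.supp F) by
    refine ⟨isOpen_compl_iff.1 (isOpen_iff_forall_mem_open.2 fun x hx => ?_),
      isOpen_iff_forall_mem_open.2 fun x hx => ?_⟩
    · obtain ⟨O, hxO, hO⟩ := h x
      exact ⟨O, fun y hy hyS => hx ((hO y hy).1 hyS), O.2, hxO⟩
    · obtain ⟨O, hxO, hO⟩ := h x
      exact ⟨O, fun y hy => (hO y hy).2 hx, O.2, hxO⟩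
  intro x
  let ξ := geomPointAt X x
  have hx : ξ default = x := geomPointAt_apply X x _
  obtain ⟨V, φ, M, _, _, m, hm⟩ := exists_isTriv hF ξ
  haveI : Etale V.hom := V.prop
  have key : ∀ v : V.left, (V.hom v ∈ EtPBC.supp F ↔ Nontrivial M) := fun v => by
    let ζ := geomPointAt X (V.hom v)
    have hv : ζ default = V.hom v := geomPointAt_apply X _ _
    obtain ⟨ψ, -⟩ := exists_fiber_point ζ V v hv.symm
    rw [← hv, mem_supp_iff, AddCommGrpCat.isZero_iff_subsingleton, not_subsingleton_iff_nontrivial,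
      (hm.stalkEquiv ψ).toEquiv.nontrivial_congr]
  refine ⟨⟨Set.range V.hom, V.hom.isOpenMap.isOpen_range⟩, ⟨φ.left (default : Spec (CommRingCat.of (SeparableClosure (X.residueField x)))), ?_⟩, fun y hy => ?_⟩
  · exact (congrArg (fun k : Spec (CommRingCat.of (SeparableClosure (X.residueField x))) ⟶ X => k default)
      (Over.w φ)).trans hx
  · obtain ⟨v, rfl⟩ := hy
    obtain ⟨v₀, hv₀⟩ : ∃ v₀, V.hom v₀ = x := ⟨φ.left (default : Spec (CommRingCat.of (SeparableClosure (X.residueField x)))),
      (congrArg (fun k : Spec (CommRingCat.of (SeparableClosure (X.residueField x))) ⟶ X => k default)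
        (Over.w φ)).trans hx⟩
    rw [← hv₀, key, key]

/-- The support of a sheaf with a global strata cover is constructible. -/
theorem isConstructible_supp_of_strataCover [CompactSpace X] [QuasiSeparatedSpace X] {F : EtCoh.Ab X}
    (h : StrataCover F) : IsConstructible (EtPBC.supp F) := by
  obtain ⟨ι, _, T, g, hg, hc, hu, hF⟩ := h
  have he : EtPBC.supp F = ⋃ i, g i '' EtPBC.supp ((EtCoh.pull (g i)).obj F) := by
    ext x
    constructor
    · intro hx
      obtain ⟨i, t, rfl⟩ := Set.mem_iUnion.1 (hu.ge (Set.mem_univ x))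
      exact Set.mem_iUnion.2 ⟨i, t, by rw [supp_pull]; exact hx, rfl⟩
    · intro hx
      obtain ⟨i, t, ht, rfl⟩ := Set.mem_iUnion.1 hx
      rwa [supp_pull] at ht
  rw [he]
  refine IsConstructible.iUnion fun i => ?_
  haveI := hg i
  refine isConstructible_image_of_immersion _ (hc i) ?_
  haveI : CompactSpace (T i) := by
    rw [← isCompact_univ_iff, (g i).isEmbedding.isInducing.isCompact_iff, Set.image_univ]
    exact (ConstrLib.isRetrocompact_of_isConstructible (hc i)).isCompact
  haveI : QuasiSeparatedSpace (T i) := quasiSeparatedSpace_of_quasiSeparated (g i)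
  exact (isClopen_supp (hF i)).isClosed.isCompact.isConstructible (isClopen_supp (hF i)).isOpen

/-- Supports of constructible sheaves are locally constructible. -/
theorem isLocallyConstructible_supp {F : EtCoh.Ab X} (hF : EtPBC.IsConstructible F) :
    IsLocallyConstructible (EtPBC.supp F) := by
  intro x
  obtain ⟨W, hW, hxW, -⟩ := exists_isAffineOpen_mem_and_subset (show x ∈ (⊤ : X.Opens) from trivial)
  haveI : IsAffine W := hW
  refine ⟨W, W.2.mem_nhds hxW, W.2, ?_⟩
  have h := isConstructible_supp_of_strataCover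
    (strataCover_of_isConstructible (isConstructible_pull W.ι hF))
  rw [supp_pull] at h
  exact h

end Groth.Agent.EtConsAb
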