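import Groth.Agent.EtConsAb.Gen
import Mathlib.CategoryTheory.Limits.Preserves.Filtered
import Mathlib.Algebra.Category.Grp.FilteredColimits

/-!
# Torsion sheaves as filtered colimits of finitely presented constructible sheaves
-/

set_option linter.style.haveILetI false

universe w u

open CategoryTheory CategoryTheory.Limits AlgebraicGeometry Opposite Topology

noncomputable section

namespace Groth.Agent.EtConsAb

open Groth.Agent Groth.Agent.EtaleSite

variable {X : Scheme.{u}}

/-- A cocone of a directed system is colimiting as soon as it is so on every stalk. -/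
theorem nonempty_isColimit_of_stalk {J : Type (u + 1)} [SmallCategory J] [IsFiltered J] {D : J ⥤ EtCoh.Ab X}
    (c : Cocone D)
    (hs : ∀ (Ω : Type u) [Field Ω] [IsSepClosed Ω] (ξ : Spec (CommRingCat.of Ω) ⟶ X)
      (q : ↑((EtCoh.stalk ξ).obj c.pt)), ∃ j y, (EtCoh.stalk ξ).map (c.ι.app j) y = q)
    (hi : ∀ (Ω : Type u) [Field Ω] [IsSepClosed Ω] (ξ : Spec (CommRingCat.of Ω) ⟶ X) (j : J)
      (y : ↑((EtCoh.stalk ξ).obj (D.obj j))), (EtCoh.stalk ξ).map (c.ι.app j) y = 0 →
        ∃ (k : J) (a : j ⟶ k), (EtCoh.stalk ξ).map (D.map a) y = 0) : Nonempty (IsColimit c) := by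
  haveI : IsIso ((colimit.isColimit D).desc c) := isIso_of_stalk _ fun Ω _ _ ξ => by
    let L := EtCoh.stalk ξ
    have hL := isColimitOfPreserves L (colimit.isColimit D)
    have hd : ∀ j y, L.map ((colimit.isColimit D).desc c) (L.map (colimit.ι D j) y) = L.map (c.ι.app j) y :=
      fun j y => by
        rw [← ConcreteCategory.comp_apply, ← Functor.map_comp]
        simp
    refine (ConcreteCategory.isIso_iff_bijective _).2 ⟨?_, fun q => ?_⟩
    · rw [injective_iff_map_eq_zero]
      intro x hx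
      obtain ⟨j, y, rfl⟩ := Concrete.isColimit_exists_rep _ hL x
      obtain ⟨k, a, ha⟩ := hi Ω ξ j y ((hd j y).symm.trans hx)
      show L.map (colimit.ι D j) y = 0
      rw [← colimit.w D a, Functor.map_comp, ConcreteCategory.comp_apply, ha, map_zero]
    · obtain ⟨j, y, rfl⟩ := hs Ω ξ q
      exact ⟨L.map (colimit.ι D j) y, hd j y⟩
  exact ⟨IsColimit.ofPointIso (colimit.isColimit D)⟩

/-- The inclusion of a sum of generators in a bigger one. -/
def genIncl {F : EtCoh.Ab X} {S S' : Finset (Gen F)} (h : S ⊆ S') : genSum S ⟶ genSum S' :=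
  biproduct.desc fun g => biproduct.ι (fun g : S' => g.1.src) ⟨g.1, h g.2⟩

@[reassoc (attr := simp)]
theorem ι_genIncl {F : EtCoh.Ab X} {S S' : Finset (Gen F)} (h : S ⊆ S') (g : S) :
    biproduct.ι (fun g : S => g.1.src) g ≫ genIncl h =
      biproduct.ι (fun g : S' => g.1.src) ⟨g.1, h g.2⟩ :=
  biproduct.ι_desc _ _

@[reassoc (attr := simp)]
theorem genIncl_π {F : EtCoh.Ab X} {S S' : Finset (Gen F)} (h : S ⊆ S') : genIncl h ≫ genπ S' = genπ S :=
  biproduct.hom_ext' _ _ fun g => by simp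

theorem genIncl_refl {F : EtCoh.Ab X} (S : Finset (Gen F)) : genIncl (subset_refl S) = 𝟙 (genSum S) :=
  biproduct.hom_ext' _ _ fun g => by simp

theorem genIncl_trans {F : EtCoh.Ab X} {S S' S'' : Finset (Gen F)} (h : S ⊆ S') (h' : S' ⊆ S'') :
    genIncl h ≫ genIncl h' = genIncl (h.trans h') :=
  biproduct.hom_ext' _ _ fun g => by simp

/-- A relation between finitely many generators. -/
structure Rel (F : EtCoh.Ab X) : Type (u + 1) where
  /-- the generators involved -/
  dom : Finset (Gen F)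
  /-- the section -/
  rel : Gen (genSum dom)
  zero : rel.hom ≫ genπ dom = 0

/-- Finite presentations mapping to `F`. -/
def Stage (F : EtCoh.Ab X) : Type (u + 1) :=
  {p : Finset (Gen F) × Finset (Rel F) // ∀ r ∈ p.2, r.dom ⊆ p.1}

namespace Stage

variable {F : EtCoh.Ab X}

instance : PartialOrder (Stage F) := inferInstanceAs (PartialOrder {p : Finset (Gen F) × Finset (Rel F) // _})

theorem le_iff {p q : Stage F} : p ≤ q ↔ p.1.1 ⊆ q.1.1 ∧ p.1.2 ⊆ q.1.2 := Iff.rfl

instance : IsDirectedOrder (Stage F) := ⟨fun p q => by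
  classical
  refine ⟨⟨(p.1.1 ∪ q.1.1, p.1.2 ∪ q.1.2), fun r hr => ?_⟩,
    ⟨Finset.subset_union_left, Finset.subset_union_left⟩,
    ⟨Finset.subset_union_right, Finset.subset_union_right⟩⟩
  rcases Finset.mem_union.1 hr with h | h
  · exact (p.2 r h).trans Finset.subset_union_left
  · exact (q.2 r h).trans Finset.subset_union_right⟩

instance : Nonempty (Stage F) := ⟨⟨(∅, ∅), fun r hr => absurd hr (Finset.notMem_empty r)⟩⟩

/-- The map given by the relations of a stage. -/
def relMap (p : Stage F) : (⨁ fun r : p.1.2 => r.1.rel.src) ⟶ genSum p.1.1 :=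
  biproduct.desc fun r => r.1.rel.hom ≫ genIncl (p.2 r.1 r.2)

theorem relMap_π (p : Stage F) : relMap p ≫ genπ p.1.1 = 0 :=
  biproduct.hom_ext' _ _ fun r => by
    rw [comp_zero, ← Category.assoc, relMap, biproduct.ι_desc, Category.assoc, genIncl_π, r.1.zero]

/-- The sheaf presented by a stage. -/
abbrev obj (p : Stage F) : EtCoh.Ab X := cokernel (relMap p)

/-- The map to `F`. -/
def π (p : Stage F) : p.obj ⟶ F := cokernel.desc _ (genπ p.1.1) (relMap_π p)

theorem relMap_comp {p q : Stage F} (h : p ≤ q) :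
    relMap p ≫ genIncl h.1 = (biproduct.desc fun r : p.1.2 =>
      biproduct.ι (fun r : q.1.2 => r.1.rel.src) ⟨r.1, h.2 r.2⟩) ≫ relMap q :=
  biproduct.hom_ext' _ _ fun r => by simp [relMap, genIncl_trans]

/-- Transition maps. -/
def map {p q : Stage F} (h : p ≤ q) : p.obj ⟶ q.obj :=
  cokernel.map _ _ _ (genIncl h.1) (relMap_comp h)

@[reassoc (attr := simp)]
theorem π_map {p q : Stage F} (h : p ≤ q) :
    cokernel.π (relMap p) ≫ map h = genIncl h.1 ≫ cokernel.π (relMap q) := by simp [map]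

theorem map_refl (p : Stage F) : map (le_refl p) = 𝟙 p.obj := by
  rw [← cancel_epi (cokernel.π (relMap p))]
  simp [genIncl_refl]

theorem map_trans {p q r : Stage F} (h : p ≤ q) (h' : q ≤ r) : map (h.trans h') = map h ≫ map h' := by
  rw [← cancel_epi (cokernel.π (relMap p))]
  simp [reassoc_of% (genIncl_trans h.1 h'.1)]

@[reassoc (attr := simp)]
theorem map_π {p q : Stage F} (h : p ≤ q) : map h ≫ π q = π p := by
  rw [← cancel_epi (cokernel.π (relMap p))]
  simp [π]

/-- The system of the stages satisfying a condition. -/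
def diagram (P : Stage F → Prop) : {p : Stage F // P p} ⥤ EtCoh.Ab X where
  obj p := p.1.obj
  map a := map (show _ ≤ _ from a.le)
  map_id p := map_refl p.1
  map_comp a b := map_trans a.le b.le

/-- The cocone to `F`. -/
def cocone (P : Stage F → Prop) : Cocone (diagram P) where
  pt := F
  ι :=
    { app := fun p => π p.1
      naturality := fun p q a => by
        simp [diagram] }

theorem isConstructible_obj [CompactSpace X] [QuasiSeparatedSpace X] (p : Stage F) :
    EtPBC.IsConstructible p.obj := by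
  refine isConstructible_cokernel _ (isConstructible_biproduct _ fun r => ?_) (isConstructible_genSum _)
  haveI := r.1.rel.affine
  haveI : NeZero r.1.rel.n := ⟨r.1.rel.pos.ne'⟩
  exact Groth.Agent.S0133.result X r.1.rel.U (ZMod r.1.rel.n)

theorem directed_subtype (P : Stage F → Prop) (hP : ∀ p, ∃ q, p ≤ q ∧ P q) :
    IsDirectedOrder {p : Stage F // P p} := ⟨fun p q => by
  obtain ⟨r, hpr, hqr⟩ := exists_ge_ge p.1 q.1
  obtain ⟨s, hrs, hs⟩ := hP r
  exact ⟨⟨s, hs⟩, hpr.trans hrs, hqr.trans hrs⟩⟩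

/-- Adding a relation killing a germ. -/
theorem exists_rel (hT : ∀ S : Finset (Gen F), EtCoh.IsTorsion (genSum S)) (S : Finset (Gen F))
    {Ω : Type u} [Field Ω] [IsSepClosed Ω] (ξ : Spec (CommRingCat.of Ω) ⟶ X)
    (y : ↑((EtCoh.stalk ξ).obj (genSum S))) (hy : (EtCoh.stalk ξ).map (genπ S) y = 0) :
    ∃ (g : Gen (genSum S)) (h : g.hom ≫ genπ S = 0), ∃ z, (EtCoh.stalk ξ).map g.hom z = y := by
  obtain ⟨k, rfl⟩ := stalk_exact_apply ξ (ShortComplex.mk _ _ (kernel.condition (genπ S)))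
    (ShortComplex.exact_of_f_is_kernel _ (kernelIsKernel (genπ S))) y hy
  obtain ⟨g, φ, rfl⟩ := exists_gen_germ (isTorsion_of_mono (kernel.ι (genπ S)) (hT S)) ξ k
  refine ⟨⟨g.U, g.n, g.pos, g.affine, (kernel.ι (genπ S)).hom.app (op g.U) g.s,
    by rw [← map_nsmul, g.killed, map_zero]⟩, ?_, germ ξ g.src g.U φ (gen g.U g.n), ?_⟩
  · show secHom _ _ ≫ genπ S = 0
    rw [← secHom_comp g.s g.killed, Category.assoc, kernel.condition, comp_zero]
  · refine (germ_secHom _ _ ξ φ).trans ?_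
    exact (germ_naturality ξ (kernel.ι (genπ S)) g.U φ g.s).symm

/-- Elements coming from the relations die in the stage. -/
theorem stalk_cokernel_π_eq_zero (p : Stage F) (r : p.1.2) {Ω : Type u} [Field Ω] [IsSepClosed Ω]
    (ξ : Spec (CommRingCat.of Ω) ⟶ X) (z : ↑((EtCoh.stalk ξ).obj r.1.rel.src)) :
    (EtCoh.stalk ξ).map (cokernel.π (relMap p))
      ((EtCoh.stalk ξ).map (genIncl (p.2 r.1 r.2)) ((EtCoh.stalk ξ).map r.1.rel.hom z)) = 0 := by
  rw [← ConcreteCategory.comp_apply, ← Functor.map_comp, ← ConcreteCategory.comp_apply, ← Functor.map_comp]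
  have : r.1.rel.hom ≫ genIncl (p.2 r.1 r.2) ≫ cokernel.π (relMap p) = 0 := by
    have h := biproduct.ι (fun r : p.1.2 => r.1.rel.src) r ≫= cokernel.condition (relMap p)
    rwa [comp_zero, ← Category.assoc, relMap, biproduct.ι_desc, Category.assoc] at h
  rw [this, Functor.map_zero]
  rfl

/-- A stage can be enlarged, without new generators, so that finitely many germs killed in `F` die. -/
theorem exists_ge_kill (hT : ∀ S : Finset (Gen F), EtCoh.IsTorsion (genSum S)) (p : Stage F)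
    {Ω : Type u} [Field Ω] [IsSepClosed Ω] (ξ : Spec (CommRingCat.of Ω) ⟶ X) {ι : Type (u + 1)} [Finite ι]
    (y : ι → ↑((EtCoh.stalk ξ).obj (genSum p.1.1))) (hy : ∀ i, (EtCoh.stalk ξ).map (genπ p.1.1) (y i) = 0) :
    ∃ (q : Stage F) (h : p ≤ q), q.1.1 = p.1.1 ∧
      ∀ i, (EtCoh.stalk ξ).map (cokernel.π (relMap q)) ((EtCoh.stalk ξ).map (genIncl h.1) (y i)) = 0 := by
  classical
  cases nonempty_fintype ι
  choose g hg z hz using fun i => exists_rel hT p.1.1 ξ (y i) (hy i)
  let R : Finset (Rel F) := p.1.2 ∪ Finset.univ.image fun i => ⟨p.1.1, g i, hg i⟩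
  let q : Stage F := ⟨(p.1.1, R), fun r hr => by
    rcases Finset.mem_union.1 hr with h | h
    · exact p.2 r h
    · obtain ⟨i, -, rfl⟩ := Finset.mem_image.1 h
      exact subset_refl _⟩
  have hpq : p ≤ q := ⟨subset_refl _, Finset.subset_union_left⟩
  refine ⟨q, hpq, rfl, fun i => ?_⟩
  rw [← hz i]
  exact stalk_cokernel_π_eq_zero q ⟨⟨p.1.1, g i, hg i⟩,
    Finset.mem_union_right _ (Finset.mem_image_of_mem _ (Finset.mem_univ i))⟩ ξ (z i)

/-- A torsion sheaf is the colimit of the stages in any cofinal class. -/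
theorem nonempty_isColimit_cocone [CompactSpace X] [QuasiSeparatedSpace X] (hF : EtCoh.IsTorsion F)
    (P : Stage F → Prop) (hP : ∀ p, ∃ q, p ≤ q ∧ P q) : Nonempty (IsColimit (cocone P)) := by
  classical
  haveI := directed_subtype P hP
  haveI : Nonempty {p : Stage F // P p} := by
    obtain ⟨q, -, hq⟩ := hP (Classical.arbitrary _)
    exact ⟨⟨q, hq⟩⟩
  have hT : ∀ S : Finset (Gen F), EtCoh.IsTorsion (genSum S) := fun S =>
    isTorsion_of_isConstructible (isConstructible_genSum S)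
  refine nonempty_isColimit_of_stalk _ (fun Ω _ _ ξ q => ?_) fun Ω _ _ ξ p x hx => ?_
  · obtain ⟨g, φ, rfl⟩ := exists_gen_germ hF ξ q
    obtain ⟨p, hp, hPp⟩ := hP ⟨({g}, ∅), fun r hr => absurd hr (Finset.notMem_empty r)⟩
    obtain ⟨y, hy⟩ := germ_mem_range_genπ p.1.1 ⟨g, hp.1 (Finset.mem_singleton_self g)⟩ ξ φ
    refine ⟨⟨p, hPp⟩, (EtCoh.stalk ξ).map (cokernel.π (relMap p)) y, ?_⟩
    refine Eq.trans ?_ hy
    show (EtCoh.stalk ξ).map (π p) _ = _
    rw [← ConcreteCategory.comp_apply, ← Functor.map_comp, π, cokernel.π_desc]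
  · obtain ⟨y, rfl⟩ := stalk_surjective_of_epi ξ (cokernel.π (relMap p.1)) x
    have hy : (EtCoh.stalk ξ).map (genπ p.1.1.1) y = 0 := by
      refine Eq.trans ?_ hx
      show _ = (EtCoh.stalk ξ).map (π p.1) _
      rw [← ConcreteCategory.comp_apply, ← Functor.map_comp, π, cokernel.π_desc]
    obtain ⟨q, hpq, -, hq⟩ := exists_ge_kill hT p.1 ξ (fun _ : PUnit.{u + 2} => y) fun _ => hy
    obtain ⟨r, hqr, hr⟩ := hP q
    refine ⟨⟨r, hr⟩, homOfLE (show p ≤ ⟨r, hr⟩ from hpq.trans hqr), ?_⟩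
    show (EtCoh.stalk ξ).map (map (hpq.trans hqr)) _ = 0
    rw [map_trans hpq hqr, Functor.map_comp, ConcreteCategory.comp_apply,
      ← ConcreteCategory.comp_apply ((EtCoh.stalk ξ).map (cokernel.π (relMap p.1))), ← Functor.map_comp,
      π_map, Functor.map_comp, ConcreteCategory.comp_apply, hq ⟨⟩, map_zero]

/-- If the kernel on the generators is constructible, finitely many relations generate it. -/
theorem exists_ge_mono [CompactSpace X] [QuasiSeparatedSpace X] (p : Stage F)
    (hK : EtPBC.IsConstructible (kernel (genπ p.1.1))) (P : Gen (kernel (genπ p.1.1)) → Prop)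
    (hP : ∀ (Ω : Type u) [Field Ω] [IsSepClosed Ω] (ξ : Spec (CommRingCat.of Ω) ⟶ X)
      (q : ↑((EtCoh.stalk ξ).obj (kernel (genπ p.1.1)))),
      ∃ (g : Gen _) (φ : (Scheme.pointSmallEtale ξ).fiber.obj g.U), P g ∧ germ ξ _ g.U φ g.s = q) :
    ∃ q : Stage F, p ≤ q ∧ q.1.1 = p.1.1 ∧ Mono (π q) ∧
      ∀ r ∈ q.1.2, r ∈ p.1.2 ∨ ∃ g, P g ∧ r.rel.n = g.n := by
  classical
  obtain ⟨R, hRP, hR⟩ := exists_genπ_epi hK P hP
  let i := kernel.ι (genπ p.1.1)
  let mkRel : Gen (kernel (genπ p.1.1)) → Rel F := fun g =>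
    ⟨p.1.1, ⟨g.U, g.n, g.pos, g.affine, i.hom.app (op g.U) g.s, by rw [← map_nsmul, g.killed, map_zero]⟩,
      show secHom _ _ ≫ genπ p.1.1 = 0 by
        rw [← secHom_comp g.s g.killed, Category.assoc, kernel.condition, comp_zero]⟩
  let q : Stage F := ⟨(p.1.1, p.1.2 ∪ R.image mkRel), fun r hr => by
    rcases Finset.mem_union.1 hr with h | h
    · exact p.2 r h
    · obtain ⟨g, -, rfl⟩ := Finset.mem_image.1 h
      exact subset_refl _⟩
  refine ⟨q, ⟨subset_refl _, Finset.subset_union_left⟩, rfl, ?_, fun r hr => ?_⟩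
  · -- the kernel goes to zero in the stage
    have hzero : kernel.ι (genπ p.1.1) ≫ cokernel.π (relMap q) = 0 := by
      rw [← cancel_epi (genπ R), comp_zero]
      refine biproduct.hom_ext' _ _ fun g => ?_
      rw [comp_zero, ι_genπ_assoc, ← Category.assoc, show g.1.hom ≫ kernel.ι (genπ p.1.1) = (mkRel g.1).rel.hom from
        secHom_comp g.1.s g.1.killed _]
      have hmem : mkRel g.1 ∈ q.1.2 := Finset.mem_union_right _ (Finset.mem_image_of_mem _ g.2)
      have h := biproduct.ι (fun r : q.1.2 => r.1.rel.src) ⟨mkRel g.1, hmem⟩ ≫= cokernel.condition (relMap q)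
      rw [comp_zero, ← Category.assoc, relMap, biproduct.ι_desc, Category.assoc,
        show genIncl (q.2 _ hmem) = 𝟙 _ from genIncl_refl p.1.1, Category.id_comp] at h
      exact h
    refine (mono_iff_stalk _).2 fun Ω _ _ ξ => ?_
    rw [injective_iff_map_eq_zero]
    intro x hx
    obtain ⟨y, rfl⟩ := stalk_surjective_of_epi ξ (cokernel.π (relMap q)) x
    have hy : (EtCoh.stalk ξ).map (genπ p.1.1) y = 0 := by
      refine Eq.trans ?_ hx
      rw [← ConcreteCategory.comp_apply, ← Functor.map_comp, π, cokernel.π_desc]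
    obtain ⟨k, rfl⟩ := stalk_exact_apply ξ (ShortComplex.mk _ _ (kernel.condition (genπ p.1.1)))
      (ShortComplex.exact_of_f_is_kernel _ (kernelIsKernel (genπ p.1.1))) y hy
    show (EtCoh.stalk ξ).map (cokernel.π (relMap q)) ((EtCoh.stalk ξ).map (kernel.ι (genπ p.1.1)) k) = 0
    rw [← ConcreteCategory.comp_apply, ← Functor.map_comp, hzero, Functor.map_zero]
    rfl
  · rcases Finset.mem_union.1 hr with h | h
    · exact Or.inl h
    · obtain ⟨g, hg, rfl⟩ := Finset.mem_image.1 h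
      exact Or.inr ⟨g, hRP g hg, rfl⟩

/-- A constructible sheaf is presented by a finite stage. -/
theorem exists_iso_of_isConstructible [CompactSpace X] [QuasiSeparatedSpace X]
    (hF : EtPBC.IsConstructible F) : ∃ q : Stage F, IsIso (π q) := by
  have ht : ∀ {G : EtCoh.Ab X}, EtPBC.IsConstructible G → ∀ (Ω : Type u) [Field Ω] [IsSepClosed Ω]
      (ξ : Spec (CommRingCat.of Ω) ⟶ X) (q : ↑((EtCoh.stalk ξ).obj G)),
      ∃ (g : Gen G) (φ : (Scheme.pointSmallEtale ξ).fiber.obj g.U), True ∧ germ ξ _ g.U φ g.s = q :=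
    fun hG Ω _ _ ξ q => by
      obtain ⟨g, φ, h⟩ := exists_gen_germ (isTorsion_of_isConstructible hG) ξ q
      exact ⟨g, φ, trivial, h⟩
  obtain ⟨S, -, hS⟩ := exists_genπ_epi hF (fun _ => True) (ht hF)
  have hK := isConstructible_kernel (genπ S) (isConstructible_genSum S) hF
  obtain ⟨q, -, hqS, hmono, -⟩ := exists_ge_mono ⟨(S, ∅), fun r hr => absurd hr (Finset.notMem_empty r)⟩ hK
    (fun _ => True) (ht hK)
  haveI : Epi (genπ q.1.1) := by rw [hqS]; exact hS
  haveI : Epi (π q) := epi_of_epi_fac (cokernel.π_desc _ _ _ : cokernel.π (relMap q) ≫ π q = genπ q.1.1)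
  exact ⟨q, isIso_of_mono_of_epi _⟩

end Stage

end Groth.Agent.EtConsAb
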