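/-
Dévissage of `ℓ`-torsion sheaves to `ℤ/ℓ` on integral finite schemes: basic tools.
-/
import Groth.Agent.GalCohAux.EtDimVanE
import Groth.Agent.GalCohAux.EtDev
import Groth.Agent.EtConsAb.Colim
import Groth.Agent.EtConsAb.Supp
import Groth.Agent.EtCoprodGE.Push
import Groth.Agent.FlatTrace.Stalk
import Groth.Agent.RedSub.Basic
import Groth.Agent.S16188

set_option autoImplicit false
set_option linter.style.haveILetI false
set_option backward.isDefEq.respectTransparency false

universe u

open CategoryTheory CategoryTheory.Limits AlgebraicGeometry Opposite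

noncomputable section

namespace Groth.Agent.EtConsAb.DevFin

open Groth.Agent Groth.Agent.EtaleSite Groth.Agent.GalCohAux
  Groth.Agent.GalCohAux.EtDimVanA Groth.Agent.GalCohAux.EtDimVanB Groth.Agent.GalCohAux.EtDimVanC

attribute [-instance] EtFin.instUniqueCarrierCarrierCommRingCatSpecOf_groth

variable {X Y : Scheme.{u}}

/-- Integral direct images do not create cohomology. -/
theorem subsingleton_push (f : X ⟶ Y) [IsIntegralHom f] (F : EtCoh.Ab X) (q : ℕ)
    (h : Subsingleton (EtCoh.H X F q)) : Subsingleton (EtCoh.H Y ((EtCoh.push f).obj F) q) :=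
  (Equiv.ofBijective _ (S14451.result f F (fun i hi => S3054.result f F i hi) q)).subsingleton

/-- Cohomology in large degrees is insensitive to small kernels and cokernels. -/
theorem subsingleton_iff_of_small {G J : EtCoh.Ab X} (a : G ⟶ J) (q : ℕ)
    (hK : Subsingleton (EtCoh.H X (kernel a) (q + 1))) (hK' : Subsingleton (EtCoh.H X (kernel a) (q + 1 + 1)))
    (hC : Subsingleton (EtCoh.H X (cokernel a) q)) (hC' : Subsingleton (EtCoh.H X (cokernel a) (q + 1))) :
    Subsingleton (EtCoh.H X G (q + 1)) ↔ Subsingleton (EtCoh.H X J (q + 1)) := by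
  let T₂ : ShortComplex (EtCoh.Ab X) := ShortComplex.mk (Abelian.image.ι a) (cokernel.π a) (kernel.condition _)
  have hT₂ : T₂.ShortExact :=
    { exact := ShortComplex.exact_of_f_is_kernel _ (kernelIsKernel (cokernel.π a)) }
  have hk : kernel.ι a ≫ Abelian.factorThruImage a = 0 := by
    rw [← cancel_mono (Abelian.image.ι a), Category.assoc, Abelian.image.fac, kernel.condition, zero_comp]
  let T₁ : ShortComplex (EtCoh.Ab X) := ShortComplex.mk (kernel.ι a) (Abelian.factorThruImage a) hk
  haveI : Epi T₁.g := inferInstanceAs (Epi (Abelian.factorThruImage a))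
  have hT₁ : T₁.ShortExact :=
    { exact := ShortComplex.exact_of_f_is_kernel _
        (Limits.isKernelOfComp (f := Abelian.factorThruImage a) (Abelian.image.ι a) a (kernelIsKernel a) hk
          (Abelian.image.fac a)) }
  refine ⟨fun hG => ?_, fun hJ => subsingleton_H_mid hT₁ _ hK (subsingleton_H_left hT₂ q hC hJ)⟩
  exact subsingleton_H_mid hT₂ _ (subsingleton_H_right hT₁ (q + 1) hG hK') hC'

/-- The reduced closed subscheme on the closure of a point. -/
abbrev pc (y : Y) : Scheme.{u} :=
  (Scheme.IdealSheafData.vanishingIdeal (⟨closure {y}, isClosed_closure⟩ : TopologicalSpace.Closeds Y)).subscheme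

/-- Its inclusion. -/
abbrev pcι (y : Y) : pc y ⟶ Y :=
  (Scheme.IdealSheafData.vanishingIdeal (⟨closure {y}, isClosed_closure⟩ : TopologicalSpace.Closeds Y)).subschemeι

instance isIntegral_pc (y : Y) : AlgebraicGeometry.IsIntegral (pc y) :=
  S16188.isIntegral_subscheme _ isIrreducible_singleton.closure

theorem range_pcι (y : Y) : Set.range (pcι y) = closure {y} :=
  RedSub.range_vanishingIdeal_subschemeι _

theorem pcι_genericPoint (y : Y) : pcι y (genericPoint (pc y)) = y := by
  have h : IsGenericPoint (pcι y (genericPoint (pc y))) (closure {y}) := by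
    have h1 := (genericPoint_spec (pc y)).image (pcι y).continuous
    rwa [Set.image_univ, range_pcι, closure_closure] at h1
  exact h.eq isGenericPoint_closure

/-- The higher direct images from a point vanish at the point, the direct images off its closure. -/
theorem isZero_stalk_Rpush_self [IsNoetherian X] (ξ : X) (M : EtCoh.Ab (Spec (X.residueField ξ))) (i : ℕ) (y : X)
    (h : ¬ ξ ⤳ y ∨ (0 < i ∧ y = ξ)) :
    IsZero ((EtCoh.stalk (geomPointAt X y)).obj ((EtCoh.Rpush (X.fromSpecResidueField ξ) i).obj M)) := by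
  let O := X.presheaf.stalk y
  let R := Hens.StrictHenselization O
  haveI : IsSepClosed (IsLocalRing.ResidueField R) :=
    (inferInstance : Hensel.IsStrictHenselization O R).isSepClosure.sep_closed
  haveI : HenselianLocalRing R := (inferInstance : Hensel.IsStrictHenselization O R).henselian
  obtain ⟨e₁⟩ := Groth.Agent.EtLimit.nonempty_Rpush_stalk_iso (X.fromSpecResidueField ξ) y R i
  have hpt : Hens2.geomPt X y R default = y := by
    refine (Scheme.Hom.comp_apply _ _ _).trans ((Scheme.Hom.comp_apply _ _ _).trans ?_)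
    have hclosed : (Spec.map (CommRingCat.ofHom (algebraMap O R)))
        ((Spec.map (CommRingCat.ofHom (IsLocalRing.residue R))) default) = IsLocalRing.closedPoint O := by
      refine PrimeSpectrum.ext ?_
      show Ideal.comap (algebraMap O R) (Ideal.comap (IsLocalRing.residue R)
        (default : Spec (CommRingCat.of (IsLocalRing.ResidueField R))).asIdeal) = IsLocalRing.maximalIdeal O
      rw [show (default : Spec (CommRingCat.of (IsLocalRing.ResidueField R))).asIdeal = ⊥ from
        Ideal.eq_bot_of_prime _, ← RingHom.ker_eq_comap_bot, IsLocalRing.ker_residue,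
        IsLocalRing.maximalIdeal_comap]
    exact (congrArg (X.fromSpecStalk y) hclosed).trans Scheme.fromSpecStalk_closedPoint
  refine ((EtConsAb.isZero_stalk_iff (Hens2.geomPt X y R) hpt).1 ?_)
  refine IsZero.of_iso ?_ (e₁.app M)
  refine @AddCommGrpCat.isZero_of_subsingleton _ ?_
  let P := fib ξ y R
  show Subsingleton (EtCoh.H P ((EtCoh.pull (pullback.fst _ _)).obj M) i)
  haveI : Finite P := finite_fib ξ y R
  haveI := Fintype.ofFinite P
  refine subsingleton_H_of_finite_supp (isClosed_singleton_fib ξ y R) (Finset.univ : Finset P).card _ Finset.univ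
    le_rfl (fun _ _ => Finset.mem_coe.2 (Finset.mem_univ _)) i fun p _ => ?_
  have hsp := specializes ξ y R p
  obtain ⟨hi, hyξ⟩ := h.resolve_left (not_not_intro hsp)
  obtain ⟨g, hg⟩ := exists_surjective ξ y R p
  let N := (EtCoh.pull ((fib ξ y R).fromSpecResidueField p)).obj
    ((EtCoh.pull (pullback.fst (X.fromSpecResidueField ξ) (Hens2.specOf X y R))).obj M)
  change Subsingleton (EtCoh.H (Spec (CommRingCat.of ((fib ξ y R).residueField p))) N i)
  let z := ((pullback.snd (X.fromSpecResidueField ξ) (Hens2.specOf X y R)) p).asIdeal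
  have hzm : z.IsMaximal := by
    have hc := comap_eq ξ y R hsp p
    have hk : RingHom.ker (Cyc.specMap y ξ hsp) = IsLocalRing.maximalIdeal O := by
      subst hyξ
      show RingHom.ker (X.presheaf.stalkSpecializes hsp ≫ X.residue y).hom = _
      rw [TopCat.Presheaf.stalkSpecializes_refl, Category.id_comp]
      exact IsLocalRing.ker_residue
    have hE := Hensel.isEtLike_of_isStrictHenselization O R
    have he : z = IsLocalRing.maximalIdeal R :=
      hE.eq_of_le_of_comap_eq (IsLocalRing.le_maximalIdeal (Ideal.IsPrime.ne_top inferInstance))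
        (hc.trans (hk.trans (IsLocalRing.maximalIdeal_comap _).symm))
    rw [he]
    infer_instance
  refine subsingleton_field (g.comp (algebraMap R z.ResidueField))
    (hg.comp (Ideal.algebraMap_residueField_surjective z)) N i ?_
  exact EtaleSite.subsingleton_H R _ i hi

/-- The direct image from a point is supported in its closure. -/
theorem supp_push_subset [IsNoetherian X] (ξ : X) (M : EtCoh.Ab (Spec (X.residueField ξ))) :
    EtPBC.supp ((EtCoh.push (X.fromSpecResidueField ξ)).obj M) ⊆ closure {ξ} := by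
  intro y hy
  rw [← specializes_iff_mem_closure]
  by_contra hne
  refine (EtDimVanA.mem_supp y).1 hy ?_
  exact (isZero_stalk_Rpush_self ξ M 0 y (Or.inl hne)).of_iso
    ((EtCoh.stalk (geomPointAt X y)).mapIso ((EtCoh.push _).rightDerivedZeroIsoSelf.app M).symm)

theorem supp_coker_subset {F G : EtCoh.Ab X} (a : F ⟶ G) :
    EtPBC.supp (cokernel a) ⊆ EtPBC.supp G := by
  intro y hy
  rw [EtDimVanA.mem_supp] at hy ⊢
  intro h0
  haveI : Epi ((EtCoh.stalk (geomPointAt X y)).map (cokernel.π a)) := inferInstance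
  exact hy (IsZero.of_epi ((EtCoh.stalk (geomPointAt X y)).map (cokernel.π a)) h0)

/-- The kernel and cokernel of the unit at a point avoid the point. -/
theorem supp_unit_point (ξ : X) (G : EtCoh.Ab X) :
    ξ ∉ EtPBC.supp (kernel ((EtCoh.pullPushAdj (X.fromSpecResidueField ξ)).unit.app G)) ∧
      ξ ∉ EtPBC.supp (cokernel ((EtCoh.pullPushAdj (X.fromSpecResidueField ξ)).unit.app G)) := by
  let j := X.fromSpecResidueField ξ
  let η := (EtCoh.pullPushAdj j).unit.app G
  obtain ⟨ξ₀, hξ₀⟩ : ∃ ξ₀ : Spec (CommRingCat.of (SeparableClosure (X.residueField ξ))) ⟶ Spec (X.residueField ξ),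
      (ξ₀ ≫ j) default = ξ := ⟨Spec.map (CommRingCat.ofHom (algebraMap (X.residueField ξ) (SeparableClosure (X.residueField ξ)))),
        (Scheme.Hom.comp_apply _ _ _).trans ((Scheme.range_fromSpecResidueField ξ).le ⟨_, rfl⟩)⟩
  have hbij := bijective_stalk_unit ξ G ξ₀
  refine ⟨fun hmem => ?_, fun hmem => ?_⟩
  · refine (EtDimVanA.mem_supp ξ).1 hmem ((EtConsAb.isZero_stalk_iff (ξ₀ ≫ j) hξ₀).1 ?_)
    refine @AddCommGrpCat.isZero_of_subsingleton _ (subsingleton_of_forall_eq 0 fun a =>
      (mono_iff_stalk (kernel.ι η)).1 inferInstance _ (ξ₀ ≫ j) (hbij.1 ?_))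
    show (EtCoh.stalk (ξ₀ ≫ j)).map η ((EtCoh.stalk (ξ₀ ≫ j)).map (kernel.ι η) a) =
      (EtCoh.stalk (ξ₀ ≫ j)).map η ((EtCoh.stalk (ξ₀ ≫ j)).map (kernel.ι η) 0)
    rw [← ConcreteCategory.comp_apply, ← Functor.map_comp, kernel.condition, Functor.map_zero, map_zero, map_zero]
    rfl
  · refine (EtDimVanA.mem_supp _).1 hmem ((EtConsAb.isZero_stalk_iff (ξ₀ ≫ j) hξ₀).1 ?_)
    refine @AddCommGrpCat.isZero_of_subsingleton _ (subsingleton_of_forall_eq 0 fun a => ?_)
    obtain ⟨b, rfl⟩ := (AddCommGrpCat.epi_iff_surjective ((EtCoh.stalk (ξ₀ ≫ j)).map (cokernel.π η))).1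
      inferInstance a
    obtain ⟨c, rfl⟩ := hbij.2 b
    show (EtCoh.stalk (ξ₀ ≫ j)).map (cokernel.π η) ((EtCoh.stalk (ξ₀ ≫ j)).map η c) = 0
    rw [← ConcreteCategory.comp_apply, ← Functor.map_comp, cokernel.condition, Functor.map_zero]
    rfl

/-- The cokernel of the direct image of an epimorphism from a point avoids the point. -/
theorem supp_coker_push [IsNoetherian X] (ξ : X) {S : ShortComplex (EtCoh.Ab (Spec (X.residueField ξ)))}
    (hS : S.ShortExact) :
    EtPBC.supp (cokernel ((EtCoh.push (X.fromSpecResidueField ξ)).map S.g)) ⊆ closure {ξ} \ {ξ} := by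
  refine fun y hy => ⟨supp_push_subset ξ S.X₃ (supp_coker_subset _ hy), fun e => ?_⟩
  obtain rfl : y = ξ := e
  let j := X.fromSpecResidueField y
  haveI : PreservesLimitsOfSize.{0, 0} (EtCoh.push j) := (EtCoh.pullPushAdj j).rightAdjoint_preservesLimits
  haveI : PreservesFiniteLimits (EtCoh.push j) := PreservesLimitsOfSize.preservesFiniteLimits _
  let l := RDerLES.derivedLES (EtCoh.push j)
  let L := EtCoh.stalk (geomPointAt X y)
  have h1 : IsZero (L.obj ((EtCoh.Rpush j 1).obj S.X₁)) := isZero_stalk_Rpush_self y S.X₁ 1 y (Or.inr ⟨one_pos, rfl⟩)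
  haveI := (l.exact₃ S hS 0 1 rfl)
  have h2 : Epi (L.map (((EtCoh.push j).rightDerived 0).map S.g)) :=
    ((l.exact₃ S hS 0 1 rfl).map L).epi_f (h1.eq_of_tgt _ _)
  haveI : Epi (L.map ((EtCoh.push j).map S.g)) := by
    have e : L.map (((EtCoh.push j).rightDerived 0).map S.g) ≫ L.map ((EtCoh.push j).rightDerivedZeroIsoSelf.hom.app S.X₃) =
        L.map ((EtCoh.push j).rightDerivedZeroIsoSelf.hom.app S.X₂) ≫ L.map ((EtCoh.push j).map S.g) := by
      rw [← L.map_comp, ← L.map_comp, NatTrans.naturality]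
    haveI := h2
    exact epi_of_epi_fac e.symm
  refine (EtDimVanA.mem_supp y).1 hy (IsZero.of_epi_eq_zero (L.map (cokernel.π _)) ?_)
  rw [← cancel_epi (L.map ((EtCoh.push j).map S.g)), ← L.map_comp, cokernel.condition, L.map_zero, comp_zero]

/-- Direct images along quasi-compact quasi-separated morphisms commute with large filtered colimits. -/
theorem nonempty_isColimit_push (f : X ⟶ Y) [QuasiCompact f] [QuasiSeparated f] {J : Type (u + 1)}
    [SmallCategory J] [IsFiltered J] {D : J ⥤ EtCoh.Ab X} {c : Cocone D} (hc : IsColimit c) :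
    Nonempty (IsColimit ((EtCoh.push f).mapCocone c)) := by
  refine nonempty_isColimit_of_stalk _ (fun Ω _ _ ξ q => ?_) fun Ω _ _ ξ i y hy => ?_
  · obtain ⟨U, x, s, rfl⟩ := exists_germ_eq ξ _ q
    obtain ⟨V, g, hV, v, hv⟩ := EtColim.TorsionPush.affine_nbhd U (PunctLib.pt x)
    obtain ⟨z, hz, -⟩ := PunctLib.exists_lift g x v hv
    obtain ⟨_, _⟩ := EtColim.TorsionPush.compact_qs_bc f V
    obtain ⟨i, t, ht⟩ := EtColim.Sections.exists_rep D c hc ((EtCoh.bc f).obj V)
      (((EtCoh.push f).obj c.pt).obj.map g.op s)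
    refine ⟨i, germ ξ _ V z t, ?_⟩
    rw [germ_naturality, ← hz, ← germ_res]
    exact congrArg _ ht
  · obtain ⟨U, x, s, rfl⟩ := exists_germ_eq ξ _ y
    rw [germ_naturality] at hy
    obtain ⟨W, a, w, hw, e⟩ := (PunctLib.germ_eq_zero_iff _ x _).1 hy
    obtain ⟨w', hw', -⟩ := PunctLib.exists_lift a x w hw
    obtain ⟨V, g, hV, v, hv⟩ := EtColim.TorsionPush.affine_nbhd W (PunctLib.pt w')
    obtain ⟨z, hz, -⟩ := PunctLib.exists_lift g w' v hv
    obtain ⟨_, _⟩ := EtColim.TorsionPush.compact_qs_bc f V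
    have e0 : (((EtCoh.push f).mapCocone c).ι.app i).hom.app (op V)
        (((EtCoh.push f).obj (D.obj i)).obj.map (g ≫ a).op s) = 0 := by
      refine (NatTrans.naturality_apply (((EtCoh.push f).mapCocone c).ι.app i).hom (g ≫ a).op s).trans ?_
      rw [op_comp, Functor.map_comp, ConcreteCategory.comp_apply]
      exact (congrArg _ e).trans (map_zero _)
    obtain ⟨k, b, hk⟩ := EtColim.Sections.exists_map_eq_zero D c hc ((EtCoh.bc f).obj V)
      (((EtCoh.push f).obj (D.obj i)).obj.map (g ≫ a).op s) e0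
    refine ⟨k, b, ?_⟩
    rw [← hw', ← hz, ← ConcreteCategory.comp_apply (f := (Scheme.pointSmallEtale ξ).fiber.map g), ← Functor.map_comp, ← germ_res, germ_naturality]
    exact (congrArg (germ ξ ((EtCoh.push f).obj (D.obj k)) V z) hk).trans (map_zero _)

end Groth.Agent.EtConsAb.DevFin
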