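/-
Dévissage of `ℓ`-torsion sheaves: finite models of separable extensions of residue fields and the trace.
-/
import Groth.Agent.EtConsAb.DevFinBasic
import Groth.Agent.Wt.ExtendFinite
import Mathlib.RingTheory.Polynomial.ScaleRoots

set_option autoImplicit false
set_option linter.style.haveILetI false
set_option backward.isDefEq.respectTransparency false

universe u

open CategoryTheory CategoryTheory.Limits AlgebraicGeometry Opposite Polynomial

noncomputable section

namespace Groth.Agent.EtConsAb.DevFin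

open Groth.Agent Groth.Agent.EtaleSite Groth.Agent.GalCohAux

attribute [-instance] EtFin.instUniqueCarrierCarrierCommRingCatSpecOf_groth

/-- A finite separable extension of a residue field is the residue field of a point of a finite scheme. -/
theorem exists_model {Y : Scheme.{u}} [IsNoetherian Y] (y : Y) (L : Type u) [Field L]
    [Algebra (Y.residueField y) L] [FiniteDimensional (Y.residueField y) L]
    [Algebra.IsSeparable (Y.residueField y) L] :
    ∃ (Y' : Scheme.{u}) (h : Y' ⟶ Y) (_ : IsFinite h) (y' : Y') (φ : Y'.residueField y' ⟶ CommRingCat.of L)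
      (_ : IsIso φ),
      h y' = y ∧ (Spec.map φ ≫ Y'.fromSpecResidueField y') ≫ h =
        Spec.map (CommRingCat.ofHom (algebraMap (Y.residueField y) L)) ≫ Y.fromSpecResidueField y := by
  classical
  obtain ⟨V, hV, hyV, -⟩ := exists_isAffineOpen_mem_and_subset (show y ∈ (⊤ : Y.Opens) from trivial)
  let ev : Γ(Y, V) →+* Y.residueField y := (Y.presheaf.germ V y hyV ≫ Y.residue y).hom
  have hj : Y.fromSpecResidueField y = Spec.map (CommRingCat.ofHom ev) ≫ hV.fromSpec := by
    show Spec.map (Y.residue y) ≫ Y.fromSpecStalk y = _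
    rw [← IsAffineOpen.fromSpecStalk_eq_fromSpecStalk hV hyV, IsAffineOpen.fromSpecStalk,
      ← Spec.map_comp_assoc]
    rfl
  -- fractions
  have hfrac : ∀ z : Y.residueField y, ∃ a s, ev s ≠ 0 ∧ z * ev s = ev a := fun z => by
    obtain ⟨w, rfl⟩ := IsLocalRing.residue_surjective (R := Y.presheaf.stalk y) z
    letI := TopCat.Presheaf.algebra_section_stalk Y.presheaf ⟨y, hyV⟩
    haveI := hV.isLocalization_stalk ⟨y, hyV⟩
    obtain ⟨⟨a, s⟩, hw⟩ := IsLocalization.surj (hV.primeIdealOf ⟨y, hyV⟩).asIdeal.primeCompl w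
    refine ⟨a, s, ?_, ?_⟩
    · exact ((IsLocalization.map_units (Y.presheaf.stalk y) s).map (IsLocalRing.residue _)).ne_zero
    · exact (map_mul (IsLocalRing.residue _) _ _).symm.trans (congrArg (IsLocalRing.residue _) hw)
  choose num den hden hnum using hfrac
  obtain ⟨α, hα⟩ := Field.exists_primitive_element (Y.residueField y) L
  have hint : IsIntegral (Y.residueField y) α := .of_finite _ α
  let P := minpoly (Y.residueField y) α
  let S : Γ(Y, V) := ∏ i ∈ Finset.range P.natDegree, den (P.coeff i)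
  have hS : ev S ≠ 0 := by
    rw [map_prod]
    exact Finset.prod_ne_zero_iff.2 fun i _ => hden _
  have hlifts : P.scaleRoots (ev S) ∈ Polynomial.lifts ev := by
    refine (Polynomial.lifts_iff_coeff_lifts _).2 fun n => ?_
    rw [Polynomial.coeff_scaleRoots]
    rcases lt_trichotomy n P.natDegree with hn | hn | hn
    · obtain ⟨c, hc⟩ : den (P.coeff n) ∣ S ^ (P.natDegree - n) :=
        (Finset.dvd_prod_of_mem _ (Finset.mem_range.2 hn)).trans (dvd_pow_self _ (by omega))
      refine ⟨num (P.coeff n) * c, ?_⟩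
      rw [map_mul, ← hnum, mul_assoc, ← map_mul, ← hc, map_pow]
    · subst hn
      exact ⟨1, by simp [(minpoly.monic hint).leadingCoeff, P]⟩
    · exact ⟨0, by simp [Polynomial.coeff_eq_zero_of_natDegree_lt hn]⟩
  obtain ⟨Q, hQ, -, hQm⟩ := Polynomial.lifts_and_natDegree_eq_and_monic hlifts
    ((Polynomial.monic_scaleRoots_iff _).2 (minpoly.monic hint))
  let β : L := algebraMap (Y.residueField y) L (ev S) * α
  let aL : Γ(Y, V) →+* L := (algebraMap (Y.residueField y) L).comp ev
  have hβ : Q.eval₂ aL β = 0 := by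
    rw [← Polynomial.eval₂_map, hQ]
    exact Polynomial.scaleRoots_eval₂_eq_zero _ (minpoly.aeval _ α)
  let B := AdjoinRoot Q
  let ψ : B →+* L := AdjoinRoot.lift aL β hβ
  let b : Spec (CommRingCat.of B) ⟶ Y :=
    Spec.map (CommRingCat.ofHom (algebraMap Γ(Y, V) B)) ≫ hV.fromSpec
  haveI : Module.Finite Γ(Y, V) B := hQm.finite_adjoinRoot
  haveI : IsFinite (Spec.map (CommRingCat.ofHom (algebraMap Γ(Y, V) B))) :=
    (IsFinite.SpecMap_iff _).2 (by rw [CommRingCat.hom_ofHom]; exact RingHom.finite_algebraMap.2 inferInstance)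
  haveI : QuasiCompact hV.fromSpec := QuasiCompact.of_comp _ (terminal.from Y)
  haveI : LocallyQuasiFinite b := inferInstance
  obtain ⟨Y', i, h, _, -, _, hih⟩ := Wt.ExtendFinite.exists_openImmersion_finite b
  let q : PrimeSpectrum B := ⟨RingHom.ker ψ, RingHom.ker_isPrime ψ⟩
  let q₀ : ↥(Spec (CommRingCat.of B)) := q
  haveI : q.asIdeal.IsPrime := q.2
  let φ₀ : q.asIdeal.ResidueField →+* L := Ideal.ResidueField.lift q.asIdeal ψ le_rfl fun z hz =>
    IsUnit.mk0 _ fun h0 => hz h0
  have hφ₀ : φ₀.comp (algebraMap B q.asIdeal.ResidueField) = ψ :=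
    RingHom.ext fun z => by simp [φ₀]
  have hsurj : Function.Surjective φ₀ := fun z => by
    have htop : Algebra.adjoin (Y.residueField y) {α} = ⊤ := by
      rw [← IntermediateField.adjoin_simple_toSubalgebra_of_isAlgebraic hint.isAlgebraic, hα]
      rfl
    have hK : ∀ c, algebraMap (Y.residueField y) L c ∈ φ₀.fieldRange := fun c => by
      have hA : ∀ a, aL a ∈ φ₀.fieldRange := fun a =>
        ⟨algebraMap B _ (algebraMap _ B a), (DFunLike.congr_fun hφ₀ _).trans (AdjoinRoot.lift_of hβ)⟩
      have e : algebraMap (Y.residueField y) L c = aL (num c) / aL (den c) := by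
        refine (eq_div_iff ((_root_.map_ne_zero (algebraMap (Y.residueField y) L)).2 (hden c))).2 ?_
        show _ * algebraMap _ L (ev _) = algebraMap _ L (ev _)
        rw [← map_mul, hnum]
      rw [e]
      exact div_mem (hA _) (hA _)
    have hα' : α ∈ φ₀.fieldRange := by
      have e : α = β / algebraMap (Y.residueField y) L (ev S) := by
        rw [eq_div_iff ((_root_.map_ne_zero _).2 hS), mul_comm]
      rw [e]
      exact div_mem ⟨algebraMap B _ (AdjoinRoot.root Q),
        (DFunLike.congr_fun hφ₀ _).trans (AdjoinRoot.lift_root hβ)⟩ (hK _)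
    have hz : z ∈ Algebra.adjoin (Y.residueField y) {α} := by rw [htop]; trivial
    show z ∈ φ₀.fieldRange
    induction hz using Algebra.adjoin_induction with
    | mem x hx => rw [Set.mem_singleton_iff.1 hx]; exact hα'
    | algebraMap c => exact hK c
    | add x y _ _ hx hy => exact add_mem hx hy
    | mul x y _ _ hx hy => exact mul_mem hx hy
  haveI : IsIso (CommRingCat.ofHom φ₀) :=
    (ConcreteCategory.isIso_iff_bijective _).2 ⟨φ₀.injective, hsurj⟩
  let φ : Y'.residueField (i q₀) ⟶ CommRingCat.of L :=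
    i.residueFieldMap q₀ ≫ (Scheme.Spec.residueFieldIso (CommRingCat.of B) q).hom ≫ CommRingCat.ofHom φ₀
  have ht : (Spec.map φ ≫ Y'.fromSpecResidueField (i q₀)) ≫ h =
      Spec.map (CommRingCat.ofHom (algebraMap (Y.residueField y) L)) ≫ Y.fromSpecResidueField y := by
    have e0 : Spec.map (CommRingCat.ofHom φ₀) ≫ Spec.map (CommRingCat.ofHom (algebraMap B q.asIdeal.ResidueField)) =
        Spec.map (CommRingCat.ofHom ψ) := by
      rw [← Spec.map_comp, ← CommRingCat.ofHom_comp, hφ₀]
    have e1 : Spec.map (CommRingCat.ofHom φ₀) ≫ Spec.map (Scheme.Spec.residueFieldIso (CommRingCat.of B) q).hom ≫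
        (Spec (CommRingCat.of B)).fromSpecResidueField q₀ = Spec.map (CommRingCat.ofHom ψ) := by
      rw [← e0, ← Scheme.Spec.map_residueFieldIso_inv_eq_fromSpecResidueField (CommRingCat.of B) q,
        ← Category.assoc (Spec.map _) (Spec.map _) (Spec.map _), ← Spec.map_comp, Iso.inv_hom_id,
        Spec.map_id, Category.id_comp]
    simp only [φ, Spec.map_comp, Category.assoc, Scheme.Hom.SpecMap_residueFieldMap_fromSpecResidueField_assoc]
    rw [hih, reassoc_of% e1, hj, ← Spec.map_comp_assoc, ← Spec.map_comp_assoc]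
    congr 2
    refine CommRingCat.hom_ext (RingHom.ext fun a => ?_)
    exact AdjoinRoot.lift_of hβ
  refine ⟨Y', h, inferInstance, i q₀, φ, inferInstance, ?_, ht⟩
  have e := congrArg (fun k : Spec (CommRingCat.of L) ⟶ Y => k (IsLocalRing.closedPoint L)) ht
  simp only [Scheme.Hom.comp_apply, Scheme.fromSpecResidueField_apply] at e
  exact e.trans ((Scheme.range_fromSpecResidueField y).le ⟨_, rfl⟩)

/-- Retracts of cohomology. -/
theorem subsingleton_of_retract {X : Scheme.{u}} {F G : EtCoh.Ab X} (a : F ⟶ G) (b : G ⟶ F) [IsIso (a ≫ b)] (q : ℕ)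
    (h : Subsingleton (EtCoh.H X G q)) : Subsingleton (EtCoh.H X F q) := by
  refine subsingleton_of_forall_eq 0 fun x => (HpullComp.HF_map_bijective (n := q) (a ≫ b)).1 ?_
  show x.comp (Abelian.Ext.mk₀ (a ≫ b)) (add_zero q) = (0 : EtCoh.H X F q).comp (Abelian.Ext.mk₀ (a ≫ b)) (add_zero q)
  rw [Abelian.Ext.zero_comp]
  rw [← Abelian.Ext.mk₀_comp_mk₀, ← Abelian.Ext.comp_assoc_of_second_deg_zero,
    @Subsingleton.elim _ h (x.comp (Abelian.Ext.mk₀ a) (add_zero q)) 0, Abelian.Ext.zero_comp]

/-- Descent of vanishing along a separable extension of degree invertible on the sheaf. -/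
theorem subsingleton_of_trace {Y Y' : Scheme.{u}} (K : Type u) [Field K] (j : Spec (CommRingCat.of K) ⟶ Y)
    (L : Type u) [Field L] [Algebra K L] [FiniteDimensional K L] [Algebra.IsSeparable K L]
    (h : Y' ⟶ Y) [IsIntegralHom h] (k : Spec (CommRingCat.of L) ⟶ Y')
    (w : k ≫ h = Spec.map (CommRingCat.ofHom (algebraMap K L)) ≫ j) (M : EtCoh.Ab (Spec (CommRingCat.of K)))
    (hd : IsIso ((Module.finrank K L) • 𝟙 M)) (q : ℕ)
    (hL : Subsingleton (EtCoh.H Y' ((EtCoh.push k).obj
      ((EtCoh.pull (Spec.map (CommRingCat.ofHom (algebraMap K L)))).obj M)) q)) :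
    Subsingleton (EtCoh.H Y ((EtCoh.push j).obj M) q) := by
  let π := Spec.map (CommRingCat.ofHom (algebraMap K L))
  haveI : Etale π := EtTrace.etale_field L
  haveI : IsFinite π := (IsFinite.SpecMap_iff _).2 (by rw [CommRingCat.hom_ofHom]; exact RingHom.finite_algebraMap.2 inferInstance)
  let N := (EtCoh.pull π).obj M
  let e : (EtCoh.push h).obj ((EtCoh.push k).obj N) ≅ (EtCoh.push j).obj ((EtCoh.push π).obj N) :=
    (EtCoh.pushComp h k).app N ≪≫ (EtCoh.pushCongr w).app N ≪≫ ((EtCoh.pushComp j π).app N).symm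
  have h1 := EtDimVanA.subsingleton_H_of_iso e q (subsingleton_push h _ q hL)
  have hcomp : (EtCoh.pullPushAdj π).unit.app M ≫ (FlatTrace.tr π).app M = Module.finrank K L • 𝟙 M := by
    refine FlatTrace.hom_ext_acPoint _ _ fun s => ?_
    rw [Functor.map_comp, FlatTrace.stalk_tr, FlatTrace.unit_traceAt, Functor.map_nsmul,
      natCast_zsmul]
    erw [CategoryTheory.Functor.map_id]
    congr 1
    exact (Scheme.Hom.finrank_SpecMap_algebraMap K L _).trans (by rw [Module.rankAtStalk_eq_finrank_of_free]; rfl)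
  haveI : IsIso ((EtCoh.push j).map ((EtCoh.pullPushAdj π).unit.app M) ≫
      (EtCoh.push j).map ((FlatTrace.tr π).app M)) := by
    rw [← Functor.map_comp]
    erw [hcomp]
    infer_instance
  exact subsingleton_of_retract ((EtCoh.push j).map ((EtCoh.pullPushAdj π).unit.app M))
    ((EtCoh.push j).map ((FlatTrace.tr π).app M)) q h1

end Groth.Agent.EtConsAb.DevFin
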