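/-
Dévissage of `ℓ`-torsion sheaves: vanishing from the constant sheaves on integral finite schemes.
-/
import Groth.Agent.EtConsAb.DevFinModel
import Groth.Agent.EtaleSite.PushImage

set_option autoImplicit false
set_option linter.style.haveILetI false
set_option backward.isDefEq.respectTransparency false

universe u

open CategoryTheory CategoryTheory.Limits AlgebraicGeometry Opposite

noncomputable section

namespace Groth.Agent.EtConsAb.DevFin

open Groth.Agent Groth.Agent.EtaleSite Groth.Agent.GalCohAux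
  Groth.Agent.GalCohAux.EtTrace Groth.Agent.GalCohAux.EtFin Groth.Agent.GalCohAux.EtDev

attribute [-instance] EtFin.instUniqueCarrierCarrierCommRingCatSpecOf_groth

variable {X : Scheme.{u}}

/-- The function of a point of a finite scheme. -/
abbrev ψ (φ : ∀ (Y : Scheme.{u}), (Y ⟶ X) → ℕ) {Y : Scheme.{u}} (g : Y ⟶ X) (y : Y) : ℕ :=
  φ (pc y) (pcι y ≫ g)

variable {ℓ : ℕ} [hℓ : Fact ℓ.Prime] {φ : ∀ (Y : Scheme.{u}), (Y ⟶ X) → ℕ}
  (hmono : ∀ (Y₁ Y₂ : Scheme.{u}) (g₁ : Y₁ ⟶ X) (g₂ : Y₂ ⟶ X) [AlgebraicGeometry.IsIntegral Y₁]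
    [AlgebraicGeometry.IsIntegral Y₂] [IsFinite g₁] [IsFinite g₂]
    (m : Y₁ ⟶ Y₂), m ≫ g₂ = g₁ → φ Y₁ g₁ ≤ φ Y₂ g₂ ∧ (IsClosedImmersion m → ¬ IsIso m → φ Y₁ g₁ < φ Y₂ g₂))

section Mono

include hmono

theorem psi_le {Y Y' : Scheme.{u}} (h : Y' ⟶ Y) (g : Y ⟶ X) [IsFinite h] [IsFinite g] (y' : Y') :
    ψ φ (h ≫ g) y' ≤ ψ φ g (h y') := by
  obtain ⟨m, hm⟩ := RedSub.exists_lift_closed (pcι (h y')) (pcι y' ≫ h) (by
    rw [Scheme.Hom.comp_base, TopCat.coe_comp, Set.range_comp, range_pcι, range_pcι]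
    exact (image_closure_subset_closure_image h.continuous).trans_eq (by rw [Set.image_singleton]))
  exact (hmono _ _ _ (pcι (h y') ≫ g) m (by rw [reassoc_of% hm])).1

theorem psi_lt {Y : Scheme.{u}} (g : Y ⟶ X) [IsFinite g] {y z : Y} (hyz : y ⤳ z) (hne : y ≠ z) :
    ψ φ g z < ψ φ g y := by
  obtain ⟨m, hm⟩ := RedSub.exists_lift_closed (pcι y) (pcι z) (by
    rw [range_pcι, range_pcι]
    exact closure_minimal (Set.singleton_subset_iff.2 (specializes_iff_mem_closure.1 hyz)) isClosed_closure)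
  haveI : IsClosedImmersion (m ≫ pcι y) := hm ▸ inferInstance
  haveI : IsClosedImmersion m := IsClosedImmersion.of_comp m (pcι y)
  refine (hmono _ _ _ (pcι y ≫ g) m (by rw [reassoc_of% hm])).2 inferInstance fun hiso => hne ?_
  obtain ⟨a, ha⟩ := m.surjective (genericPoint (pc y))
  have h1 : y ∈ closure ({z} : Set Y) := by
    rw [← range_pcι z]
    exact ⟨a, (congrArg (fun k => k a) hm).symm.trans ((congrArg (pcι y) ha).trans (pcι_genericPoint y))⟩
  exact (hyz.antisymm (specializes_iff_mem_closure.2 h1)).eq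

theorem psi_generic {Z : Scheme.{u}} [AlgebraicGeometry.IsIntegral Z] (g : Z ⟶ X) [IsFinite g] :
    φ Z g ≤ ψ φ g (genericPoint Z) := by
  obtain ⟨m, hm⟩ := RedSub.exists_lift_closed (pcι (genericPoint Z)) (𝟙 Z) (by
    rw [range_pcι, (genericPoint_spec Z).def]
    exact Set.subset_univ _)
  exact (hmono _ _ g (pcι (genericPoint Z) ≫ g) m (by rw [reassoc_of% hm])).1

end Mono

variable [AlgebraicGeometry.IsNoetherian X]

/-- Vanishing below the level `n`. -/
def Level (ℓ : ℕ) (φ : ∀ (Y : Scheme.{u}), (Y ⟶ X) → ℕ) (n : ℕ) : Prop :=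
  ∀ (Y : Scheme.{u}) (g : Y ⟶ X) [IsFinite g] (F : EtCoh.Ab Y), EtAcyc.IsLTorsion {ℓ} F →
    (∀ y ∈ EtPBC.supp F, ψ φ g y < n) → ∀ q, n ≤ q → Subsingleton (EtCoh.H Y F q)

omit hℓ in
theorem noeth {Y : Scheme.{u}} (g : Y ⟶ X) [IsFinite g] : AlgebraicGeometry.IsNoetherian Y :=
  haveI : IsLocallyNoetherian Y := LocallyOfFiniteType.isLocallyNoetherian g
  haveI : CompactSpace Y := QuasiCompact.compactSpace_of_compactSpace g
  {}

omit [AlgebraicGeometry.IsNoetherian X] in
theorem lTorsion_const (Y : Scheme.{u}) : EtAcyc.IsLTorsion {ℓ} (EtCoh.const Y (ZMod ℓ)) :=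
  EtDimVanD.lTorsion_of_stalk fun Ω _ _ ξ p => by
    refine ⟨ℓ, (EtDimVanD.primesIn_singleton_iff hℓ.out ℓ).2 ⟨1, (pow_one ℓ).symm⟩, ?_⟩
    have h := congrArg (EtCoh.stalk ξ).map (EtDev.nsmul_id_const_zmod (X := Y) (p := ℓ))
    rw [Functor.map_nsmul, CategoryTheory.Functor.map_id, Functor.map_zero] at h
    let E : ((EtCoh.stalk ξ).obj (EtCoh.const Y (ZMod ℓ)) ⟶ (EtCoh.stalk ξ).obj (EtCoh.const Y (ZMod ℓ))) →+
        (EtCoh.stalk ξ).obj (EtCoh.const Y (ZMod ℓ)) := AddMonoidHom.mk' (fun a => a.hom p) fun a b => rfl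
    have h2 := congrArg E h
    rw [map_nsmul, map_zero] at h2
    exact h2

omit hℓ in
theorem level_zero : Level ℓ φ 0 := fun Y g _ F _ hsupp q _ =>
  haveI := noeth g
  EtDimVanA.subsingleton_H_of_isZero
    (EtDimVanA.isZero_of_supp_empty (Set.eq_empty_iff_forall_notMem.2 fun y hy => Nat.not_lt_zero _ (hsupp y hy))) q

omit hℓ in
/-- Replacing a sheaf along a map with small kernel and cokernel. -/
theorem level_iff {n : ℕ} (hn : Level ℓ φ n) {Y : Scheme.{u}} (g : Y ⟶ X) [IsFinite g] {G J : EtCoh.Ab Y}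
    (a : G ⟶ J) (hG : EtAcyc.IsLTorsion {ℓ} G) (hJ : EtAcyc.IsLTorsion {ℓ} J)
    (hK : ∀ y ∈ EtPBC.supp (kernel a), ψ φ g y < n) (hC : ∀ y ∈ EtPBC.supp (cokernel a), ψ φ g y < n)
    (q : ℕ) (hq : n ≤ q) : Subsingleton (EtCoh.H Y G (q + 1)) ↔ Subsingleton (EtCoh.H Y J (q + 1)) := by
  have hk := (EtDimVanD.torsionClass {ℓ}).ker a hG hJ
  have hc := (EtDimVanD.torsionClass {ℓ}).coker a hG hJ
  exact subsingleton_iff_of_small a q (hn Y g _ hk hK _ (by omega)) (hn Y g _ hk hK _ (by omega))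
    (hn Y g _ hc hC q hq) (hn Y g _ hc hC _ (by omega))

omit hℓ [AlgebraicGeometry.IsNoetherian X] in
/-- The cokernel of a composite maps onto the cokernel of its second factor. -/
theorem supp_subset_of_coker {Y : Scheme.{u}} {A B C : EtCoh.Ab Y} (π : A ⟶ B) (m : B ⟶ C) (k : A ⟶ C)
    (w : π ≫ m = k) : EtPBC.supp (cokernel m) ⊆ EtPBC.supp (cokernel k) := by
  let a : cokernel k ⟶ cokernel m :=
    cokernel.desc k (cokernel.π m) (by rw [← w, Category.assoc, cokernel.condition, comp_zero])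
  haveI : Epi a := epi_of_epi_fac (cokernel.π_desc k (cokernel.π m) _)
  intro z hz
  rw [EtDimVanA.mem_supp] at hz ⊢
  intro h0
  haveI : Epi ((EtCoh.stalk (geomPointAt Y z)).map a) := inferInstance
  exact hz (IsZero.of_epi ((EtCoh.stalk (geomPointAt Y z)).map a) h0)

include hmono

omit hℓ in
/-- Vanishing for an extension at a point. -/
theorem subsingleton_push_mid {n : ℕ} (hn : Level ℓ φ n) {Y : Scheme.{u}} (g : Y ⟶ X) [IsFinite g] (y : Y)
    (hψ : ψ φ g y ≤ n) {S : ShortComplex (EtCoh.Ab (Spec (Y.residueField y)))} (hS : S.ShortExact)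
    (h₁ : EtAcyc.IsLTorsion {ℓ} S.X₁) (h₂ : EtAcyc.IsLTorsion {ℓ} S.X₂) (h₃ : EtAcyc.IsLTorsion {ℓ} S.X₃)
    (q : ℕ) (hq : n ≤ q)
    (hv₁ : Subsingleton (EtCoh.H Y ((EtCoh.push (Y.fromSpecResidueField y)).obj S.X₁) (q + 1)))
    (hv₃ : Subsingleton (EtCoh.H Y ((EtCoh.push (Y.fromSpecResidueField y)).obj S.X₃) (q + 1))) :
    Subsingleton (EtCoh.H Y ((EtCoh.push (Y.fromSpecResidueField y)).obj S.X₂) (q + 1)) := by
  haveI := noeth g
  let j := Y.fromSpecResidueField y
  haveI : QuasiCompact j := QuasiCompact.of_comp j (terminal.from Y)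
  haveI : PreservesLimitsOfSize.{0, 0} (EtCoh.push j) := (EtCoh.pullPushAdj j).rightAdjoint_preservesLimits
  haveI : PreservesFiniteLimits (EtCoh.push j) := PreservesLimitsOfSize.preservesFiniteLimits _
  haveI := hS.mono_f
  haveI : Mono ((EtCoh.push j).map S.f) := (EtCoh.push j).map_mono _
  let A : ShortComplex (EtCoh.Ab Y) :=
    ShortComplex.mk ((EtCoh.push j).map S.f) (cokernel.π _) (cokernel.condition _)
  have hA : A.ShortExact :=
    { exact := ShortComplex.exact_cokernel _, mono_f := inferInstanceAs (Mono ((EtCoh.push j).map S.f)) }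
  let m : A.X₃ ⟶ (EtCoh.push j).obj S.X₃ :=
    cokernel.desc ((EtCoh.push j).map S.f) ((EtCoh.push j).map S.g) (S.map (EtCoh.push j)).zero
  haveI : Mono m :=
    (hS.exact.map_of_mono_of_preservesKernel (EtCoh.push j) hS.mono_f inferInstance).mono_cokernelDesc
  have t1 := (EtDimVanD.torsionClass {ℓ}).push j h₁
  have t2 := (EtDimVanD.torsionClass {ℓ}).push j h₂
  have t3 := (EtDimVanD.torsionClass {ℓ}).push j h₃
  refine EtDimVanA.subsingleton_H_mid hA (q + 1) hv₁ ((level_iff hn g m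
    ((EtDimVanD.torsionClass {ℓ}).coker _ t1 t2) t3 (fun z hz => ?_) (fun z hz => ?_) q hq).2 hv₃)
  · exfalso
    exact (EtDimVanA.mem_supp z).1 hz ((EtCoh.stalk (geomPointAt Y z)).map_isZero
      (isZero_kernel_of_mono m))
  · have hz' := supp_coker_push y hS
      (supp_subset_of_coker (cokernel.π _) m ((EtCoh.push j).map S.g) (cokernel.π_desc _ _ _) hz)
    exact lt_of_lt_of_le (psi_lt hmono g (specializes_iff_mem_closure.2 hz'.1) (Ne.symm hz'.2)) hψ

variable (h2 : ∀ (Y : Scheme.{u}) (g : Y ⟶ X) [AlgebraicGeometry.IsIntegral Y] [IsFinite g] (q : ℕ), φ Y g < q →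
  Subsingleton (EtCoh.H Y (EtCoh.const Y (ZMod ℓ)) q))

include h2

/-- The constant sheaf at the generic point. -/
theorem const_generic {n : ℕ} (hn : Level ℓ φ n) {Z : Scheme.{u}} [AlgebraicGeometry.IsIntegral Z] (g : Z ⟶ X)
    [IsFinite g] (hψ : ψ φ g (genericPoint Z) ≤ n) (q : ℕ) (hq : n ≤ q) :
    Subsingleton (EtCoh.H Z ((EtCoh.push (Z.fromSpecResidueField (genericPoint Z))).obj
      (EtCoh.const (Spec (Z.residueField (genericPoint Z))) (ZMod ℓ))) (q + 1)) := by
  haveI := noeth g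
  let η := genericPoint Z
  let j := Z.fromSpecResidueField η
  let G := EtCoh.const Z (ZMod ℓ)
  have hsmall : ∀ z : Z, z ≠ η → ψ φ g z < n := fun z hz =>
    lt_of_lt_of_le (psi_lt hmono g (genericPoint_specializes z) (Ne.symm hz)) hψ
  have h := (level_iff hn g ((EtCoh.pullPushAdj j).unit.app G) (lTorsion_const Z)
    ((EtDimVanD.torsionClass {ℓ}).push j ((EtDimVanD.torsionClass {ℓ}).pull j (lTorsion_const Z)))
    (fun z hz => hsmall z fun e => (supp_unit_point η G).1 (Set.mem_of_eq_of_mem e.symm hz))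
    (fun z hz => hsmall z fun e => (supp_unit_point η G).2 (Set.mem_of_eq_of_mem e.symm hz)) q hq).1
    (h2 Z g _ (by have := psi_generic hmono g; omega))
  exact EtDimVanA.subsingleton_H_of_iso ((EtCoh.push j).mapIso ((EtCore.pullConstIso j).app _)) _ h

/-- The constant sheaf at a point. -/
theorem const_point {n : ℕ} (hn : Level ℓ φ n) {Y : Scheme.{u}} (g : Y ⟶ X) [IsFinite g] (y : Y)
    (hψ : ψ φ g y ≤ n) (q : ℕ) (hq : n ≤ q) :
    Subsingleton (EtCoh.H Y ((EtCoh.push (Y.fromSpecResidueField y)).obj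
      (EtCoh.const (Spec (Y.residueField y)) (ZMod ℓ))) (q + 1)) := by
  haveI := noeth g
  obtain ⟨Z, c, hc, hZ, η, hη, rfl, hle⟩ : ∃ (Z : Scheme.{u}) (c : Z ⟶ Y) (_ : IsClosedImmersion c)
      (_ : AlgebraicGeometry.IsIntegral Z) (η : Z) (_ : η = genericPoint Z),
      y = c η ∧ φ Z (c ≫ g) = ψ φ g y :=
    ⟨pc y, pcι y, inferInstance, inferInstance, _, rfl, (pcι_genericPoint y).symm, rfl⟩
  subst hη
  have hψ' : ψ φ (c ≫ g) (genericPoint Z) ≤ n := (psi_le hmono c g _).trans hψ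
  let j := Z.fromSpecResidueField (genericPoint Z)
  let k := Y.fromSpecResidueField (c (genericPoint Z))
  let e := Spec.map (c.residueFieldMap (genericPoint Z))
  have w : j ≫ c = e ≫ k := (c.SpecMap_residueFieldMap_fromSpecResidueField _).symm
  haveI : IsIso (c.residueFieldMap (genericPoint Z)) := (ConcreteCategory.isIso_iff_bijective _).2
    ⟨(c.residueFieldMap (genericPoint Z)).hom.injective, fun z => by
      obtain ⟨a, rfl⟩ := IsLocalRing.residue_surjective (R := Z.presheaf.stalk (genericPoint Z)) z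
      obtain ⟨b, rfl⟩ := c.stalkMap_surjective (genericPoint Z) a
      exact ⟨IsLocalRing.residue _ b, rfl⟩⟩
  haveI : IsIso e := inferInstance
  let C := AddCommGrpCat.of (ULift.{u + 1} (ZMod ℓ))
  have hu : IsIso ((EtCoh.pullPushAdj e).unit.app (EtCoh.const (Spec (Y.residueField (c (genericPoint Z)))) (ZMod ℓ))) :=
    isIso_unit_of_supp e _ (by rw [Set.range_eq_univ.2 e.surjective]; exact Set.subset_univ _)
  let i : (EtCoh.push k).obj (EtCoh.const (Spec (Y.residueField (c (genericPoint Z)))) (ZMod ℓ)) ≅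
      (EtCoh.push c).obj ((EtCoh.push j).obj (EtCoh.const (Spec (Z.residueField (genericPoint Z))) (ZMod ℓ))) :=
    (EtCoh.push k).mapIso (@asIso _ _ _ _ _ hu ≪≫
        (EtCoh.push e).mapIso ((EtCore.pullConstIso e).app C)) ≪≫
      (EtCoh.pushComp k e).app _ ≪≫ (EtCoh.pushCongr w.symm).app _ ≪≫ ((EtCoh.pushComp c j).app _).symm
  exact EtDimVanA.subsingleton_H_of_iso i.symm _
    (subsingleton_push c _ _ (const_generic hmono h2 hn (c ≫ g) hψ' q hq))

set_option maxHeartbeats 1000000 in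
/-- Sheaves with finite stalk at a point. -/
theorem fin_point {n : ℕ} (hn : Level ℓ φ n) : ∀ (c : ℕ) {Y : Scheme.{u}} (g : Y ⟶ X) [IsFinite g] (y : Y),
    ψ φ g y ≤ n → ∀ (F : EtCoh.Ab (Spec (CommRingCat.of (Y.residueField y)))), FinStalk F c →
      EtAcyc.IsLTorsion {ℓ} F → ∀ q, n ≤ q →
        Subsingleton (EtCoh.H Y ((EtCoh.push (Y.fromSpecResidueField y)).obj F) (q + 1)) := by
  intro c
  induction c using Nat.strong_induction_on with
  | _ c ih =>
  intro Y g _ y hψ F hF hFt q hq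
  haveI := noeth g
  let K := Y.residueField y
  let j : Spec (CommRingCat.of K) ⟶ Y := Y.fromSpecResidueField y
  have hp : ℓ.Prime := hℓ.out
  haveI := hF.1
  by_cases htriv : Subsingleton ((EtCoh.stalk (pt K)).obj F)
  · refine EtDimVanA.subsingleton_H_of_isZero ((EtCoh.push j).map_isZero ?_) _
    refine (isZero_iff_stalk F).2 fun Ω _ _ ξ => ?_
    obtain ⟨e⟩ := nonempty_stalk_iso ξ F
    exact @AddCommGrpCat.isZero_of_subsingleton _ e.addCommGroupIsoToAddEquiv.toEquiv.subsingleton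
  · obtain ⟨e₀, he₀⟩ : ∃ e₀ : (EtCoh.stalk (pt K)).obj F, e₀ ≠ 0 := by
      by_contra! h
      exact htriv (subsingleton_of_forall_eq 0 h)
    -- an element of order `ℓ`
    obtain ⟨m, hm, hm0⟩ := EtDimVanD.stalk_lTorsion hFt (pt K) e₀
    obtain ⟨k, rfl⟩ := (EtDimVanD.primesIn_singleton_iff hp m).1 hm
    obtain ⟨r, -, hr⟩ := (Nat.dvd_prime_pow hp).1 (addOrderOf_dvd_of_nsmul_eq_zero hm0)
    have hr0 : r ≠ 0 := fun h => he₀ (AddMonoid.addOrderOf_eq_one_iff.1 (by rw [hr, h, pow_zero]))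
    have hdvd : ℓ ∣ Nat.card ((EtCoh.stalk (pt K)).obj F) :=
      ((dvd_pow_self ℓ hr0).trans (dvd_of_eq hr.symm)).trans (addOrderOf_dvd_natCard e₀)
    obtain ⟨e, he⟩ := exists_prime_addOrderOf_dvd_card' ℓ hdvd
    obtain ⟨U, x₀, t, rfl⟩ := exists_germ_eq (pt K) F e
    have hpt : germ (pt K) F U x₀ (ℓ • t) = germ (pt K) F U x₀ 0 := by
      rw [map_nsmul, map_zero, ← he, addOrderOf_nsmul_eq_zero]
    obtain ⟨V, g₁, y₁, hy₁, hV⟩ := (germ_eq_iff (pt K) F U x₀ _ _).1 hpt
    obtain ⟨N, hN, hN', z, g', hz⟩ := exists_galois_nbhd V y₁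
    haveI : Algebra.IsSeparable K N := inferInstance
    let s := F.obj.map (g' ≫ g₁).op t
    have hs : s ≠ 0 := fun h => by
      have h1 : germ (pt K) F (fld K N) z s = germ (pt K) F U x₀ t := by
        show germ (pt K) F (fld K N) z (F.obj.map (g' ≫ g₁).op t) = _
        rw [germ_res, ← EtTransfer.fiber_map_map, hz, hy₁]
      rw [h, map_zero] at h1
      rw [← h1, addOrderOf_zero] at he
      exact hp.one_lt.ne he
    have hps : ℓ • s = 0 := by
      show ℓ • F.obj.map (g' ≫ g₁).op t = 0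
      rw [op_comp, Functor.map_comp, ConcreteCategory.comp_apply, ← map_nsmul, ← map_nsmul, hV, map_zero, map_zero]
    let P : Sylow ℓ (N ≃ₐ[K] N) := default
    let P' : Subgroup (N ≃ₐ[K] N) := P
    obtain ⟨u, hu, hpu, hfix⟩ := exists_fixed F (pt K) hF.1 z s hs hps P
    let M : IntermediateField K N := IntermediateField.fixedField P'
    haveI : Algebra.IsSeparable K M := Algebra.isSeparable_tower_bot_of_isSeparable K M N
    haveI : Algebra.IsSeparable M N := Algebra.isSeparable_tower_top_of_isSeparable K M N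
    obtain ⟨v, rfl⟩ := exists_sect_of_fixed F M u fun σ hσ => hfix σ (by
      rwa [IntermediateField.fixingSubgroup_fixedField] at hσ)
    have hdeg : ¬ ℓ ∣ Module.finrank K M := by
      obtain ⟨a, ha⟩ := IsPGroup.iff_card.1 P.2
      have h1 := Module.finrank_mul_finrank K M N
      rw [IntermediateField.finrank_fixedField_eq_card P', ha, ← IsGalois.card_aut_eq_finrank K N,
        Subgroup.card_eq_card_quotient_mul_card_subgroup P', ha] at h1
      rw [Nat.eq_of_mul_eq_mul_right (pow_pos hp.pos a) h1]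
      exact P.not_dvd_index
    have hv : v ≠ 0 := fun h => hu (by rw [h, map_zero])
    have hpv : ℓ • v = 0 := by
      refine F.property.isSeparated _ _ (Covers.singleton_mem (fldMap M.val) fun a =>
        ⟨(⟨⊥, Ideal.isPrime_bot⟩ : PrimeSpectrum N), Subsingleton.elim (α := PrimeSpectrum M) _ _⟩) _ _ ?_
      rintro W g'' ⟨_, d, _, ⟨⟩, rfl⟩
      simp only [op_comp, Functor.map_comp, ConcreteCategory.comp_apply, map_nsmul, map_zero]
      rw [← map_nsmul, hpu, map_zero]
    -- over `M`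
    let f : Spec (CommRingCat.of M) ⟶ Spec (CommRingCat.of K) := (fld K M).hom
    haveI : Etale f := (fld K M).prop
    obtain ⟨φ', rfl⟩ := (Flasque.freeSec_bijective (fld K M) F).2 v
    have hφ : φ' ≠ 0 := fun h => hv (by rw [h]; exact freeSec_zero _ _)
    have hpφ : ℓ • φ' = 0 := (Flasque.freeSec_bijective (fld K M) F).1 (by
      rw [freeSec_zero, ← hpv]
      have : ℓ • φ' = φ' ≫ (ℓ • 𝟙 F) := by rw [Preadditive.comp_nsmul, Category.comp_id]
      rw [this, Flasque.freeSec_comp]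
      exact EtNsmul.nsmul_id_app F ℓ _ _)
    haveI : (EtShriek.extZero f).Additive := (EtSupp.extPullAdj f).left_adjoint_additive
    let ψ' : EtCoh.const (Spec (CommRingCat.of M)) ℤ ⟶ (EtCoh.pull f).obj F :=
      (EtSupp.extPullAdj f).homAddEquiv _ _ φ'
    have hw : Flasque.evTop _ ψ' ≠ 0 := fun h => hφ (((EtSupp.extPullAdj f).homAddEquiv _ _).injective (by
      refine (Flasque.evTop_bijective _).1 ?_
      rw [map_zero, evTop_zero]
      exact h))
    have hpw : ℓ • Flasque.evTop _ ψ' = 0 := by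
      refine (EtNsmul.nsmul_id_app _ ℓ _ _).symm.trans ((Flasque.evTop_comp ψ' _).symm.trans ?_)
      rw [Preadditive.comp_nsmul, Category.comp_id]
      show Flasque.evTop _ (ℓ • ((EtSupp.extPullAdj f).homAddEquiv _ _ φ')) = 0
      rw [← map_nsmul, hpφ, map_zero]
      exact evTop_zero _
    -- the model
    obtain ⟨Y', h, _, y', θ, _, hy', hsq⟩ := exists_model (Y := Y) y M
    haveI := noeth (h ≫ g)
    let k' : Spec (CommRingCat.of M) ⟶ Y' := Spec.map θ ≫ Y'.fromSpecResidueField y'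
    have hψ' : ψ φ (h ≫ g) y' ≤ n := (psi_le hmono h g y').trans (le_of_eq_of_le (by rw [hy']) hψ)
    let T := Spec.map θ
    haveI : IsIso T := inferInstance
    have hFM : EtAcyc.IsLTorsion {ℓ} ((EtCoh.pull f).obj F) := (EtDimVanD.torsionClass {ℓ}).pull f hFt
    refine subsingleton_of_trace (Y := Y) K j M h k' hsq F ?_ (q + 1) ?_
    · refine isIso_of_stalk _ fun Ω _ _ ξ => ?_
      haveI := (hF.stalk ξ).1
      have hcop : (Nat.card ((EtCoh.stalk ξ).obj F)).Coprime (Module.finrank K M) := by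
        refine Nat.coprime_of_dvd' fun p hpp hpc hpd => ?_
        haveI := Fact.mk hpp
        obtain ⟨a, ha⟩ := exists_prime_addOrderOf_dvd_card' p hpc
        obtain ⟨m', hm', hm0'⟩ := EtDimVanD.stalk_lTorsion hFt ξ a
        obtain ⟨k₀, rfl⟩ := (EtDimVanD.primesIn_singleton_iff hp m').1 hm'
        have : p ∣ ℓ ^ k₀ := ha ▸ addOrderOf_dvd_of_nsmul_eq_zero hm0'
        rw [(Nat.prime_dvd_prime_iff_eq hpp hp).1 (hpp.dvd_of_dvd_pow this)] at hpd
        exact absurd hpd hdeg
      rw [ConcreteCategory.isIso_iff_bijective, Functor.map_nsmul, CategoryTheory.Functor.map_id]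
      let E : ((EtCoh.stalk ξ).obj F ⟶ (EtCoh.stalk ξ).obj F) →+ ((EtCoh.stalk ξ).obj F →+ (EtCoh.stalk ξ).obj F) :=
        AddMonoidHom.mk' (fun a => a.hom) fun a b => rfl
      show Function.Bijective (E ((Module.finrank K M) • 𝟙 _))
      rw [map_nsmul]
      exact (nsmulCoprime hcop).bijective
    -- a constant subsheaf over `M`
    obtain ⟨χ, hχ, hnt, -⟩ := exists_mono_const ((EtCoh.pull f).obj F) _ hw hpw
    let S : ShortComplex (EtCoh.Ab (Spec (CommRingCat.of M))) :=
      ShortComplex.mk χ (cokernel.π χ) (cokernel.condition χ)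
    have hS : S.ShortExact := by
      have : Mono S.f := hχ
      exact { exact := ShortComplex.exact_cokernel χ }
    have hFMs : FinStalk ((EtCoh.pull f).obj F) c := by
      let e := ((stalkPullIso f (pt M)).app F).addCommGroupIsoToAddEquiv
      haveI : Finite ((EtCoh.stalk (pt M ≫ f)).obj F) := (hF.stalk _).1
      exact ⟨Finite.of_equiv _ e.symm.toEquiv, (Nat.card_congr e.toEquiv).trans_le (hF.stalk _).2⟩
    let c' := Nat.card ((EtCoh.stalk (pt M)).obj S.X₃)
    haveI := hFMs.1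
    haveI : Epi S.g := hS.epi_g
    have hsurj : Function.Surjective ((EtCoh.stalk (pt M)).map S.g) := (epi_iff_stalk S.g).1 inferInstance _ _
    have hlt : c' < c := by
      refine lt_of_lt_of_le ?_ hFMs.2
      refine lt_of_le_of_ne (Nat.card_le_card_of_surjective _ hsurj) fun h => ?_
      have hb : Function.Injective ((EtCoh.stalk (pt M)).map S.g) :=
        ((Nat.bijective_iff_surjective_and_card _).2 ⟨hsurj, h.symm⟩).1
      obtain ⟨a, b, hab⟩ := hnt
      refine hab (((mono_iff_stalk χ).1 hχ _ (pt M)) (hb ?_))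
      have h0 : (EtCoh.stalk (pt M)).map S.f ≫ (EtCoh.stalk (pt M)).map S.g = 0 := by
        rw [← Functor.map_comp, S.zero, Functor.map_zero]
      exact (ConcreteCategory.congr_hom h0 a).trans (ConcreteCategory.congr_hom h0 b).symm
    -- transport to the residue field of the point of the model
    let R := Y'.residueField y'
    let j' : Spec (CommRingCat.of R) ⟶ Y' := Y'.fromSpecResidueField y'
    haveI : PreservesFiniteLimits (EtCoh.pull (inv T)) := EtaleSite.preservesFiniteLimits_pull _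
    haveI : (EtCoh.pull (inv T)).Additive := EtCdTr.additive_pull _
    let S' : ShortComplex (EtCoh.Ab (Spec (CommRingCat.of R))) := S.map (EtCoh.pull (inv T))
    have hS' : S'.ShortExact := hS.map_of_exact _
    have hS't : EtAcyc.IsLTorsion {ℓ} S'.X₃ :=
      (EtDimVanD.torsionClass {ℓ}).pull (inv T) ((EtDimVanD.torsionClass {ℓ}).coker χ (lTorsion_const _) hFM)
    have hQ : FinStalk S'.X₃ c' := by
      haveI : Finite ((EtCoh.stalk (pt M)).obj S.X₃) := Finite.of_surjective _ hsurj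
      let e := ((stalkPullIso (inv T) (pt R)).app S.X₃).addCommGroupIsoToAddEquiv
      have hQ₀ : FinStalk S.X₃ c' := ⟨inferInstance, le_rfl⟩
      haveI : Finite ((EtCoh.stalk (pt R ≫ inv T)).obj S.X₃) := (hQ₀.stalk _).1
      exact ⟨Finite.of_equiv _ e.symm.toEquiv, (Nat.card_congr e.toEquiv).trans_le (hQ₀.stalk _).2⟩
    have h3 : Subsingleton (EtCoh.H Y' ((EtCoh.push j').obj S'.X₃) (q + 1)) :=
      ih c' hlt (h ≫ g) y' hψ' _ hQ hS't q hq
    have h1 : Subsingleton (EtCoh.H Y' ((EtCoh.push j').obj S'.X₁) (q + 1)) :=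
      EtDimVanA.subsingleton_H_of_iso ((EtCoh.push j').mapIso ((EtCore.pullConstIso (inv T)).app _).symm) _
        (const_point hmono h2 hn (h ≫ g) y' hψ' q hq)
    have h2' : Subsingleton (EtCoh.H Y' ((EtCoh.push j').obj S'.X₂) (q + 1)) :=
      subsingleton_push_mid hmono hn (h ≫ g) y' hψ' hS'
        ((EtDimVanD.torsionClass {ℓ}).pull _ (lTorsion_const _))
        ((EtDimVanD.torsionClass {ℓ}).pull _ hFM) hS't q hq h1 h3
    -- back to `M`
    haveI : IsIso ((EtCoh.pullPushAdj (inv T)).unit.app ((EtCoh.pull f).obj F)) :=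
      isIso_unit_of_supp (inv T) _ (by rw [Set.range_eq_univ.2 (inv T).surjective]; exact Set.subset_univ _)
    let i₂ : (EtCoh.push k').obj ((EtCoh.pull f).obj F) ≅ (EtCoh.push j').obj S'.X₂ :=
      (EtCoh.push k').mapIso (asIso ((EtCoh.pullPushAdj (inv T)).unit.app _)) ≪≫
        (EtCoh.pushComp k' (inv T)).app _ ≪≫ (EtCoh.pushCongr (IsIso.inv_hom_id_assoc T j')).app _
    exact EtDimVanA.subsingleton_H_of_iso i₂.symm _ h2'

/-- Torsion sheaves at a point. -/
theorem point_vanish {n : ℕ} (hn : Level ℓ φ n) {Y : Scheme.{u}} (g : Y ⟶ X) [IsFinite g] (y : Y)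
    (hψ : ψ φ g y ≤ n) (F : EtCoh.Ab (Spec (CommRingCat.of (Y.residueField y))))
    (hF : EtAcyc.IsLTorsion {ℓ} F) (q : ℕ) (hq : n ≤ q) :
    Subsingleton (EtCoh.H Y ((EtCoh.push (Y.fromSpecResidueField y)).obj F) (q + 1)) := by
  haveI := noeth g
  let j : Spec (CommRingCat.of (Y.residueField y)) ⟶ Y := Y.fromSpecResidueField y
  have htors : EtCoh.IsTorsion F := fun U s x => by
    obtain ⟨V, g, m, hv, hm, hz⟩ := hF U s x
    exact ⟨V, g, hv, isOfFinAddOrder_iff_nsmul_eq_zero.2 ⟨m, hm.1, hz⟩⟩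
  obtain ⟨hc⟩ := EtFin.nonempty_isColimit htors
  haveI : QuasiCompact j := QuasiCompact.of_comp j (terminal.from Y)
  obtain ⟨hc'⟩ := nonempty_isColimit_push j hc
  obtain ⟨hs, -⟩ := EtColimBig.coh_colimit (q + 1) hc'
  refine subsingleton_of_forall_eq 0 fun x => ?_
  obtain ⟨B, w, rfl⟩ := hs x
  have htB : EtAcyc.IsLTorsion {ℓ} (sub B.1) := EtDimVanD.lTorsion_of_stalk fun Ω _ _ ξ p => by
    obtain ⟨m, hm, hz⟩ := EtDimVanD.stalk_lTorsion hF ξ ((EtCoh.stalk ξ).map (subι B.1) p)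
    exact ⟨m, hm, (mono_iff_stalk (subι B.1)).1 (inferInstanceAs (Mono (kernel.ι _))) Ω ξ
      (by rw [map_nsmul, hz, map_zero])⟩
  rw [@Subsingleton.elim _ (fin_point hmono h2 hn _ g y hψ _ (finStalk_sub B) htB q hq) w 0]
  exact map_zero _

set_option maxHeartbeats 1000000 in
/-- The inductive step. -/
theorem level_succ {n : ℕ} (hn : Level ℓ φ n) : Level ℓ φ (n + 1) := by
  classical
  intro Y g _ F hF hsupp q hq
  haveI := noeth g
  obtain ⟨q, rfl⟩ : ∃ q', q = q' + 1 := ⟨q - 1, by omega⟩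
  have hq' : n ≤ q := by omega
  refine EtDimVanC.subsingleton_of_stages F (q + 1) fun T => ?_
  suffices key : ∀ (s : Finset Y) (G : EtCoh.Ab Y), EtAcyc.IsLTorsion {ℓ} G →
      (∀ z ∈ EtPBC.supp G, ψ φ g z ≤ n) → (∀ z ∈ EtPBC.supp G, ψ φ g z = n → z ∈ s) →
      Subsingleton (EtCoh.H Y G (q + 1)) by
    have hcl : ∀ z ∈ EtDimVanC.cl F T, ∃ t : ↥(EtPBC.supp F), ULift.up t ∈ T ∧ (t : Y) ⤳ z := fun z hz => by
      rw [EtDimVanC.cl, ← Set.biUnion_of_singleton ((fun t => (t.down : Y)) ''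
        (T : Set (ULift.{u + 1} ↥(EtPBC.supp F)))), (T.finite_toSet.image _).closure_biUnion] at hz
      obtain ⟨_, ⟨t, ht, rfl⟩, hz⟩ := Set.mem_iUnion₂.1 hz
      exact ⟨t.down, ht, specializes_iff_mem_closure.2 hz⟩
    have hle : ∀ t : ↥(EtPBC.supp F), ψ φ g t ≤ n := fun t => Nat.lt_succ_iff.1 (hsupp t t.2)
    refine key (T.image fun t => (t.down : Y)) _ ((EtDimVanD.torsionClass {ℓ}).resIn _ hF) (fun z hz => ?_)
      fun z hz hzn => ?_
    · exact Nat.lt_succ_iff.1 (hsupp z (EtDimVanC.supp_subset_of_mono (PunctLib.resInι _ F) hz))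
    · obtain ⟨t, ht, htz⟩ := hcl z (EtDimVanC.supp_resIn_subset _ _ hz)
      rcases eq_or_ne (t : Y) z with rfl | hne
      · exact Finset.mem_image.2 ⟨_, ht, rfl⟩
      · exact absurd hzn ((psi_lt hmono g htz hne).trans_le (hle t)).ne
  intro s
  induction s using Finset.induction_on with
  | empty =>
    intro G hG hle hs
    exact hn Y g G hG (fun z hz => lt_of_le_of_ne (hle z hz) fun e => Finset.notMem_empty z (hs z hz e)) _ (by omega)
  | insert ξ s hξs ih =>
    intro G hG hle hs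
    by_cases hξ : ξ ∈ EtPBC.supp G ∧ ψ φ g ξ = n
    swap
    · exact ih G hG hle fun z hz e => (Finset.mem_insert.1 (hs z hz e)).resolve_left (by rintro rfl; exact hξ ⟨hz, e⟩)
    let j := Y.fromSpecResidueField ξ
    let η := (EtCoh.pullPushAdj j).unit.app G
    haveI : QuasiCompact j := QuasiCompact.of_comp j (terminal.from Y)
    have hM := (EtDimVanD.torsionClass {ℓ}).pull j hG
    have hJt := (EtDimVanD.torsionClass {ℓ}).push j hM
    obtain ⟨hu1, hu2⟩ := supp_unit_point ξ G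
    let T₂ : ShortComplex (EtCoh.Ab Y) := ShortComplex.mk (Abelian.image.ι η) (cokernel.π η) (kernel.condition _)
    have hT₂ : T₂.ShortExact :=
      { exact := ShortComplex.exact_of_f_is_kernel _ (kernelIsKernel (cokernel.π η)) }
    have hk : kernel.ι η ≫ Abelian.factorThruImage η = 0 := by
      rw [← cancel_mono (Abelian.image.ι η), Category.assoc, Abelian.image.fac, kernel.condition, zero_comp]
    let T₁ : ShortComplex (EtCoh.Ab Y) := ShortComplex.mk (kernel.ι η) (Abelian.factorThruImage η) hk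
    haveI : Epi T₁.g := inferInstanceAs (Epi (Abelian.factorThruImage η))
    have hT₁ : T₁.ShortExact :=
      { exact := ShortComplex.exact_of_f_is_kernel _
          (Limits.isKernelOfComp (f := Abelian.factorThruImage η) (Abelian.image.ι η) η (kernelIsKernel η) hk
            (Abelian.image.fac η)) }
    have hsub := EtDimVanC.supp_subset_of_mono (kernel.ι η)
    have hK : Subsingleton (EtCoh.H Y (kernel η) (q + 1)) :=
      ih _ ((EtDimVanD.torsionClass {ℓ}).ker η hG hJt) (fun z hz => hle z (hsub hz)) fun z hz e =>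
        (Finset.mem_insert.1 (hs z (hsub hz) e)).resolve_left (by rintro rfl; exact hu1 hz)
    have hC : Subsingleton (EtCoh.H Y (cokernel η) q) :=
      hn Y g _ ((EtDimVanD.torsionClass {ℓ}).coker η hG hJt) (fun z hz => by
        have hz' := supp_push_subset ξ _ (supp_coker_subset η hz)
        exact (psi_lt hmono g (specializes_iff_mem_closure.2 hz') fun e => hu2 (Set.mem_of_eq_of_mem e hz)).trans_le hξ.2.le) _ hq'
    have hJ := point_vanish hmono h2 hn g ξ hξ.2.le _ hM q hq'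
    exact EtDimVanA.subsingleton_H_mid hT₁ _ hK (EtDimVanA.subsingleton_H_left hT₂ q hC hJ)

/-- Vanishing above the function on the support. -/
theorem vanishing {Y : Scheme.{u}} (g : Y ⟶ X) [IsFinite g] (F : EtCoh.Ab Y) (hF : EtAcyc.IsLTorsion {ℓ} F) (q : ℕ)
    (hq : ∀ y ∈ EtPBC.supp F, ψ φ g y < q) : Subsingleton (EtCoh.H Y F q) := by
  have key : ∀ n, Level ℓ φ n := fun n => by
    induction n with
    | zero => exact level_zero
    | succ n ih => exact level_succ hmono h2 ih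
  exact key q Y g F hF hq q le_rfl

end Groth.Agent.EtConsAb.DevFin
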