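/-
Torsion sheaves as unions of images of generators, and descending induction on the degree.
-/
import Groth.Agent.EtConsAb.DevFin
import Groth.Agent.EtConsAb.Colim

set_option autoImplicit false
set_option linter.style.haveILetI false
set_option backward.isDefEq.respectTransparency false

universe u

open CategoryTheory CategoryTheory.Limits AlgebraicGeometry Opposite

noncomputable section

namespace Groth.Agent.EtConsAb.CdQc

open Groth.Agent Groth.Agent.EtaleSite Groth.Agent.GalCohAux Groth.Agent.EtConsAb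
  Groth.Agent.GalCohAux.EtDimVanA

attribute [-instance] EtFin.instUniqueCarrierCarrierCommRingCatSpecOf_groth

variable {X : Scheme.{u}}

/-- A finite sum of sheaves without cohomology has none. -/
theorem subsingleton_biproduct {κ : Type (u + 1)} [Fintype κ] (G₀ : κ → EtCoh.Ab X) (q : ℕ)
    (h₀ : ∀ i, Subsingleton (EtCoh.H X (G₀ i) q)) : Subsingleton (EtCoh.H X (⨁ G₀) q) := by
  let e₀ := Fintype.equivFin κ
  let G : Fin (Fintype.card κ) → EtCoh.Ab X := fun i => G₀ (e₀.symm i)
  have h : ∀ i, Subsingleton (EtCoh.H X (G i) q) := fun i => h₀ _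
  refine subsingleton_H_of_iso (biproduct.whiskerEquiv (f := G) (g := G₀) e₀.symm fun i => Iso.refl _) q ?_
  refine subsingleton_of_forall_eq 0 fun x => ?_
  rw [← Abelian.Ext.comp_mk₀_id x]
  let c : ((⨁ G) ⟶ (⨁ G)) →+ EtCoh.H X (⨁ G) q :=
    AddMonoidHom.mk' (fun φ => x.comp (Abelian.Ext.mk₀ φ) (add_zero q)) fun a b => by
      rw [Abelian.Ext.mk₀_add, Abelian.Ext.comp_add]
  show c (𝟙 (⨁ G)) = 0
  have ht : (∑ i, biproduct.π G i ≫ biproduct.ι G i) = 𝟙 (⨁ G) := biproduct.total
  rw [← ht, map_sum]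
  refine Finset.sum_eq_zero fun i _ => ?_
  show x.comp (Abelian.Ext.mk₀ (biproduct.π G i ≫ biproduct.ι G i)) (add_zero q) = 0
  rw [← Abelian.Ext.mk₀_comp_mk₀, ← Abelian.Ext.comp_assoc_of_second_deg_zero,
    @Subsingleton.elim _ (h i) (x.comp (Abelian.Ext.mk₀ (biproduct.π G i)) (add_zero q)) 0,
    Abelian.Ext.zero_comp]

variable {F : EtCoh.Ab X} (P : Gen F → Prop)

/-- Finite sets of generators in a class. -/
abbrev Idx : Type (u + 1) := Finset {g : Gen F // P g}

/-- The underlying set of generators. -/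
def und [DecidableEq (Gen F)] (S : Idx P) : Finset (Gen F) := S.image Subtype.val

variable [DecidableEq (Gen F)]

/-- The subsheaf generated by a finite set of generators. -/
abbrev span (S : Idx P) : EtCoh.Ab X := Abelian.image (genπ (und P S))

/-- The inclusion between subsheaves generated by finite sets. -/
def spanMap {S S' : Idx P} (h : S ≤ S') : span P S ⟶ span P S' :=
  kernel.lift (cokernel.π (genπ (und P S'))) (Abelian.image.ι (genπ (und P S))) (by
    rw [← cancel_epi (Abelian.factorThruImage (genπ (und P S))), comp_zero, ← Category.assoc, Abelian.image.fac,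
      ← genIncl_π (show und P S ⊆ und P S' from Finset.image_subset_image h), Category.assoc, cokernel.condition,
      comp_zero])

@[reassoc]
theorem spanMap_ι {S S' : Idx P} (h : S ≤ S') :
    spanMap P h ≫ Abelian.image.ι (genπ (und P S')) = Abelian.image.ι (genπ (und P S)) :=
  kernel.lift_ι _ _ _

/-- The system of subsheaves generated by finite sets. -/
def spanDiagram : Idx P ⥤ EtCoh.Ab X where
  obj := span P
  map h := spanMap P (leOfHom h)
  map_id S := by
    rw [← cancel_mono (Abelian.image.ι (genπ (und P S))), spanMap_ι, Category.id_comp]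
  map_comp {S S' S''} h h' := by
    rw [← cancel_mono (Abelian.image.ι (genπ (und P S''))), spanMap_ι, Category.assoc, spanMap_ι, spanMap_ι]

/-- The cocone of inclusions. -/
def spanCocone : Cocone (spanDiagram P) where
  pt := F
  ι :=
    { app := fun S => Abelian.image.ι (genπ (und P S))
      naturality := fun S S' h => (spanMap_ι P (leOfHom h)).trans (Category.comp_id _).symm }

/-- If a class of generators reaches all germs, cohomology vanishes as soon as it does on the spans. -/
theorem subsingleton_of_spans [CompactSpace X] [QuasiSeparatedSpace X]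
    (hcov : ∀ (Ω : Type u) [Field Ω] [IsSepClosed Ω] (ξ : Spec (CommRingCat.of Ω) ⟶ X)
      (t : ↑((EtCoh.stalk ξ).obj F)),
      ∃ (g : Gen F) (φ : (Scheme.pointSmallEtale ξ).fiber.obj g.U), P g ∧ germ ξ F g.U φ g.s = t)
    (q : ℕ) (h : ∀ S : Idx P, Subsingleton (EtCoh.H X (span P S) q)) : Subsingleton (EtCoh.H X F q) := by
  obtain ⟨hcol⟩ : Nonempty (IsColimit (spanCocone P)) := by
    refine nonempty_isColimit_of_stalk _ (fun Ω _ _ ξ t => ?_) fun Ω _ _ ξ S y hy => ⟨S, 𝟙 S, ?_⟩
    · obtain ⟨g, φ, hg, rfl⟩ := hcov Ω ξ t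
      obtain ⟨y, hy⟩ := germ_mem_range_genπ (und P {⟨g, hg⟩})
        ⟨g, Finset.mem_image.2 ⟨⟨g, hg⟩, Finset.mem_singleton_self _, rfl⟩⟩ ξ φ
      refine ⟨{⟨g, hg⟩}, (EtCoh.stalk ξ).map (Abelian.factorThruImage (genπ (und P {⟨g, hg⟩}))) y, ?_⟩
      show (EtCoh.stalk ξ).map (Abelian.image.ι _) _ = _
      rw [← ConcreteCategory.comp_apply, ← Functor.map_comp, Abelian.image.fac]
      exact hy
    · rw [CategoryTheory.Functor.map_id, CategoryTheory.Functor.map_id]
      exact ((mono_iff_stalk (Abelian.image.ι (genπ (und P S)))).1 inferInstance _ ξ) (hy.trans (map_zero _).symm)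
  obtain ⟨hs, -⟩ := EtColimBig.coh_colimit q hcol
  refine subsingleton_of_forall_eq 0 fun x => ?_
  obtain ⟨S, y, rfl⟩ := hs x
  rw [@Subsingleton.elim _ (h S) y 0, map_zero]

variable (p : ℕ)

/-- Vanishing of the cohomology of `p`-torsion sheaves in degree `q`. -/
def Van (X : Scheme.{u}) (q : ℕ) : Prop :=
  ∀ F : EtCoh.Ab X, EtAcyc.IsLTorsion {p} F → Subsingleton (EtCoh.H X F q)

variable [hp : Fact p.Prime]

theorem lTorsion_of_nsmul {G : EtCoh.Ab X} (m : ℕ) (h : p ^ m • 𝟙 G = 0) : EtAcyc.IsLTorsion {p} G :=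
  fun U s x => ⟨U, 𝟙 U, p ^ m, ⟨x, rfl⟩, (EtDimVanD.primesIn_singleton_iff hp.out _).2 ⟨m, rfl⟩,
    killedBy_of_nsmul h U _⟩

omit hp in
theorem nsmul_genSum {F : EtCoh.Ab X} (S : Finset (Gen F)) (n : ℕ) (hS : ∀ g ∈ S, g.n ∣ n) :
    n • 𝟙 (genSum S) = 0 := by
  refine biproduct.hom_ext' _ _ fun g => ?_
  obtain ⟨c, hc⟩ := hS g.1 g.2
  rw [Preadditive.comp_nsmul, Category.comp_id, comp_zero, ← Category.id_comp (biproduct.ι _ g),
    ← Preadditive.nsmul_comp, hc, mul_comm, mul_nsmul', nsmul_id_extZeroConst, nsmul_zero, zero_comp]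

/-- Descending step: if the generators have no cohomology in degree `q` and everything vanishes in
degree `q + 1`, everything vanishes in degree `q`. -/
theorem van_step [AlgebraicGeometry.IsNoetherian X] (q : ℕ)
    (hgen : ∀ U : X.Etale, IsAffine U.left → Subsingleton (EtCoh.H X (EtPBC.extZeroConst U (ZMod p)) q))
    (hsucc : Van p X (q + 1)) : Van p X q := by
  classical
  have hsum : ∀ {F : EtCoh.Ab X} (S : Finset (Gen F)) (m : ℕ), (∀ g ∈ S, g.n = p ^ m) →
      Subsingleton (EtCoh.H X (genSum S) q) → Subsingleton (EtCoh.H X (Abelian.image (genπ S)) q) :=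
    fun {F} S m hS hv => by
      let i : Abelian.image (genπ S) ⟶ F := Abelian.image.ι _
      let e := Abelian.factorThruImage (genπ S)
      let T : ShortComplex (EtCoh.Ab X) := ShortComplex.mk (kernel.ι e) e (kernel.condition e)
      have hT : T.ShortExact := { exact := ShortComplex.exact_of_f_is_kernel _ (kernelIsKernel e) }
      refine subsingleton_H_right hT q hv (hsucc _ (lTorsion_of_nsmul p m ?_))
      rw [← cancel_mono (kernel.ι e), Preadditive.nsmul_comp, Category.id_comp, zero_comp,
        ← Category.comp_id (kernel.ι e), ← Preadditive.comp_nsmul, nsmul_genSum S _ (fun g hg => (hS g hg).dvd),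
        comp_zero]
  -- sheaves killed by `p`
  have hone : ∀ G : EtCoh.Ab X, p • 𝟙 G = 0 → Subsingleton (EtCoh.H X G q) := fun G hG => by
    refine subsingleton_of_spans (fun g : Gen G => g.n = p) (fun Ω _ _ ξ t => ?_) q fun S => ?_
    · exact exists_gen_germ_killedBy hp.out.pos (killedBy_of_nsmul hG) ξ t
    · refine hsum _ 1 (fun g hg => ?_) (subsingleton_biproduct _ q fun g => ?_)
      · obtain ⟨⟨g, hg'⟩, -, rfl⟩ := Finset.mem_image.1 hg
        rw [pow_one]
        exact hg'
      · obtain ⟨⟨g₀, hg'⟩, -, he⟩ := Finset.mem_image.1 g.2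
        show Subsingleton (EtCoh.H X (EtPBC.extZeroConst g.1.U (ZMod g.1.n)) q)
        rw [← he, hg']
        exact hgen _ g₀.affine
  -- sheaves killed by a power of `p`
  have hpow : ∀ (m : ℕ) (G : EtCoh.Ab X), p ^ m • 𝟙 G = 0 → Subsingleton (EtCoh.H X G q) := by
    intro m
    induction m with
    | zero =>
      intro G hG
      exact subsingleton_H_of_isZero ((IsZero.iff_id_eq_zero G).2 (by simpa using hG)) q
    | succ m ih =>
      intro G hG
      let a : G ⟶ G := p • 𝟙 G
      let T₁ : ShortComplex (EtCoh.Ab X) := ShortComplex.mk (kernel.ι a) (Abelian.factorThruImage a) (by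
        rw [← cancel_mono (Abelian.image.ι a), Category.assoc, Abelian.image.fac, kernel.condition, zero_comp])
      haveI : Epi T₁.g := inferInstanceAs (Epi (Abelian.factorThruImage a))
      have hT₁ : T₁.ShortExact :=
        { exact := ShortComplex.exact_of_f_is_kernel _
            (Limits.isKernelOfComp (f := Abelian.factorThruImage a) (Abelian.image.ι a) a (kernelIsKernel a) T₁.zero
              (Abelian.image.fac a)) }
      refine subsingleton_H_mid hT₁ q (hone _ ?_) (ih _ ?_)
      · rw [← cancel_mono (kernel.ι a), Preadditive.nsmul_comp, Category.id_comp, zero_comp]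
        have h := kernel.condition a
        rwa [show a = p • 𝟙 G from rfl, Preadditive.comp_nsmul, Category.comp_id] at h
      · rw [← cancel_mono (Abelian.image.ι a), ← cancel_epi (Abelian.factorThruImage a), Preadditive.nsmul_comp,
          Category.id_comp, Preadditive.comp_nsmul, Abelian.image.fac, zero_comp, comp_zero]
        show p ^ m • p • 𝟙 G = 0
        rw [← mul_nsmul', ← pow_succ]
        exact hG
  -- all torsion sheaves
  intro F hF
  refine subsingleton_of_spans (fun g : Gen F => ∃ m, g.n = p ^ m) (fun Ω _ _ ξ t => ?_) q fun S => ?_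
  · obtain ⟨U, φ, s, rfl⟩ := exists_germ_eq ξ F t
    obtain ⟨V, g, n, ⟨v, hv⟩, hn, hs⟩ := hF U s (φ.left (default : Spec (CommRingCat.of Ω)))
    obtain ⟨k, rfl⟩ := (EtDimVanD.primesIn_singleton_iff hp.out n).1 hn
    obtain ⟨ψ, hψ⟩ := exists_fiber_lift g φ v hv
    obtain ⟨W, hW, hvW, -⟩ := exists_isAffineOpen_mem_and_subset
      (show ψ.left (default : Spec (CommRingCat.of Ω)) ∈ (⊤ : V.left.Opens) from trivial)
    haveI : Etale V.hom := V.prop
    obtain ⟨ψ', hψ'⟩ := exists_fiber_lift (pieceHom V W) ψ ⟨_, hvW⟩ rfl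
    refine ⟨⟨piece V W, p ^ k, pow_pos hp.out.pos k, hW, F.obj.map (pieceHom V W).op (F.obj.map g.op s),
      by rw [← map_nsmul, hs, map_zero]⟩, ψ', ⟨k, rfl⟩, ?_⟩
    show germ ξ F (piece V W) ψ' (F.obj.map (pieceHom V W).op (F.obj.map g.op s)) = _
    rw [germ_res, hψ', germ_res, hψ]
  · choose m hm using fun g : {g : Gen F // ∃ m, g.n = p ^ m} => g.2
    refine hpow (∑ g ∈ S, m g) _ ?_
    rw [← cancel_epi (Abelian.factorThruImage (genπ (und _ S))), Preadditive.comp_nsmul, Category.comp_id,
      comp_zero, ← Category.id_comp (Abelian.factorThruImage (genπ (und _ S))), ← Preadditive.nsmul_comp,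
      nsmul_genSum _ _ (fun g hg => ?_), zero_comp]
    obtain ⟨g', hg', rfl⟩ := Finset.mem_image.1 hg
    rw [hm g']
    exact pow_dvd_pow p (Finset.single_le_sum (fun _ _ => Nat.zero_le _) hg')

end Groth.Agent.EtConsAb.CdQc
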