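import Groth.Agent.EtConsAb.ProperDescent
import Groth.Agent.EtConsAb.Strata
import Groth.Agent.EtaleSite.Recollement
import Groth.Agent.EtaleStrat.Main

/-!
# Constructible sheaves are filtered by extensions by zero of finite locally constant sheaves
-/

set_option linter.style.haveILetI false

universe u

open CategoryTheory CategoryTheory.Limits AlgebraicGeometry Opposite Topology

noncomputable section

namespace Groth.Agent.EtConsAb

open Groth.Agent Groth.Agent.EtaleSite

variable {X : Scheme.{u}}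

/-- A step of the filtration. -/
def IsStep {A B : EtCoh.Ab X} (ι : A ⟶ B) : Prop :=
  ∃ (U W : Scheme.{u}) (j : U ⟶ X) (_ : IsOpenImmersion j) (c : W ⟶ U) (_ : IsClosedImmersion c)
    (G : EtCoh.Ab W) (π : B ⟶ (EtShriek.extZero j).obj ((EtCoh.push c).obj G)) (hz : ι ≫ π = 0),
    IsConstructible (Set.range (c ≫ j)) ∧ EtCoh.IsFiniteLocallyConstant G ∧
      (ShortComplex.mk ι π hz).ShortExact

theorem IsStep.of_iso {A A' B B' : EtCoh.Ab X} {ι : A ⟶ B} (h : IsStep ι) (a : A' ≅ A) (b : B' ≅ B) :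
    IsStep (a.hom ≫ ι ≫ b.inv) := by
  obtain ⟨U, W, j, hj, c, hc, G, π, hz, hcons, hG, hS⟩ := h
  refine ⟨U, W, j, hj, c, hc, G, b.hom ≫ π, by simp [hz], hcons, hG, ?_⟩
  exact @ShortComplex.shortExact_of_iso _ _ _ (ShortComplex.mk ι π hz) _
    (ShortComplex.isoMk a.symm b.symm (Iso.refl _) (by simp) (by simp)) hS

/-- A sheaf with a filtration of length `n` by steps. -/
inductive HasFilt : ℕ → EtCoh.Ab X → Prop
  | zero {G : EtCoh.Ab X} (h : IsZero G) : HasFilt 0 G
  | succ {n : ℕ} {G' G : EtCoh.Ab X} (ι : G' ⟶ G) (h : HasFilt n G') (hι : IsStep ι) : HasFilt (n + 1) G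

/-- A filtration as a finite sequence. -/
theorem HasFilt.exists_fin {n : ℕ} {G : EtCoh.Ab X} (h : HasFilt n G) :
    ∃ (E : Fin (n + 1) → EtCoh.Ab X) (ι : ∀ k : Fin n, E k.castSucc ⟶ E k.succ),
      IsZero (E 0) ∧ Nonempty (E (Fin.last n) ≅ G) ∧ ∀ k : Fin n, IsStep (ι k) := by
  induction h with
  | @zero G h => exact ⟨fun _ => G, fun k => k.elim0, h, ⟨Iso.refl _⟩, fun k => k.elim0⟩
  | @succ n G' G ι _ hι ih =>
    obtain ⟨E, e, h0, ⟨φ⟩, he⟩ := ih
    let E' : Fin (n + 1 + 1) → EtCoh.Ab X := Fin.snoc E G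
    have hE : ∀ k : Fin (n + 1), E' k.castSucc = E k := fun k => Fin.snoc_castSucc ..
    have hG : E' (Fin.last (n + 1)) = G := Fin.snoc_last ..
    have key : ∀ k : Fin (n + 1), ∃ f : E' k.castSucc ⟶ E' k.succ, IsStep f := by
      intro k
      induction k using Fin.lastCases with
      | last =>
        have hs : E' (Fin.last n).succ = G := by rw [Fin.succ_last]; exact hG
        exact ⟨_, hι.of_iso (eqToIso (hE _) ≪≫ φ) (eqToIso hs)⟩
      | cast i =>
        have hs : E' i.castSucc.succ = E i.succ := by rw [Fin.succ_castSucc]; exact hE _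
        exact ⟨_, (he i).of_iso (eqToIso (hE _)) (eqToIso hs)⟩
    choose f hf using key
    refine ⟨E', f, ?_, ⟨eqToIso hG⟩, hf⟩
    rw [show (0 : Fin (n + 1 + 1)) = (0 : Fin (n + 1)).castSucc from rfl, hE]
    exact h0

/-- Finite local constancy along an immersion with image inside a stratum. -/
theorem isFLC_pull_of_range_subset {S T : Scheme.{u}} (h : S ⟶ X) (g : T ⟶ X) [IsImmersion g]
    (hsub : Set.range h ⊆ Set.range g) {F : EtCoh.Ab X}
    (hF : EtCoh.IsFiniteLocallyConstant ((EtCoh.pull g).obj F)) :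
    EtCoh.IsFiniteLocallyConstant ((EtCoh.pull h).obj F) := by
  haveI : Surjective (pullback.fst h g) := ⟨fun o => by
    obtain ⟨t, ht⟩ := hsub ⟨o, rfl⟩
    obtain ⟨w, hw, -⟩ := Scheme.Pullback.exists_preimage_pullback o t ht.symm
    exact ⟨w, hw⟩⟩
  haveI : IsClosedImmersion (pullback.fst h g) := IsClosedImmersion.of_isPreimmersion _ (by
    rw [(pullback.fst h g).surjective.range_eq]; exact isClosed_univ)
  refine isFLC_of_pull_surjective_closed (pullback.fst h g) _ ?_
  exact isFLC_of_iso ((pullComp g (pullback.snd h g)).app F ≪≫ (pullCongr pullback.condition.symm).app F ≪≫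
    ((pullComp h (pullback.fst h g)).app F).symm) (isFLC_pull _ hF)

/-- A map which is bijective on stalks over the range of `h` becomes an isomorphism after pulling back. -/
theorem isIso_pull_of_stalk {S : Scheme.{u}} (h : S ⟶ X) {A B : EtCoh.Ab X} (a : A ⟶ B)
    (ha : ∀ (Ω : Type u) [Field Ω] [IsSepClosed Ω] (ξ : Spec (CommRingCat.of Ω) ⟶ X),
      ξ default ∈ Set.range h → IsIso ((EtCoh.stalk ξ).map a)) : IsIso ((EtCoh.pull h).map a) :=
  isIso_of_stalk _ fun Ω _ _ ξ =>
    (NatIso.isIso_map_iff (stalkPullIso h ξ) a).2 (ha Ω (ξ ≫ h) ⟨ξ default, (Scheme.Hom.comp_apply _ _ _).symm⟩)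

/-- A sheaf supported in an open `U`, with support in a closed part of it, is an extension by zero. -/
theorem exists_iso_extZero_push {U W : Scheme.{u}} (j : U ⟶ X) [IsOpenImmersion j] (c : W ⟶ U)
    [IsClosedImmersion c] {Q : EtCoh.Ab X}
    (hQ : ∀ (Ω : Type u) [Field Ω] [IsSepClosed Ω] (ξ : Spec (CommRingCat.of Ω) ⟶ X),
      ξ default ∉ Set.range (c ≫ j) → IsZero ((EtCoh.stalk ξ).obj Q)) :
    Nonempty (Q ≅ (EtShriek.extZero j).obj ((EtCoh.push c).obj ((EtCoh.pull (c ≫ j)).obj Q))) := by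
  haveI : IsIso ((EtShriek.extZeroAdj j).counit.app Q) := isIso_counit_extZero j Q fun Ω _ _ ξ hξ =>
    hQ Ω ξ fun ⟨w, hw⟩ => hξ ⟨c w, (Scheme.Hom.comp_apply _ _ _).symm.trans hw⟩
  let R := (EtCoh.pull j).obj Q
  haveI : IsIso ((EtCoh.pullPushAdj c).unit.app R) := isIso_of_stalk _ fun Ω _ _ ξ => by
    by_cases hξ : ξ default ∈ Set.range c
    · exact isIso_stalk_unit_push c R ξ hξ
    · have h0 : IsZero ((EtCoh.stalk ξ).obj R) := by
        refine IsZero.of_iso (hQ Ω (ξ ≫ j) fun ⟨w, hw⟩ => hξ ⟨w, j.isOpenEmbedding.injective ?_⟩)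
          ((stalkPullIso j ξ).app Q)
        rw [← Scheme.Hom.comp_apply, hw, Scheme.Hom.comp_apply]
      exact h0.isIso (isZero_stalk_push c ξ hξ _) _
  exact ⟨(asIso ((EtShriek.extZeroAdj j).counit.app Q)).symm ≪≫
    (EtShriek.extZero j).mapIso (((pullIsoRestrAlong j).app Q).symm ≪≫
      asIso ((EtCoh.pullPushAdj c).unit.app R) ≪≫ (EtCoh.push c).mapIso ((pullComp j c).app Q))⟩

/-- Constructible sheaves on quasi-compact quasi-separated schemes have finite filtrations whose
steps are extensions by zero of finite locally constant sheaves. -/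
theorem exists_filtration [CompactSpace X] [QuasiSeparatedSpace X] {F : EtCoh.Ab X}
    (hF : EtPBC.IsConstructible F) : ∃ n, HasFilt n F := by
  classical
  obtain ⟨ι, _, T, g, hg, hcons, hcov, hFg⟩ := strataCover_of_isConstructible hF
  choose D hDf hDo hDd using fun i => ConstrLib.exists_finite_determining (hcons i)
  haveI : Finite ↥(⋃ i, D i) := (Set.finite_iUnion hDf).to_subtype
  let A : Type u := ↥(⋃ i, D i)
  letI := Fintype.ofFinite A
  have ho : ∀ a : A, IsOpen a.1 ∧ IsRetrocompact a.1 := fun a => by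
    obtain ⟨i, hi⟩ := Set.mem_iUnion.1 a.2
    exact hDo i _ hi
  let N := Fintype.card A
  let cnt : X → ℕ := fun x => (Finset.univ.filter fun a : A => x ∈ a.1).card
  have hle : ∀ x, cnt x ≤ N := fun x => Finset.card_le_univ _
  let V : Finset A → X.Opens := fun s => ⟨⋂ a ∈ s, a.1, isOpen_biInter_finset fun a _ => (ho a).1⟩
  have hVc : ∀ s, IsConstructible (V s : Set X) := fun s => by
    rw [show (V s : Set X) = ⋂ a : s, a.1.1 by ext x; simp [V]]
    exact IsConstructible.iInter fun a : s => (ho a.1).2.isConstructible (ho a.1).1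
  let O : ℕ → X.Opens := fun k =>
    ⟨⋃ s ∈ {s : Finset A | N + 1 ≤ s.card + k}, (V s : Set X), isOpen_biUnion fun s _ => (V s).2⟩
  have hO : ∀ k x, x ∈ O k ↔ N + 1 ≤ cnt x + k := fun k x => by
    constructor
    · intro hx
      obtain ⟨s, hs, hxs⟩ := Set.mem_iUnion₂.1 hx
      have : s ⊆ Finset.univ.filter fun a : A => x ∈ a.1 := fun a ha =>
        Finset.mem_filter.2 ⟨Finset.mem_univ _, Set.mem_iInter₂.1 hxs a ha⟩
      exact hs.trans (Nat.add_le_add_right (Finset.card_le_card this) k)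
    · intro hx
      exact Set.mem_iUnion₂.2 ⟨_, hx, Set.mem_iInter₂.2 fun a ha => (Finset.mem_filter.1 ha).2⟩
  have hOc : ∀ k, IsConstructible (O k : Set X) := fun k => by
    rw [show (O k : Set X) = ⋃ s : {s : Finset A // N + 1 ≤ s.card + k}, (V s.1 : Set X) by
      ext x; simp [O]]
    exact IsConstructible.iUnion fun s => hVc _
  -- the levels
  let Z : ∀ k, TopologicalSpace.Closeds (O (k + 1)).toScheme := fun k =>
    ⟨Subtype.val ⁻¹' (O k : Set X)ᶜ, (O k).2.isClosed_compl.preimage continuous_subtype_val⟩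
  let W : ℕ → Scheme.{u} := fun k => (Scheme.IdealSheafData.vanishingIdeal (Z k)).subscheme
  let c : ∀ k, W k ⟶ (O (k + 1)).toScheme := fun k => (Scheme.IdealSheafData.vanishingIdeal (Z k)).subschemeι
  have hr : ∀ k, Set.range (c k ≫ (O (k + 1)).ι) = (O (k + 1) : Set X) ∩ (O k : Set X)ᶜ := fun k => by
    rw [show ⇑(c k ≫ (O (k + 1)).ι) = (O (k + 1)).ι ∘ c k from funext fun _ => Scheme.Hom.comp_apply _ _ _,
      Set.range_comp, Scheme.IdealSheafData.range_subschemeι, Scheme.IdealSheafData.coe_support_vanishingIdeal]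
    ext x
    constructor
    · rintro ⟨y, hy, rfl⟩
      exact ⟨y.2, hy⟩
    · rintro ⟨hx, hx'⟩
      exact ⟨⟨x, hx⟩, hx', rfl⟩
  have hlev : ∀ k, EtCoh.IsFiniteLocallyConstant ((EtCoh.pull (c k ≫ (O (k + 1)).ι)).obj F) := fun k => by
    let J := {s : Finset A // s.card + k = N}
    let P : J → (W k).Opens := fun s => (c k ≫ (O (k + 1)).ι) ⁻¹ᵁ V s.1
    have hp : ∀ w : W k, (Finset.univ.filter fun a : A => (c k ≫ (O (k + 1)).ι) w ∈ a.1).card + k = N := fun w => by
      obtain ⟨h1, h2⟩ := (hr k).le ⟨w, rfl⟩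
      have h1' : N + 1 ≤ cnt ((c k ≫ (O (k + 1)).ι) w) + (k + 1) := (hO _ _).1 h1
      have h2' : ¬ N + 1 ≤ cnt ((c k ≫ (O (k + 1)).ι) w) + k := fun h => h2 ((hO _ _).2 h)
      change cnt ((c k ≫ (O (k + 1)).ι) w) + k = N
      omega
    refine isFLC_of_openCover (fun s => (P s).ι) (Set.eq_univ_of_forall fun w => Set.mem_iUnion.2
      ⟨⟨_, hp w⟩, by
        rw [Scheme.Opens.range_ι]
        exact Set.mem_iInter₂.2 fun a ha => (Finset.mem_filter.1 ha).2⟩) _ fun s => ?_
    refine isFLC_of_iso ((pullComp (c k ≫ (O (k + 1)).ι) (P s).ι).app F).symm ?_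
    rcases isEmpty_or_nonempty ↥(P s : Scheme.{u}) with he | ⟨⟨w₀⟩⟩
    · exact isFLC_of_isTriv fun Ω _ _ ξ => isEmptyElim (ξ default)
    have key : ∀ w : (P s : Scheme.{u}), ∀ a : A, ((P s).ι ≫ c k ≫ (O (k + 1)).ι) w ∈ a.1 ↔ a ∈ s.1 := fun w a => by
      rw [Scheme.Hom.comp_apply]
      have hsub : s.1 ⊆ Finset.univ.filter fun a : A => (c k ≫ (O (k + 1)).ι) w.1 ∈ a.1 := fun b hb =>
        Finset.mem_filter.2 ⟨Finset.mem_univ _, Set.mem_iInter₂.1 w.2 b hb⟩
      have heq := Finset.eq_of_subset_of_card_le hsub (by have := hp w.1; have := s.2; omega)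
      rw [heq]
      simp
    obtain ⟨i, hi⟩ := Set.mem_iUnion.1 (hcov.ge (Set.mem_univ (((P s).ι ≫ c k ≫ (O (k + 1)).ι) w₀)))
    haveI := hg i
    refine isFLC_pull_of_range_subset _ (g i) ?_ (hFg i)
    rintro _ ⟨w, rfl⟩
    exact (hDd i _ _ fun d hd => (key w₀ ⟨d, Set.mem_iUnion.2 ⟨i, hd⟩⟩).trans
      (key w ⟨d, Set.mem_iUnion.2 ⟨i, hd⟩⟩).symm).1 hi
  suffices key : ∀ k (G : EtCoh.Ab X),
      (∀ l < k, EtCoh.IsFiniteLocallyConstant ((EtCoh.pull (c l ≫ (O (l + 1)).ι)).obj G)) →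
      (∀ (Ω : Type u) [Field Ω] [IsSepClosed Ω] (ξ : Spec (CommRingCat.of Ω) ⟶ X),
        ξ default ∉ O k → IsZero ((EtCoh.stalk ξ).obj G)) → HasFilt k G from
    ⟨N + 1, key _ F (fun l _ => hlev l) fun Ω _ _ ξ h => absurd ((hO _ _).2 (Nat.le_add_left _ _)) h⟩
  intro k
  induction k with
  | zero =>
    intro G _ hG
    exact .zero ((isZero_iff_stalk G).2 fun Ω _ _ ξ => hG Ω ξ fun h => by
      have := (hO 0 _).1 h
      have := hle (ξ default)
      omega)
  | succ k ih =>
    intro G hflc hG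
    let j := (O k).ι
    let i := (Scheme.IdealSheafData.vanishingIdeal
      (⟨(O k : Set X)ᶜ, (O k).2.isClosed_compl⟩ : TopologicalSpace.Closeds X)).subschemeι
    have hij : Set.range j = (Set.range i)ᶜ := by
      rw [Scheme.IdealSheafData.range_subschemeι, Scheme.IdealSheafData.coe_support_vanishingIdeal,
        Scheme.Opens.range_ι]
      exact (compl_compl _).symm
    obtain ⟨w, hS⟩ := exists_shortExact_recollement j i hij G
    let G' := (EtShriek.extZero j).obj ((EtShriek.restrAlong j).obj G)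
    let Q := (EtCoh.push i).obj ((EtCoh.pull i).obj G)
    let p : G ⟶ Q := (EtCoh.pullPushAdj i).unit.app G
    have hout : ∀ (Ω : Type u) [Field Ω] [IsSepClosed Ω] (ξ : Spec (CommRingCat.of Ω) ⟶ X),
        ξ default ∉ Set.range (c k ≫ (O (k + 1)).ι) → IsZero ((EtCoh.stalk ξ).obj Q) := fun Ω _ _ ξ hξ => by
      rw [hr] at hξ
      by_cases h : ξ default ∈ O k
      · exact isZero_stalk_push i ξ (hij.le (by rw [Scheme.Opens.range_ι]; exact h)) _
      · haveI : IsIso ((EtCoh.stalk ξ).map p) := isIso_stalk_unit_push i G ξ (by_contra fun hc =>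
          h (by have := hij.ge hc; rwa [Scheme.Opens.range_ι] at this))
        exact (hG Ω ξ fun h' => hξ ⟨h', h⟩).of_iso (asIso ((EtCoh.stalk ξ).map p)).symm
    obtain ⟨e⟩ := exists_iso_extZero_push (O (k + 1)).ι (c k) hout
    haveI : IsIso ((EtCoh.pull (c k ≫ (O (k + 1)).ι)).map p) := isIso_pull_of_stalk _ p fun Ω _ _ ξ hξ => by
      refine isIso_stalk_unit_push i G ξ (by_contra fun hc => ?_)
      rw [hr] at hξ
      have := hij.ge hc
      rw [Scheme.Opens.range_ι] at this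
      exact hξ.2 this
    have hQ : EtCoh.IsFiniteLocallyConstant ((EtCoh.pull (c k ≫ (O (k + 1)).ι)).obj Q) :=
      isFLC_of_iso (asIso ((EtCoh.pull (c k ≫ (O (k + 1)).ι)).map p)) (hflc k (Nat.lt_succ_self k))
    refine .succ ((EtShriek.extZeroAdj j).counit.app G) (ih G' (fun l hl => ?_) fun Ω _ _ ξ hξ =>
      EtSupp.isZero_stalk_extZero j _ ξ (by rw [Scheme.Opens.range_ι]; exact hξ))
      ⟨_, _, _, inferInstance, c k, inferInstance, _, p ≫ e.hom,
        (Category.assoc _ _ _).symm.trans ((congrArg (· ≫ e.hom) w).trans zero_comp),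
        (by rw [hr]; exact (hOc _).inter (isConstructible_compl.2 (hOc _))), hQ, ?_⟩
    · haveI : IsIso ((EtCoh.pull (c l ≫ (O (l + 1)).ι)).map ((EtShriek.extZeroAdj j).counit.app G)) :=
        isIso_pull_of_stalk _ _ fun Ω _ _ ξ hξ => isIso_stalk_counit_extZero j G ξ (by
          rw [hr] at hξ
          rw [Scheme.Opens.range_ι]
          have := (hO _ _).1 hξ.1
          exact (hO _ _).2 (by omega))
      exact isFLC_of_iso (asIso ((EtCoh.pull (c l ≫ (O (l + 1)).ι)).map
        ((EtShriek.extZeroAdj j).counit.app G))).symm (hflc l (hl.trans (Nat.lt_succ_self k)))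
    · exact @ShortComplex.shortExact_of_iso _ _ _ (ShortComplex.mk _ _ w) _
        (ShortComplex.isoMk (Iso.refl _) (Iso.refl _) e ((Category.id_comp _).trans (Category.comp_id _).symm)
          (Category.id_comp _)) hS

end Groth.Agent.EtConsAb
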