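import Groth.Agent.EtConsAb.Strata
import Groth.Agent.EtaleSite.ExtZeroStalk
import Groth.Agent.EtaleSite.Clopen
import Groth.Agent.EtaleStrat.Main

/-!
# Extension by zero of a finite locally constant sheaf along an étale morphism

Over a stratum where the étale morphism is finite it is finite locally constant.
-/

set_option linter.style.haveILetI false

universe u

open CategoryTheory CategoryTheory.Limits AlgebraicGeometry Opposite Topology

noncomputable section

namespace Groth.Agent.EtConsAb

open Groth.Agent Groth.Agent.EtaleSite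

variable {U X T : Scheme.{u}}

theorem eq_comp_of_mem_range {Q S : Scheme.{u}} {Ω : Type u} [Field Ω] (p : Q ⟶ S) [Etale p] (σ : S ⟶ Q)
    (h : σ ≫ p = 𝟙 S) (l : Spec (CommRingCat.of Ω) ⟶ Q) (hl : l default ∈ Set.range σ) :
    l = (l ≫ p) ≫ σ := by
  haveI := isOpenImmersion_of_section p σ h
  have hr : Set.range l ⊆ Set.range σ := by
    rintro _ ⟨a, rfl⟩
    rwa [Subsingleton.elim a default]
  have e : IsOpenImmersion.lift σ l hr ≫ σ = l := IsOpenImmersion.lift_fac σ l hr
  have e' : IsOpenImmersion.lift σ l hr = l ≫ p := by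
    have h2 := congrArg (· ≫ p) e
    simp only [Category.assoc, h, Category.comp_id] at h2
    exact h2
  rw [← e']
  exact e.symm

/-- Finitely many neighbourhoods have a common refinement. -/
theorem exists_refine_finset {Ω : Type u} [Field Ω] [IsSepClosed Ω] (ξ : Spec (CommRingCat.of Ω) ⟶ X)
    {L : Type*} (W : L → X.Etale) (w : ∀ u, (Scheme.pointSmallEtale ξ).fiber.obj (W u)) (S : Finset L) :
    ∃ (V : X.Etale) (φ : (Scheme.pointSmallEtale ξ).fiber.obj V),
      ∀ u ∈ S, ∃ r : V ⟶ W u, (Scheme.pointSmallEtale ξ).fiber.map r φ = w u := by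
  classical
  induction S using Finset.induction_on with
  | empty =>
    obtain ⟨φ, -⟩ := exists_fiber_point ξ (EtCoh.top X) (ξ default) rfl
    exact ⟨_, φ, fun u hu => absurd hu (Finset.notMem_empty u)⟩
  | @insert a S _ ih =>
    obtain ⟨V, φ, hV⟩ := ih
    obtain ⟨V', φ', p, q, hp, hq⟩ := exists_refine φ (w a)
    refine ⟨V', φ', fun u hu => ?_⟩
    rcases Finset.mem_insert.1 hu with rfl | hu
    · exact ⟨q, hq⟩
    · obtain ⟨r, hr⟩ := hV u hu
      exact ⟨p ≫ r, by rw [fiber_map_comp, hp, hr]⟩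

section Stalk

variable (j : U ⟶ X) [Etale j] [EtShriek.JCont j] (F : EtCoh.Ab U) {Ω : Type u} [Field Ω] [IsSepClosed Ω]
  (ξ : Spec (CommRingCat.of Ω) ⟶ X)

/-- A finite family of stalks indexed by the lifts of a geometric point gives the stalk of `j_! F`. -/
theorem bijective_of_lifts {ι : Type*} [Fintype ι] [DecidableEq ι] (β : ι → PtLift j ξ) (hβ : Function.Bijective β)
    (M : ι → Type (u + 1)) [∀ i, AddCommGroup (M i)] (e : ∀ i, M i ≃+ ↑((EtCoh.stalk (β i).1).obj F))
    (m : (Π i, M i) →+ ↑((EtCoh.stalk ξ).obj ((EtShriek.extZero j).obj F)))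
    (hm : ∀ i x, m (Pi.single i x) = stalkIncl j ξ F (β i) (e i x)) : Function.Bijective m := by
  classical
  refine ⟨?_, ?_⟩
  · rw [injective_iff_map_eq_zero]
    intro z hz
    funext i
    let c : ∀ v : PtLift j ξ, (EtCoh.stalk v.1).obj F ⟶ AddCommGrpCat.of (M i) := fun v =>
      if h : v = β i then eqToHom (by rw [h]) ≫ AddCommGrpCat.ofHom (e i).symm.toAddMonoidHom else 0
    let d := (isColimitStalkIncl j ξ F).desc (Cofan.mk _ c)
    have hd : ∀ v, stalkIncl j ξ F v ≫ d = c v := fun v => (isColimitStalkIncl j ξ F).fac (Cofan.mk _ c) ⟨v⟩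
    have hdm : d.hom.comp m = Pi.evalAddMonoidHom M i := by
      refine AddMonoidHom.functions_ext (M := M) _ _ _ fun k x => ?_
      rw [AddMonoidHom.comp_apply, hm]
      refine (congrArg (fun t => t (e k x)) (hd (β k))).trans ?_
      by_cases hk : k = i
      · subst hk
        simp [c]
      · simp [c, hβ.1.ne hk, Ne.symm hk]
    have := DFunLike.congr_fun hdm z
    rw [AddMonoidHom.comp_apply, hz, map_zero] at this
    exact this.symm
  · intro y
    let q : (EtCoh.stalk ξ).obj ((EtShriek.extZero j).obj F) ⟶ AddCommGrpCat.of (_ ⧸ m.range) :=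
      AddCommGrpCat.ofHom (QuotientAddGroup.mk' m.range)
    have hq : q = 0 := by
      refine (isColimitStalkIncl j ξ F).hom_ext fun ⟨v⟩ => ?_
      obtain ⟨i, rfl⟩ := hβ.2 v
      rw [comp_zero]
      ext x
      refine (QuotientAddGroup.eq_zero_iff _).2 ⟨Pi.single i ((e i).symm x), ?_⟩
      rw [hm, AddEquiv.apply_symm_apply]
      rfl
    exact (QuotientAddGroup.eq_zero_iff y).1 (congrArg (fun t => t y) hq)

end Stalk

/-- The lifts of a geometric point of a base over which `j` is finite form a finite set. -/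
theorem finite_ptLift (j : U ⟶ X) [Etale j] (g : T ⟶ X) [IsFinite (pullback.snd j g)] {Ω : Type u} [Field Ω]
    [IsSepClosed Ω] (η : Spec (CommRingCat.of Ω) ⟶ T) : Finite (PtLift j (η ≫ g)) := by
  haveI := EtaleStrat.isFinite_snd_of_fac j g η (η ≫ g) rfl
  let P := pullback j (η ≫ g)
  haveI : Finite P := by
    rw [← Set.finite_univ_iff]
    refine ((pullback.snd j (η ≫ g)).finite_preimage_singleton default).subset fun z _ => ?_
    exact Subsingleton.elim _ _
  let sec : PtLift j (η ≫ g) → (Spec (CommRingCat.of Ω) ⟶ P) := fun u =>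
    pullback.lift u.1 (𝟙 _) (u.2.trans (Category.id_comp _).symm)
  refine Finite.of_injective (fun u => sec u default) fun u v huv => ?_
  have h : sec u = sec v := section_ext (pullback.snd j (η ≫ g)) _ _
    (pullback.lift_snd _ _ _) (pullback.lift_snd _ _ _) default huv
  exact Subtype.ext (((pullback.lift_fst _ _ _).symm.trans (congrArg (· ≫ pullback.fst j (η ≫ g)) h)).trans
    (pullback.lift_fst _ _ _))

/-- `j_!` of a finite locally constant sheaf is finite locally constant over a base where `j` is finite. -/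
theorem isFLC_pull_extZero (j : U ⟶ X) [Etale j] [EtShriek.JCont j] (g : T ⟶ X)
    [IsFinite (pullback.snd j g)] (F : EtCoh.Ab U) (hF : EtCoh.IsFiniteLocallyConstant F) :
    EtCoh.IsFiniteLocallyConstant ((EtCoh.pull g).obj ((EtShriek.extZero j).obj F)) := by
  classical
  refine isFLC_of_isTriv fun Ω _ _ η => ?_
  haveI := finite_ptLift j g η
  cases nonempty_fintype (PtLift j (η ≫ g))
  let L := PtLift j (η ≫ g)
  choose W w M hMg hMf mu hmu using fun u : L => exists_isTriv hF u.1
  obtain ⟨V, φ, hV⟩ := exists_refine_finset (η ≫ g) (fun u : L => (EtShriek.compEtale j).obj (W u))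
    (fun u => upPt u (w u)) Finset.univ
  choose r hr using fun u : L => hV u (Finset.mem_univ u)
  haveI : Etale V.hom := V.prop
  let s : L → (V.left ⟶ U) := fun u => (r u).left ≫ (W u).hom
  have hs : ∀ u, s u ≫ j = V.hom := fun u =>
    (Category.assoc _ _ _).trans (MorphismProperty.Over.w (r u))
  let φl : Spec (CommRingCat.of Ω) ⟶ V.left := φ.left
  have hsφ : ∀ u : L, φl ≫ s u = u.1 := fun u => by
    have h1 : φl ≫ (r u).left = (upPt u (w u)).left := congrArg (fun t => t.left) (hr u)
    have h2 : (upPt u (w u)).left ≫ (W u).hom = u.1 := Over.w (show Over.mk u.1 ⟶ _ from w u)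
    exact (Category.assoc _ _ _).symm.trans ((congrArg (· ≫ (W u).hom) h1).trans h2)
  -- the base change to `T` and its tautological sections
  let Z : T.Etale := (EtCoh.bc g).obj V
  let pr : Z.left ⟶ V.left := pullback.fst V.hom g
  have hprq : Z.hom ≫ g = pr ≫ V.hom := pullback.condition.symm
  haveI := EtaleStrat.isFinite_snd_of_fac j g Z.hom (pr ≫ V.hom) hprq
  let p := pullback.snd j (pr ≫ V.hom)
  let σ : L → (Z.left ⟶ pullback j (pr ≫ V.hom)) := fun u =>
    pullback.lift (pr ≫ s u) (𝟙 _) (by rw [Category.assoc, hs, Category.id_comp])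
  have hσ : ∀ u, σ u ≫ p = 𝟙 _ := fun u => pullback.lift_snd _ _ _
  have hσo : ∀ u, IsOpen (Set.range (σ u)) := fun u =>
    haveI := isOpenImmersion_of_section p (σ u) (hσ u)
    (σ u).isOpenEmbedding.isOpen_range
  have hσc : ∀ u, IsClosed (Set.range (σ u)) := fun u => by
    haveI : IsClosedImmersion (σ u ≫ p) := by rw [hσ]; infer_instance
    haveI : IsClosedImmersion (σ u) := IsClosedImmersion.of_comp _ p
    exact (σ u).isClosedEmbedding.isClosed_range
  let B : Set Z.left := p '' (⋃ u, Set.range (σ u))ᶜ ∪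
    ⋃ (u : L) (v : L) (_ : u ≠ v), p '' (Set.range (σ u) ∩ Set.range (σ v))
  have hB : IsClosed B := (p.isClosedMap _ (isOpen_iUnion hσo).isClosed_compl).union
    (isClosed_iUnion_of_finite fun u => isClosed_iUnion_of_finite fun v =>
      isClosed_iUnion_of_finite fun _ => p.isClosedMap _ ((hσc u).inter (hσc v)))
  let φT := fiberBcEquiv g η V φ
  let φTl : Spec (CommRingCat.of Ω) ⟶ Z.left := φT.left
  have hφT : φTl ≫ pr = φl := pullback.lift_fst _ _ _
  have hz : φTl default ∉ B := by
    rintro (⟨q, hq, hqz⟩ | h)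
    · obtain ⟨l, hl, hlq⟩ := Scheme.exists_fac_of_etale_of_isSepClosed p φTl q hqz
      have hlift : (l ≫ pullback.fst j (pr ≫ V.hom)) ≫ j = η ≫ g := by
        rw [Category.assoc, pullback.condition, ← Category.assoc, hl, ← Category.assoc, hφT]
        exact Over.w φ
      let u : L := ⟨_, hlift⟩
      have hlu : l = φTl ≫ σ u := pullback.hom_ext
        (by
          rw [Category.assoc, pullback.lift_fst, ← Category.assoc, hφT, hsφ])
        (by rw [hl, Category.assoc, pullback.lift_snd, Category.comp_id])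
      refine hq (Set.mem_iUnion.2 ⟨u, φTl default, ?_⟩)
      rw [← Scheme.Hom.comp_apply, ← hlu]
      exact hlq
    · simp only [Set.mem_iUnion] at h
      obtain ⟨u, v, huv, q, ⟨⟨z, hzq⟩, hqv⟩, hqz⟩ := h
      have hzz : z = φTl default := by
        rw [← hqz, ← hzq]
        exact ((Scheme.Hom.comp_apply _ _ _).symm.trans (congrArg (fun t => t z) (hσ u))).symm
      have hin : (φTl ≫ σ u) default ∈ Set.range (σ v) := by
        rw [Scheme.Hom.comp_apply, ← hzz, hzq]
        exact hqv
      have he := eq_comp_of_mem_range p (σ v) (hσ v) _ hin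
      rw [Category.assoc φTl (σ u) p, hσ, Category.comp_id] at he
      have he' := congrArg (· ≫ pullback.fst j (pr ≫ V.hom)) he
      simp only [Category.assoc, σ, pullback.lift_fst] at he'
      rw [← Category.assoc, hφT, hsφ, ← Category.assoc, hφT, hsφ] at he'
      exact huv (Subtype.ext he')
  let O : Z.left.Opens := ⟨Bᶜ, hB.isOpen_compl⟩
  obtain ⟨ψ₀, -⟩ := exists_fiber_lift (pieceHom Z O) φT ⟨_, hz⟩ rfl
  let G := (EtShriek.extZero j).obj F
  let comp : ∀ u : L, M u →+ G.obj.obj (op V) := fun u =>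
    (G.obj.map (r u).op).hom.comp ((((EtShriek.extZeroAdj j).unit.app F).hom.app (op (W u))).hom.comp (mu u))
  let m : (Π u, M u) →+ G.obj.obj (op V) := ∑ u, (comp u).comp (Pi.evalAddMonoidHom M u)
  have hms : ∀ u x, m (Pi.single u x) = comp u x := fun u x => by
    simp only [m, AddMonoidHom.finsetSum_apply, AddMonoidHom.comp_apply, Pi.evalAddMonoidHom_apply]
    rw [Finset.sum_eq_single u (fun v _ hv => by rw [Pi.single_eq_of_ne hv, map_zero])
      (fun h => absurd (Finset.mem_univ u) h), Pi.single_eq_same]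
  refine ⟨piece Z O, ψ₀, Π u, M u, inferInstance, inferInstance,
    ((((EtCoh.pull g).obj G).obj.map (pieceHom Z O).op).hom.comp (pullSect g G V)).comp m,
    fun Ω' _ _ ζ ψ' => ?_⟩
  let ψZ := (Scheme.pointSmallEtale ζ).fiber.map (pieceHom Z O) ψ'
  let ψZl : Spec (CommRingCat.of Ω') ⟶ Z.left := ψZ.left
  let ψ := (fiberBcEquiv g ζ V).symm ψZ
  have hψ : fiberBcEquiv g ζ V ψ = ψZ := Equiv.apply_symm_apply _ _
  let ψl : Spec (CommRingCat.of Ω') ⟶ V.left := ψ.left
  have hψl : ψl = ψZl ≫ pr := rfl
  have hzO : ψZl default ∉ B := (ψ'.left (default : Spec (CommRingCat.of Ω'))).2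
  let tu := fun u : L => (Scheme.pointSmallEtale (ζ ≫ g)).fiber.map (r u) ψ
  let β : L → PtLift j (ζ ≫ g) := fun u => liftOf (tu u)
  have hβv : ∀ u, (β u).1 = ψl ≫ s u := fun u => Category.assoc _ _ _
  have hσψ : ∀ u, (ψZl ≫ σ u) ≫ pullback.fst j (pr ≫ V.hom) = (β u).1 := fun u => by
    rw [hβv, hψl, Category.assoc, pullback.lift_fst, Category.assoc]
  have hβ : Function.Bijective β := by
    refine ⟨fun u v huv => ?_, fun v => ?_⟩
    · by_contra hne
      apply hzO
      have he : ψZl ≫ σ u = ψZl ≫ σ v := pullback.hom_ext (by rw [hσψ, hσψ, huv]) (by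
        rw [Category.assoc, Category.assoc, hσ, hσ])
      refine Or.inr (Set.mem_iUnion.2 ⟨u, Set.mem_iUnion.2 ⟨v, Set.mem_iUnion.2 ⟨hne,
        (ψZl ≫ σ u) default, ⟨⟨ψZl default, (Scheme.Hom.comp_apply _ _ _).symm⟩,
          ⟨ψZl default, by rw [he, Scheme.Hom.comp_apply]⟩⟩, ?_⟩⟩⟩)
      rw [← Scheme.Hom.comp_apply, Category.assoc, hσ, Category.comp_id]
    · let l : Spec (CommRingCat.of Ω') ⟶ pullback j (pr ≫ V.hom) := pullback.lift v.1 ψZl (by
        rw [v.2, ← Category.assoc, ← hψl]
        exact (Over.w ψ).symm)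
      have hmem : l default ∈ ⋃ u, Set.range (σ u) := by
        by_contra hn
        refine hzO (Or.inl ⟨l default, hn, ?_⟩)
        rw [← Scheme.Hom.comp_apply, pullback.lift_snd]
      obtain ⟨u, hu⟩ := Set.mem_iUnion.1 hmem
      refine ⟨u, Subtype.ext ?_⟩
      have he := eq_comp_of_mem_range p (σ u) (hσ u) l hu
      rw [show l ≫ p = ψZl from pullback.lift_snd _ _ _] at he
      rw [← hσψ, ← he, pullback.lift_fst]
  have key : Function.Bijective fun x => germ (ζ ≫ g) G V ψ (m x) := by
    refine bijective_of_lifts j F (ζ ≫ g) β hβ M (fun u => (hmu u).stalkEquiv (ptOf (tu u)))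
      ((germ (ζ ≫ g) G V ψ).hom.comp m) fun u x => ?_
    rw [AddMonoidHom.comp_apply, hms]
    refine (germ_res (ζ ≫ g) G (r u) ψ _).trans ?_
    have ht : upPt (β u) (ptOf (tu u)) = tu u := Over.OverMorphism.ext rfl
    have h := congrArg (fun t => t (mu u x)) (germ_stalkIncl j (ζ ≫ g) F (β u) (W u) (ptOf (tu u)))
    rw [ht] at h
    exact h.symm
  have hc : (fun x => germ ζ ((EtCoh.pull g).obj G) (piece Z O) ψ'
      (((((EtCoh.pull g).obj G).obj.map (pieceHom Z O).op).hom.comp (pullSect g G V)).comp m x)) =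
      (stalkPullIso g ζ).inv.app G ∘ fun x => germ (ζ ≫ g) G V ψ (m x) := by
    funext x
    refine (germ_res ζ _ (pieceHom Z O) ψ' _).trans ?_
    rw [Function.comp_apply, ← germ_pullSect g ζ G V ψ (m x), hψ]
  rw [hc]
  exact (ConcreteCategory.bijective_of_isIso ((stalkPullIso g ζ).inv.app G)).comp key

end Groth.Agent.EtConsAb

namespace Groth.Agent.EtConsAb

open Groth.Agent Groth.Agent.EtaleSite

variable {U X : Scheme.{u}}

/-- `j_!` of a finite locally constant sheaf is constructible. -/
theorem isConstructible_extZero [CompactSpace X] [QuasiSeparatedSpace X] [CompactSpace U]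
    [QuasiSeparatedSpace U] (j : U ⟶ X) [Etale j] [EtShriek.JCont j] (F : EtCoh.Ab U)
    (hF : EtCoh.IsFiniteLocallyConstant F) : EtPBC.IsConstructible ((EtShriek.extZero j).obj F) := by
  haveI : QuasiCompact j :=
    haveI : QuasiCompact (j ≫ terminal.from X) := by
      rw [terminal.comp_from]
      exact (compactSpace_iff_quasiCompact _).mp inferInstance
    haveI : QuasiSeparated (terminal.from X) :=
      (quasiSeparatedSpace_iff_quasiSeparated X).mp inferInstance
    QuasiCompact.of_comp j (terminal.from X)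
  obtain ⟨n, T, g, hg, hc, -, hu, hfin⟩ := EtaleStrat.exists_finite_partition j
  refine isConstructible_of_strataCover ⟨Fin n, inferInstance, T, g, hg, hc, hu, fun i => ?_⟩
  haveI := hfin i
  exact isFLC_pull_extZero j (g i) F hF

end Groth.Agent.EtConsAb
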