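/-
The cohomology of the generators `j_! (ℤ/p)` in characteristic `p`.
-/
import Groth.Agent.EtConsAb.CdQcGen
import Groth.Agent.EtaleSite.ArtinSchreierKer
import Groth.Agent.S0110
import Groth.Agent.S0133
import Groth.Agent.S0385
import Groth.Agent.S0686
import Groth.Agent.S0727
import Groth.Agent.S15944
import Groth.Agent.FlatMisc.SchemePushout
import Groth.Agent.FormalFun.StalkBase
import Groth.Agent.QCoh.Qcqs
import Groth.Agent.EtLimit.SysCoh
import Groth.Agent.EtConsAb.Filtration

set_option autoImplicit false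
set_option linter.style.haveILetI false
set_option backward.isDefEq.respectTransparency false

universe u

open CategoryTheory CategoryTheory.Limits AlgebraicGeometry Opposite

noncomputable section

namespace Groth.Agent.EtConsAb.CdQc

open Groth.Agent Groth.Agent.EtaleSite Groth.Agent.GalCohAux Groth.Agent.EtConsAb
  Groth.Agent.GalCohAux.EtDimVanA

attribute [-instance] EtFin.instUniqueCarrierCarrierCommRingCatSpecOf_groth

variable (p : ℕ) [Fact p.Prime]

/-- `ℤ/p` has no cohomology above `d + 1` on schemes finite over `X`. -/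
theorem const_vanish_finite {X Y : Scheme.{u}} (h0 : (p : Γ(X, ⊤)) = 0) (d : ℕ)
    (hqc : ∀ M : X.Modules, Coh.IsQCoh M → ∀ q : ℕ, d < q → Subsingleton (Coh.HH X M q))
    (g : Y ⟶ X) [IsFinite g] (q : ℕ) (hq : d + 1 < q) :
    Subsingleton (EtCoh.H Y (EtCoh.const Y (ZMod p)) q) := by
  haveI : Coh.IsQCoh (Coh.structureModule Y) :=
    (SheafOfModules.isQuasicoherent Y.ringCatSheaf).prop_of_iso
      (coproductUniqueIso fun _ : PUnit.{u + 1} => Coh.structureModule Y)
      (inferInstanceAs (SheafOfModules.free (R := Y.ringCatSheaf) PUnit.{u + 1}).IsQuasicoherent)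
  haveI : (Coh.structureModule Y).IsQuasicoherent := ‹Coh.IsQCoh (Coh.structureModule Y)›
  have hGa : ∀ i, d < i → Subsingleton (EtCoh.H Y (EtCoh.Ga Y) i) := fun i hi => by
    obtain ⟨e⟩ := S0110.result Y i
    haveI := FormalFun.subsingleton_HH_of_push g (Coh.structureModule Y) i
      (hqc _ (QCoh.isQuasicoherent_pushforward g _) i hi)
    exact e.toEquiv.subsingleton
  have h0Y : (p : Γ(Y, ⊤)) = 0 := by rw [← map_natCast g.appTop.hom, h0, map_zero]
  obtain ⟨q', rfl⟩ : ∃ q', q = q' + 1 := ⟨q - 1, by omega⟩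
  exact subsingleton_H_left (EtaleSite.ArtinSchreierKer.shortExact p h0Y) q' (hGa _ (by omega)) (hGa _ (by omega))

/-- A retraction makes the restriction to a closed subscheme surjective on cohomology. -/
theorem surjective_unit_of_retraction {P Y : Scheme.{u}} (b : Y ⟶ P) [IsClosedImmersion b] (r : P ⟶ Y)
    (hbr : b ≫ r = 𝟙 Y) (n : ℕ) :
    Function.Surjective
      (Sheaf.H.map ((EtCoh.pullPushAdj b).unit.app (EtCoh.const P (ZMod p))) n) := by
  haveI : PreservesFiniteLimits (EtCoh.pull b) := EtaleSite.preservesFiniteLimits_pull _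
  haveI : PreservesFiniteLimits (EtCoh.pull r) := EtaleSite.preservesFiniteLimits_pull _
  haveI : PreservesFiniteLimits (EtCoh.pull (b ≫ r)) := EtaleSite.preservesFiniteLimits_pull _
  haveI : PreservesFiniteLimits (EtCoh.pull (𝟙 Y)) := EtaleSite.preservesFiniteLimits_pull _
  let G := EtCoh.const P (ZMod p)
  let e : (EtCoh.pull r).obj (EtCoh.const Y (ZMod p)) ≅ G := (EtCore.pullConstIso r).app _
  have hs : Function.Surjective (EtCore.Hpull b ((EtCoh.pull r).obj (EtCoh.const Y (ZMod p))) n) := by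
    have h := (HpullComp.Hpull_comp_injective_iff b r n (EtCoh.const Y (ZMod p))).2.1
      ((HpullComp.Hpull_congr hbr _ n).2.2 (HpullComp.Hpull_id_bijective n _).2)
    intro y
    obtain ⟨x, hx⟩ := h y
    exact ⟨_, hx⟩
  intro z
  have hinj := (S14451.result b ((EtCoh.pull b).obj G) (fun m hm => S3054.result b _ m hm) n).1
  obtain ⟨w, hw⟩ := hs (Sheaf.H.map ((EtCoh.pull b).map e.inv) n
    (EtLim.HofPush b ((EtCoh.pull b).obj G) n z))
  refine ⟨Sheaf.H.map e.hom n w, hinj ?_⟩
  show Sheaf.H.map ((EtCoh.pullPushAdj b).counit.app _) n (EtCore.Hpull b _ n (Sheaf.H.map _ n _)) = _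
  rw [EtLimit.Hpull_H_map]
  erw [EtLimit.H_map_map, (EtCoh.pullPushAdj b).left_triangle_components]
  refine (Sheaf.H.map_id_apply _).trans ?_
  refine (EtLimit.Hpull_H_map b e.hom n w).trans ?_
  rw [hw]
  refine (EtLimit.H_map_map _ _ n _).trans ?_
  rw [← Functor.map_comp, e.inv_hom_id, CategoryTheory.Functor.map_id]
  exact Sheaf.H.map_id_apply _

/-- A geometric point in the range of a closed immersion lifts to it. -/
theorem exists_lift_point {Y P : Scheme.{u}} (a : Y ⟶ P) [IsClosedImmersion a] {Ω : Type u} [Field Ω]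
    (ξ : Spec (CommRingCat.of Ω) ⟶ P) (hξ : ξ default ∈ Set.range a) :
    ∃ ξ' : Spec (CommRingCat.of Ω) ⟶ Y, ξ' ≫ a = ξ := by
  let s := pullback.snd a ξ
  haveI : Surjective s := ⟨fun w => by
    obtain rfl : w = default := Subsingleton.elim _ _
    obtain ⟨y, hy⟩ := hξ
    obtain ⟨z, -, hz⟩ := Scheme.Pullback.exists_preimage_pullback (f := a) (g := ξ) y default hy
    exact ⟨z, hz⟩⟩
  haveI : IsIso s := isIso_of_isClosedImmersion_of_surjective s
  exact ⟨inv s ≫ pullback.fst a ξ, by rw [Category.assoc, pullback.condition, IsIso.inv_hom_id_assoc]⟩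

set_option maxHeartbeats 1000000 in
/-- Extension by zero from an open has no cohomology above `d + 1`. -/
theorem open_vanish {X Y U : Scheme.{u}} [AlgebraicGeometry.IsNoetherian X] (h0 : (p : Γ(X, ⊤)) = 0) (d : ℕ)
    (hqc : ∀ M : X.Modules, Coh.IsQCoh M → ∀ q : ℕ, d < q → Subsingleton (Coh.HH X M q))
    (g : Y ⟶ X) [IsFinite g] (j : U ⟶ Y) [IsOpenImmersion j] (q : ℕ) (hq : d + 1 < q) :
    Subsingleton (EtCoh.H Y ((EtShriek.extZero j).obj (EtCoh.const U (ZMod p))) q) := by
  haveI := DevFin.noeth g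
  let I := Scheme.IdealSheafData.vanishingIdeal
    (⟨(Set.range j)ᶜ, j.isOpenEmbedding.isOpen_range.isClosed_compl⟩ : TopologicalSpace.Closeds Y)
  let i := I.subschemeι
  have hi : Set.range i = (Set.range j)ᶜ := RedSub.range_vanishingIdeal_subschemeι _
  -- two copies of `Y` glued along the complement
  obtain ⟨P, a, b, hpo, hpb, hb, -, ha, hcov⟩ := FlatMisc.SchemePushout.exists_pushout (i := i) (j := i)
    (fun y => by
      obtain ⟨V, hV, hy, -⟩ := exists_isAffineOpen_mem_and_subset (show y ∈ (⊤ : Y.Opens) from trivial)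
      exact ⟨V, V, hV, hV, hy, rfl⟩)
  haveI := hb
  haveI : IsClosedImmersion a := ha inferInstance
  let r : P ⟶ Y := hpo.desc (𝟙 Y) (𝟙 Y) rfl
  have har : a ≫ r = 𝟙 Y := hpo.inl_desc _ _ _
  have hbr : b ≫ r = 𝟙 Y := hpo.inr_desc _ _ _
  have hpr : IsProper r := (S15944.result (𝟙 Y) (𝟙 Y) i i rfl (fun y => by
      obtain ⟨V, hV, hy, -⟩ := exists_isAffineOpen_mem_and_subset (show y ∈ (⊤ : Y.Opens) from trivial)
      refine ⟨V, hV, hy, V, hV, le_of_eq rfl, fun z hz => ?_⟩
      rwa [Category.comp_id] at hz)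
    a b hpo r har hbr).2 inferInstance inferInstance
  haveI : LocallyQuasiFinite r := LocallyQuasiFinite.of_finite_preimage_singleton r fun y => by
    refine ((Set.finite_singleton (a y)).union (Set.finite_singleton (b y))).subset fun z hz => ?_
    rcases hcov z with ⟨w, rfl⟩ | ⟨w, rfl⟩
    · left
      have : r (a w) = w := by rw [← Scheme.Hom.comp_apply, har]; rfl
      rw [show w = y from this.symm.trans hz]
      exact Set.mem_singleton _
    · right
      have : r (b w) = w := by rw [← Scheme.Hom.comp_apply, hbr]; rfl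
      rw [show w = y from this.symm.trans hz]
      exact Set.mem_singleton _
  haveI : IsFinite r := IsFinite.of_isProper_of_locallyQuasiFinite r
  haveI := DevFin.noeth (r ≫ g)
  let G := EtCoh.const P (ZMod p)
  let u := (EtCoh.pullPushAdj b).unit.app G
  haveI : Epi u := epi_of_stalk u fun Ω _ _ ξ => by
    by_cases hξ : ξ default ∈ Set.range b
    · haveI := isIso_stalk_unit_push b G ξ hξ
      exact (ConcreteCategory.bijective_of_isIso ((EtCoh.stalk ξ).map u)).2
    · intro t
      refine ⟨0, ?_⟩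
      haveI := AddCommGrpCat.subsingleton_of_isZero (isZero_stalk_push b ξ hξ ((EtCoh.pull b).obj G))
      exact Subsingleton.elim (α := (EtCoh.stalk ξ).obj ((EtCoh.push b).obj ((EtCoh.pull b).obj G))) _ _
  let S : ShortComplex (EtCoh.Ab P) := ShortComplex.mk (kernel.ι u) u (kernel.condition u)
  have hS : S.ShortExact := { exact := ShortComplex.exact_of_f_is_kernel _ (kernelIsKernel u) }
  have hK : Subsingleton (EtCoh.H P S.X₁ q) := by
    obtain ⟨n, rfl⟩ : ∃ n, q = n + 1 := ⟨q - 1, by omega⟩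
    haveI := const_vanish_finite p h0 d hqc (r ≫ g) (n + 1) hq
    refine subsingleton_of_forall_eq 0 fun x => ?_
    obtain ⟨z, hz⟩ := Abelian.Ext.covariant_sequence_exact₁ _ hS x
      (Subsingleton.elim (α := EtCoh.H P G (n + 1)) _ _) (rfl : n + 1 = n + 1)
    obtain ⟨w, hw⟩ := surjective_unit_of_retraction p b r hbr n z
    rw [← hz, ← hw]
    show (Sheaf.H.map S.g n w).comp hS.extClass (rfl : n + 1 = n + 1) = 0
    rw [Sheaf.H.map_apply, Abelian.Ext.comp_assoc_of_second_deg_zero]
    exact (congrArg (fun t => w.comp t rfl) hS.comp_extClass).trans (Abelian.Ext.comp_zero _ _ _ _ _)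
  -- the kernel is the direct image of the extension by zero
  let O : P.Opens := ⟨(Set.range b)ᶜ, b.isClosedEmbedding.isClosed_range.isOpen_compl⟩
  have hOa : ∀ (Ω : Type u) [Field Ω] (ξ : Spec (CommRingCat.of Ω) ⟶ P), ξ default ∉ Set.range b →
      ∃ ξ' : Spec (CommRingCat.of Ω) ⟶ Y, ξ' ≫ a = ξ ∧ ξ' default ∈ Set.range j := fun Ω _ ξ hξ => by
    obtain ⟨w, hw⟩ := (hcov (ξ default)).resolve_right hξ
    obtain ⟨ξ', hξ'⟩ := exists_lift_point a ξ ⟨w, hw⟩
    refine ⟨ξ', hξ', not_not.1 fun hn => hξ ?_⟩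
    obtain ⟨z, hz⟩ : ξ' default ∈ Set.range i := by rw [hi]; exact hn
    exact ⟨i z, by rw [← hξ', Scheme.Hom.comp_apply, ← hz, ← Scheme.Hom.comp_apply, ← hpb.w, Scheme.Hom.comp_apply]⟩
  let E := (EtShriek.extZero j).obj (EtCoh.const U (ZMod p))
  let B := (EtCoh.push a).obj E
  have hKzero : ∀ (Ω : Type u) [Field Ω] [IsSepClosed Ω] (ξ : Spec (CommRingCat.of Ω) ⟶ P),
      ξ default ∈ Set.range b → IsZero ((EtCoh.stalk ξ).obj (kernel u)) := fun Ω _ _ ξ hξ => by
    haveI := isIso_stalk_unit_push b G ξ hξ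
    refine @AddCommGrpCat.isZero_of_subsingleton _ (subsingleton_of_forall_eq 0 fun t => ?_)
    refine ((mono_iff_stalk (kernel.ι u)).1 inferInstance _ ξ) ?_
    refine (ConcreteCategory.bijective_of_isIso ((EtCoh.stalk ξ).map u)).1 ?_
    rw [← ConcreteCategory.comp_apply, ← Functor.map_comp, kernel.condition, Functor.map_zero, map_zero, map_zero]
    rfl
  have hBzero : ∀ (Ω : Type u) [Field Ω] [IsSepClosed Ω] (ξ : Spec (CommRingCat.of Ω) ⟶ P),
      ξ default ∈ Set.range b → IsZero ((EtCoh.stalk ξ).obj B) := fun Ω _ _ ξ hξ => by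
    by_cases hξa : ξ default ∈ Set.range a
    · obtain ⟨ξ₁, rfl⟩ := exists_lift_point a ξ hξa
      obtain ⟨ξ₂, hξ₂⟩ := exists_lift_point b (ξ₁ ≫ a) hξ
      let l := hpb.lift ξ₁ ξ₂ hξ₂.symm
      have hl : ξ₁ default ∉ Set.range j := by
        have h1 : ξ₁ default ∈ Set.range i := ⟨l default, by rw [← Scheme.Hom.comp_apply, hpb.lift_fst]⟩
        rw [hi] at h1
        exact h1
      haveI := EtaleSite.isIso_counit a E
      refine IsZero.of_iso ((EtSupp.isZero_stalk_extZero j (EtCoh.const U (ZMod p)) ξ₁ hl)) ?_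
      exact ((stalkPullIso a ξ₁).app B).symm ≪≫
        (EtCoh.stalk ξ₁).mapIso (asIso ((EtCoh.pullPushAdj a).counit.app E))
    · exact isZero_stalk_push a ξ hξa _
  have eK : Nonempty (kernel u ≅ B) := by
    haveI := isIso_counit_extZero O.ι (kernel u) fun Ω _ _ ξ hξ =>
      hKzero Ω ξ (by rw [Scheme.Opens.range_ι] at hξ; exact not_not.1 hξ)
    haveI := isIso_counit_extZero O.ι B fun Ω _ _ ξ hξ =>
      hBzero Ω ξ (by rw [Scheme.Opens.range_ι] at hξ; exact not_not.1 hξ)
    have hO : ∀ {Ω : Type u} [Field Ω] (ξ : Spec (CommRingCat.of Ω) ⟶ P),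
        ξ default ∈ Set.range O.ι → ξ default ∉ Set.range b := fun ξ hξ => by
      rw [Scheme.Opens.range_ι] at hξ
      exact hξ
    haveI : IsIso ((EtCoh.pull O.ι).map (kernel.ι u)) := isIso_pull_of_stalk O.ι _ fun Ω _ _ ξ hξ => by
      haveI : PreservesFiniteLimits (EtCoh.stalk ξ) := inferInstance
      have hexact := hS.map_of_exact (EtCoh.stalk ξ)
      haveI : Mono ((EtCoh.stalk ξ).map (kernel.ι u)) := hexact.mono_f
      haveI : Epi ((EtCoh.stalk ξ).map (kernel.ι u)) :=
        hexact.exact.epi_f ((isZero_stalk_push b ξ (hO ξ hξ) _).eq_of_tgt _ _)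
      exact isIso_of_mono_of_epi _
    let α := (EtCoh.pullPushAdj a).unit.app G
    haveI : IsIso ((EtCoh.pull O.ι).map α) := isIso_pull_of_stalk O.ι _ fun Ω _ _ ξ hξ => by
      obtain ⟨ξ', rfl, -⟩ := hOa Ω ξ (hO ξ hξ)
      exact isIso_stalk_unit_push a G _ ⟨ξ' default, (Scheme.Hom.comp_apply _ _ _).symm⟩
    let C := EtCoh.const Y (ZMod p)
    let κ : E ⟶ C := (EtShriek.extZero j).map
        (((pullIsoRestrAlong j).app C).symm ≪≫ (EtCore.pullConstIso j).app _).inv ≫
      (EtShriek.extZeroAdj j).counit.app C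
    haveI : IsIso ((EtCoh.pull O.ι).map ((EtCoh.push a).map κ)) := isIso_pull_of_stalk O.ι _ fun Ω _ _ ξ hξ => by
      obtain ⟨ξ', rfl, hj⟩ := hOa Ω ξ (hO ξ hξ)
      haveI := EtaleSite.isIso_counit a E
      haveI := EtaleSite.isIso_counit a C
      refine (NatIso.isIso_map_iff (stalkPullIso a ξ') _).1 ?_
      show IsIso ((EtCoh.stalk ξ').map ((EtCoh.pull a).map ((EtCoh.push a).map κ)))
      haveI : IsIso ((EtCoh.stalk ξ').map κ) := by
        rw [Functor.map_comp]
        haveI := isIso_stalk_counit_extZero j C ξ' hj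
        infer_instance
      have hnat := (EtCoh.pullPushAdj a).counit.naturality κ
      rw [← IsIso.eq_comp_inv] at hnat
      rw [show (EtCoh.pull a).map ((EtCoh.push a).map κ) = _ from hnat, Functor.map_comp, Functor.map_comp,
        Functor.id_map]
      infer_instance
    let c : (EtCoh.pull O.ι).obj (kernel u) ≅ (EtCoh.pull O.ι).obj B :=
      asIso ((EtCoh.pull O.ι).map (kernel.ι u)) ≪≫ asIso ((EtCoh.pull O.ι).map α) ≪≫
        (EtCoh.pull O.ι).mapIso ((EtCoh.push a).mapIso ((EtCore.pullConstIso a).app _)) ≪≫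
        (asIso ((EtCoh.pull O.ι).map ((EtCoh.push a).map κ))).symm
    exact ⟨(asIso ((EtShriek.extZeroAdj O.ι).counit.app (kernel u))).symm ≪≫
      (EtShriek.extZero O.ι).mapIso (((pullIsoRestrAlong O.ι).app _).symm ≪≫ c ≪≫ (pullIsoRestrAlong O.ι).app _) ≪≫
      asIso ((EtShriek.extZeroAdj O.ι).counit.app B)⟩
  exact (Equiv.ofBijective _ (S14451.result a E (fun m hm => S3054.result a _ m hm) q)).subsingleton_congr.1
    (subsingleton_H_of_iso eK.some q hK)

/-- The generators have no cohomology above `d + 1`. -/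
theorem gen_vanish {X : Scheme.{u}} [AlgebraicGeometry.IsNoetherian X] (h0 : (p : Γ(X, ⊤)) = 0) (d : ℕ)
    (hqc : ∀ M : X.Modules, Coh.IsQCoh M → ∀ q : ℕ, d < q → Subsingleton (Coh.HH X M q))
    (q : ℕ) (hq : d + 1 < q) (U : X.Etale) (hU : IsAffine U.left) :
    Subsingleton (EtCoh.H X (EtPBC.extZeroConst U (ZMod p)) q) := by
  haveI := hU
  let f : U.left ⟶ X := U.hom
  haveI : Etale f := U.prop
  haveI : IsSeparated (f ≫ terminal.from X) := by rw [terminal.comp_from]; infer_instance
  haveI : IsSeparated f := IsSeparated.of_comp f (terminal.from X)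
  haveI : QuasiCompact f := QuasiCompact.of_comp f (terminal.from X)
  haveI : LocallyQuasiFinite f := inferInstance
  obtain ⟨T, j, π, hj, -, hπ, hf⟩ := S0385.result f
  haveI := DevFin.noeth π
  obtain ⟨e₁⟩ := S0727.result f
  obtain ⟨e₂⟩ := S0686.result j π f hf.symm
  let A := AddCommGrpCat.{u + 1}
  let T' : U.left.Etale := EtCoh.top U.left
  let hT : IsTerminal T' := MorphismProperty.Over.mkIdTerminal _ _
  let e : (EtShriek.compEtale U.hom).obj T' ≅ U :=
    MorphismProperty.Over.isoMk (Iso.refl _) (by rfl)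
  let a₁ := (constantSheafAdj (X.smallEtaleTopology.over U) A Over.mkIdTerminal).comp (EtPBC.extZeroAdj U)
  let a₂ := (constantSheafAdj U.left.smallEtaleTopology A hT).comp (EtShriek.extZeroAdj U.hom)
  let r : EtShriek.restrAlong U.hom ⋙ (sheafSections U.left.smallEtaleTopology A).obj (op T') ≅
      X.smallEtaleTopology.overPullback A U ⋙
        (sheafSections (X.smallEtaleTopology.over U) A).obj (op (Over.mk (𝟙 U))) :=
    NatIso.ofComponents (fun G => G.obj.mapIso e.symm.op) (fun {G G'} f => (f.hom.naturality e.symm.hom.op).symm)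
  let e₀ := (a₁.leftAdjointUniq (a₂.ofNatIsoRight r)).app (AddCommGrpCat.of (ULift.{u + 1} (ZMod p)))
  refine subsingleton_H_of_iso (e₀ ≪≫ e₁.app _ ≪≫ e₂.app _).symm q
    (DevFin.subsingleton_push π _ q ?_)
  exact open_vanish p h0 d hqc π j q hq

end Groth.Agent.EtConsAb.CdQc
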