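/-
An a priori bound on the `p`-cohomological dimension in characteristic `p`.
-/
import Groth.Agent.EtConsAb.CdQcCore
import Groth.Agent.ConsPairLib.Basic
import Groth.Agent.S3519
import Groth.Agent.S3884
import Groth.Agent.S0007
import Groth.Agent.S0659

set_option autoImplicit false
set_option linter.style.haveILetI false
set_option backward.isDefEq.respectTransparency false

universe u

open CategoryTheory CategoryTheory.Limits AlgebraicGeometry Opposite

noncomputable section

namespace Groth.Agent.EtConsAb.CdQc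

open Groth.Agent Groth.Agent.EtaleSite Groth.Agent.GalCohAux Groth.Agent.EtConsAb
  Groth.Agent.GalCohAux.EtDimVanA

attribute [-instance] EtFin.instUniqueCarrierCarrierCommRingCatSpecOf_groth

variable (p : ℕ) [hp : Fact p.Prime]

/-- Vanishing above `d + 1` from any bound. -/
theorem van_above {X : Scheme.{u}} [AlgebraicGeometry.IsNoetherian X] (h0 : (p : Γ(X, ⊤)) = 0) (d : ℕ)
    (hqc : ∀ M : X.Modules, Coh.IsQCoh M → ∀ q : ℕ, d < q → Subsingleton (Coh.HH X M q))
    (M : ℕ) (hM : ∀ q, M < q → Van p X q) (q : ℕ) (hq : d + 1 < q) : Van p X q := by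
  suffices key : ∀ (k q : ℕ), M < q + k → d + 1 < q → Van p X q from key (M + 1) q (by omega) hq
  intro k
  induction k with
  | zero => exact fun q hk _ => hM q (by omega)
  | succ k ih => exact fun q hk hq => van_step p q (gen_vanish p h0 d hqc q hq) (ih (q + 1) (by omega) (by omega))

omit hp in
theorem van_of_iso {X Y : Scheme.{u}} (e : X ⟶ Y) [IsIso e] (q : ℕ) (h : Van p Y q) : Van p X q := fun F hF => by
  haveI : PreservesFiniteLimits (EtCoh.pull e) := EtaleSite.preservesFiniteLimits_pull _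
  haveI := h _ ((EtDimVanD.torsionClass {p}).push e hF)
  exact (Equiv.ofBijective _ (S14451.result e F (fun m hm => S3054.result e _ m hm) q)).subsingleton_congr.1
    inferInstance

/-- A bound exists. -/
def Bd (X : Scheme.{u}) : Prop := ∃ M, ∀ q, M < q → Van p X q

omit hp in
theorem bd_of_iso {X Y : Scheme.{u}} (e : X ⟶ Y) [IsIso e] (h : Bd p Y) : Bd p X :=
  ⟨h.choose, fun q hq => van_of_iso p e q (h.choose_spec q hq)⟩

/-- Affine schemes of characteristic `p`. -/
theorem van_affine {X : Scheme.{u}} [IsAffine X] (h0 : (p : Γ(X, ⊤)) = 0) (q : ℕ) (hq : 1 < q) : Van p X q := by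
  classical
  refine van_of_iso p X.isoSpec.hom q ?_
  let K : CommRingCat.{u} := Γ(X, ⊤)
  haveI : CharP (ULift.{u} (ZMod p)) p :=
    charP_of_injective_ringHom (f := (ULift.ringEquiv.symm : ZMod p ≃+* ULift.{u} (ZMod p)).toRingHom)
      (RingEquiv.injective _) p
  let A : CommRingCat.{u} := CommRingCat.of (ULift.{u} (ZMod p))
  letI : Algebra A K :=
    ((ZMod.castHom (ringChar.dvd h0) K).comp (ULift.ringEquiv : ULift.{u} (ZMod p) ≃+* ZMod p).toRingHom).toAlgebra
  let D := (ConsPairLib.adjoinDiag A K).op ⋙ Scheme.Spec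
  haveI : ∀ a, IsAffine (D.obj a) := fun a => inferInstanceAs (IsAffine (Spec _))
  let c := Scheme.Spec.mapCone (ConsPairLib.adjoinCocone A K).op
  haveI : ∀ a, PreservesFiniteLimits (EtCoh.pull (c.π.app a)) := fun a => EtaleSite.preservesFiniteLimits_pull _
  haveI : ∀ ⦃a b : (Finset K)ᵒᵖ⦄ (h : a ⟶ b), PreservesFiniteLimits (EtCoh.pull (D.map h)) :=
    fun a b h => EtaleSite.preservesFiniteLimits_pull _
  show Van p c.pt q
  intro F hF
  obtain ⟨hs, -⟩ := S3884.result D (fun a b h => inferInstance)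
    (fun a => inferInstance) (fun a => inferInstance) c
    (isLimitOfPreserves Scheme.Spec (ConsPairLib.isColimitAdjoinCocone A K).op) F q
  refine subsingleton_of_forall_eq 0 fun x => ?_
  obtain ⟨j, y, rfl⟩ := hs x
  let B := Algebra.adjoin (A : Type u) (j : Set K)
  let f : D.obj (op j) ⟶ Spec A := Spec.map (CommRingCat.ofHom (algebraMap (A : Type u) B))
  haveI : Algebra.FiniteType (A : Type u) B := (Subalgebra.fg_iff_finiteType _).1 (Subalgebra.fg_adjoin_finset j)
  haveI : LocallyOfFiniteType f :=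
    (HasRingHomProperty.Spec_iff (P := @LocallyOfFiniteType)).2
      (show (algebraMap (A : Type u) B).FiniteType from RingHom.finiteType_algebraMap.2 inferInstance)
  letI : Field (A : Type u) := inferInstanceAs (Field (ULift.{u} (ZMod p)))
  haveI : IsNoetherianRing B := Algebra.FiniteType.isNoetherianRing (A : Type u) B
  haveI : AlgebraicGeometry.IsNoetherian (D.obj (op j)) :=
    inferInstanceAs (AlgebraicGeometry.IsNoetherian (Spec (CommRingCat.of B)))
  obtain ⟨n, π, hπ⟩ := Algebra.FiniteType.iff_quotient_mvPolynomial''.1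
    (inferInstance : Algebra.FiniteType (A : Type u) B)
  have hdim : topologicalKrullDim (D.obj (op j)) ≤ n := by
    show topologicalKrullDim (PrimeSpectrum B) ≤ _
    rw [PrimeSpectrum.topologicalKrullDim_eq_ringKrullDim]
    refine (ringKrullDim_le_of_surjective π.toRingHom hπ).trans (le_of_eq ?_)
    rw [MvPolynomial.ringKrullDim_of_isNoetherianRing, ringKrullDim_eq_zero_of_field]
    simp
  have h0j : (p : Γ(D.obj (op j), ⊤)) = 0 := by
    let a : (A : Type u) →+* Γ(D.obj (op j), ⊤) := ((Scheme.ΓSpecIso A).inv ≫ f.appTop).hom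
    rw [← map_natCast a, CharP.cast_eq_zero (ULift.{u} (ZMod p)) p, map_zero]
  have hb : ∀ i, n + 1 < i → Van p (D.obj (op j)) i := fun i hi G hG =>
    S3519.result (ULift.{u} (ZMod p)) p (D.obj (op j)) f n hdim G
      ((EtDimVanD.isPrimaryTorsion_iff hp.out G).2 hG) i hi
  haveI : IsAffine c.pt := inferInstanceAs (IsAffine (Spec _))
  haveI : IsAffineHom (c.π.app (op j)) := isAffineHom_of_isAffine _
  haveI := van_above p h0j 0 (fun N hN i hi => by
    haveI := hN
    exact S0007.result (D.obj (op j)) N i hi) (n + 1) hb q hq _ ((EtDimVanD.torsionClass {p}).push (c.π.app (op j)) hF)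
  rw [Subsingleton.elim y 0, map_zero]

/-- Gluing bounds over two opens. -/
theorem bd_sup {X : Scheme.{u}} (U V : X.Opens) (hU : Bd p U.toScheme) (hV : Bd p V.toScheme)
    (hUV : Bd p (U ⊓ V).toScheme) : Bd p (U ⊔ V).toScheme := by
  let T := (U ⊔ V).toScheme
  let U' : T.Opens := (U ⊔ V).ι ⁻¹ᵁ U
  let V' : T.Opens := (U ⊔ V).ι ⁻¹ᵁ V
  have tr : ∀ W : X.Opens, W ≤ U ⊔ V → Bd p W.toScheme → Bd p ((U ⊔ V).ι ⁻¹ᵁ W).toScheme := fun W hW h => by
    let e := IsOpenImmersion.isoOfRangeEq (((U ⊔ V).ι ⁻¹ᵁ W).ι ≫ (U ⊔ V).ι) W.ι (by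
      rw [Scheme.Hom.comp_base, TopCat.coe_comp, Set.range_comp, Scheme.Opens.range_ι, Scheme.Opens.range_ι]
      show (U ⊔ V).ι '' ((U ⊔ V).ι ⁻¹' (W : Set X)) = W
      rw [Set.image_preimage_eq_inter_range, Scheme.Opens.range_ι]
      exact Set.inter_eq_left.2 hW)
    exact bd_of_iso p e.hom h
  obtain ⟨M₁, h₁⟩ := tr U le_sup_left hU
  obtain ⟨M₂, h₂⟩ := tr V le_sup_right hV
  obtain ⟨M₃, h₃⟩ := tr (U ⊓ V) (inf_le_left.trans le_sup_left) hUV
  refine ⟨M₁ + M₂ + M₃ + 1, fun q hq F hF => ?_⟩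
  obtain ⟨n, rfl⟩ : ∃ n, q = n + 1 := ⟨q - 1, by omega⟩
  haveI : PreservesFiniteLimits (EtCoh.pull U'.ι) := EtaleSite.preservesFiniteLimits_pull _
  haveI : PreservesFiniteLimits (EtCoh.pull V'.ι) := EtaleSite.preservesFiniteLimits_pull _
  haveI : PreservesFiniteLimits (EtCoh.pull (T.homOfLE (inf_le_left : U' ⊓ V' ≤ U'))) :=
    EtaleSite.preservesFiniteLimits_pull _
  haveI : PreservesFiniteLimits (EtCoh.pull (T.homOfLE (inf_le_right : U' ⊓ V' ≤ V'))) :=
    EtaleSite.preservesFiniteLimits_pull _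
  have hcov : U' ⊔ V' = ⊤ := TopologicalSpace.Opens.ext (Set.eq_univ_of_forall fun x => x.2)
  obtain ⟨δ, -, hδ, -, -⟩ := S0659.result T U' V' hcov F
  haveI := h₁ (n + 1) (by omega) _ ((EtDimVanD.torsionClass {p}).pull U'.ι hF)
  haveI := h₂ (n + 1) (by omega) _ ((EtDimVanD.torsionClass {p}).pull V'.ι hF)
  haveI : Subsingleton (EtCoh.H ↑(U' ⊓ V') ((EtCoh.pull (U' ⊓ V').ι).obj F) n) :=
    h₃ n (by omega) _ ((EtDimVanD.torsionClass {p}).pull (U' ⊓ V').ι hF)
  refine subsingleton_of_forall_eq 0 fun x => ?_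
  obtain ⟨w, rfl⟩ : x ∈ (δ n).range := by
    rw [← hδ n, AddMonoidHom.mem_ker]
    exact Prod.ext (Subsingleton.elim _ _) (Subsingleton.elim _ _)
  rw [Subsingleton.elim w 0, map_zero]

theorem natCast_opens {X : Scheme.{u}} (h0 : (p : Γ(X, ⊤)) = 0) (U : X.Opens) : (p : Γ(U.toScheme, ⊤)) = 0 := by
  rw [← map_natCast U.ι.appTop.hom, h0, map_zero]

theorem bd_affine {X : Scheme.{u}} (h0 : (p : Γ(X, ⊤)) = 0) {U : X.Opens} (hU : IsAffineOpen U) :
    Bd p U.toScheme :=
  haveI : IsAffine U.toScheme := hU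
  ⟨1, fun q hq => van_affine p (natCast_opens p h0 U) q hq⟩

/-- Compact opens of a separated scheme. -/
theorem bd_of_separated {X : Scheme.{u}} [X.IsSeparated] (h0 : (p : Γ(X, ⊤)) = 0) (S : X.Opens)
    (hS : IsCompact (S : Set X)) : Bd p S.toScheme ∧ ∀ V : X.Opens, IsAffineOpen V → Bd p (S ⊓ V).toScheme := by
  refine compact_open_induction_on S hS ⟨bd_affine p h0 (isAffineOpen_bot X), fun V _ => ?_⟩ fun S _ U ih => ?_
  · rw [bot_inf_eq]
    exact bd_affine p h0 (isAffineOpen_bot X)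
  · refine ⟨bd_sup p S U ih.1 (bd_affine p h0 U.2) (ih.2 U U.2), fun V hV => ?_⟩
    rw [inf_sup_right]
    refine bd_sup p _ _ (ih.2 V hV) (bd_affine p h0 (U.2.inf hV)) ?_
    rw [inf_inf_inf_comm, inf_idem, inf_assoc]
    exact ih.2 _ (U.2.inf hV)

/-- Noetherian schemes of characteristic `p` have bounded `p`-cohomological dimension. -/
theorem bd_noetherian (X : Scheme.{u}) [AlgebraicGeometry.IsNoetherian X] (h0 : (p : Γ(X, ⊤)) = 0) : Bd p X := by
  haveI : TopologicalSpace.NoetherianSpace X := inferInstanceAs (TopologicalSpace.NoetherianSpace X)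
  suffices h : ∀ S : X.Opens, IsCompact (S : Set X) → Bd p S.toScheme from
    bd_of_iso p X.topIso.inv (h ⊤ (by exact TopologicalSpace.NoetherianSpace.isCompact _))
  intro S hS
  refine compact_open_induction_on S hS (bd_affine p h0 (isAffineOpen_bot X)) fun S _ U ih => ?_
  refine bd_sup p S U ih (bd_affine p h0 U.2) ?_
  haveI : IsAffine (U : X.Opens).toScheme := U.2
  let T := (S ⊓ (U : X.Opens)).toScheme
  let j : T ⟶ (U : X.Opens).toScheme := X.homOfLE inf_le_right
  haveI : IsSeparated (j ≫ terminal.from (U : X.Opens).toScheme) := inferInstance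
  haveI : T.IsSeparated := ⟨by
    rw [← terminal.comp_from j]
    infer_instance⟩
  haveI : TopologicalSpace.NoetherianSpace T := (S ⊓ (U : X.Opens)).ι.isEmbedding.isInducing.noetherianSpace
  exact bd_of_iso p T.topIso.inv
    (bd_of_separated p (natCast_opens p h0 _) ⊤ (TopologicalSpace.NoetherianSpace.isCompact _)).1

end Groth.Agent.EtConsAb.CdQc
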