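import Groth.Agent.EtConsAb.Embed
import Groth.Agent.EtConsAb.Colim
import Groth.Agent.EtColim.CohColimLarge
import Groth.Agent.EtDescSS.CompBC
import Groth.Agent.EtaleSite.IntegralBC
import Groth.Agent.GalCohAux.EtDimVanD
import Groth.Agent.GalCohAux.EtNsmul
import Groth.Agent.S14389
import Groth.Agent.S14451
import Groth.Agent.S3054

/-!
A criterion for pullback along a morphism to be bijective on the cohomology of torsion sheaves,
in terms of constant coefficients on finite schemes over the target.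
-/

set_option autoImplicit false
set_option linter.style.haveILetI false
set_option backward.isDefEq.respectTransparency false

universe u

open CategoryTheory CategoryTheory.Limits AlgebraicGeometry Opposite

noncomputable section

namespace Groth.Agent.EtConsAb.CompareCrit

open Groth.Agent Groth.Agent.EtaleSite Groth.Agent.EtColim

variable {X Y : Scheme.{u}} (h : Y ⟶ X) [PreservesFiniteLimits (EtCoh.pull h)]

theorem Hpull_map {F G : EtCoh.Ab X} (φ : F ⟶ G) (i : ℕ) (x : EtCoh.H X F i) :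
    EtCore.Hpull h G i (Sheaf.H.map φ i x) = Sheaf.H.map ((EtCoh.pull h).map φ) i (EtCore.Hpull h F i x) := by
  rw [Sheaf.H.map_apply, Sheaf.H.map_apply]
  exact HpullSeq.Hpull_postcomp h φ i x

/-- The property of test sheaves. -/
def Good (n : ℕ) (E : EtCoh.Ab X) : Prop :=
  Function.Injective (EtCore.Hpull h E 0) ∧ ∀ i ≤ n, Function.Surjective (EtCore.Hpull h E i)

theorem eq_sum_biproduct {Z : Scheme.{u}} {ι : Type} [Fintype ι] (P : ι → EtCoh.Ab Z) {G : EtCoh.Ab Z}
    (φ : (⨁ P) ⟶ G) (i : ℕ) (x : EtCoh.H Z (⨁ P) i) :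
    Sheaf.H.map φ i x =
      ∑ j, Sheaf.H.map (biproduct.ι P j ≫ φ) i (Sheaf.H.map (biproduct.π P j) i x) := by
  let Q : ((⨁ P) ⟶ G) →+ EtCoh.H Z G i := AddMonoidHom.mk' (fun f => Sheaf.H.map f i x) fun f g => by
    simp [Sheaf.H.map_apply, Abelian.Ext.mk₀_add, Abelian.Ext.comp_add]
  have e : φ = ∑ j, biproduct.π P j ≫ biproduct.ι P j ≫ φ := by
    conv_lhs => rw [← Category.id_comp φ, ← biproduct.total, Preadditive.sum_comp]
    simp
  show Q φ = _
  conv_lhs => rw [e, map_sum]
  refine Finset.sum_congr rfl fun j _ => ?_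
  exact Sheaf.H.map_comp_apply (biproduct.π P j) _ x

theorem good_biproduct (n : ℕ) {ι : Type} [Fintype ι] (E : ι → EtCoh.Ab X) (hE : ∀ j, Good h n (E j)) :
    Good h n (⨁ E) := by
  refine ⟨(injective_iff_map_eq_zero _).2 fun x hx => ?_, fun i hi y => ?_⟩
  · rw [← Sheaf.H.map_id_apply x, eq_sum_biproduct E (𝟙 _) 0 x]
    refine Finset.sum_eq_zero fun j _ => ?_
    have h0 : Sheaf.H.map (biproduct.π E j) 0 x = 0 := (hE j).1 (by rw [Hpull_map, hx, map_zero, map_zero])
    rw [h0, map_zero]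
  · choose z hz using fun j => (hE j).2 i hi (Sheaf.H.map ((EtCoh.pull h).map (biproduct.π E j)) i y)
    refine ⟨∑ j, Sheaf.H.map (biproduct.ι E j) i (z j), ?_⟩
    rw [map_sum]
    have e : 𝟙 ((EtCoh.pull h).obj (⨁ E)) =
        ∑ j, (EtCoh.pull h).map (biproduct.π E j) ≫ (EtCoh.pull h).map (biproduct.ι E j) := by
      simp_rw [← Functor.map_comp]
      rw [← Functor.map_sum, biproduct.total, CategoryTheory.Functor.map_id]
    let Q : ((EtCoh.pull h).obj (⨁ E) ⟶ (EtCoh.pull h).obj (⨁ E)) →+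
        EtCoh.H Y ((EtCoh.pull h).obj (⨁ E)) i := AddMonoidHom.mk' (fun f => Sheaf.H.map f i y) fun f g => by
      simp [Sheaf.H.map_apply, Abelian.Ext.mk₀_add, Abelian.Ext.comp_add]
    refine Eq.trans ?_ (Sheaf.H.map_id_apply y)
    show _ = Q (𝟙 _)
    rw [e, map_sum]
    refine Finset.sum_congr rfl fun j _ => ?_
    rw [Hpull_map, hz]
    exact (Sheaf.H.map_comp_apply _ _ y).symm

/-- Direct images along finite morphisms. -/
theorem good_push (n : ℕ) {X' : Scheme.{u}} (p : X' ⟶ X) [IsFinite p] (A : EtCoh.Ab X')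
    [PreservesFiniteLimits (EtCoh.pull (pullback.fst p h))]
    (h0 : Function.Injective (EtCore.Hpull (pullback.fst p h) A 0))
    (hs : ∀ i ≤ n, Function.Surjective (EtCore.Hpull (pullback.fst p h) A i)) :
    Good h n ((EtCoh.push p).obj A) := by
  haveI := preservesFiniteLimits_pull p
  haveI := preservesFiniteLimits_pull (pullback.snd p h)
  haveI : IsIntegralHom (pullback.snd p h) := inferInstance
  haveI hbc : IsIso (EtCoh.baseChange0 p h (pullback.snd p h) (pullback.fst p h) pullback.condition A) :=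
    isIso_baseChange0_integral p h (pullback.snd p h) (pullback.fst p h) (IsPullback.of_hasPullback p h) A
  have hb : ∀ i, Function.Bijective (EtLim.HofPush p A i) :=
    fun i => S14451.result p A (fun q hq => S3054.result p A q hq) i
  have hb' : ∀ i, Function.Bijective fun z => EtLim.HofPush (pullback.snd p h) ((EtCoh.pull (pullback.fst p h)).obj A) i
      (((EtCoh.HF Y i).map (EtCoh.baseChange0 p h (pullback.snd p h) (pullback.fst p h) pullback.condition A)).hom z) :=
    fun i => (S14451.result (pullback.snd p h) _ (fun q hq => S3054.result (pullback.snd p h) _ q hq) i).comp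
      (HpullComp.HF_map_bijective _)
  have key := fun i ζ => S14389.result p h (pullback.snd p h) (pullback.fst p h) pullback.condition A i ζ
  refine ⟨fun a b hab => (hb 0).1 (h0 ?_), fun i hi y => ?_⟩
  · rw [key, key, hab]
  · obtain ⟨x, hx⟩ := hs i hi (EtLim.HofPush (pullback.snd p h) ((EtCoh.pull (pullback.fst p h)).obj A) i
      (((EtCoh.HF Y i).map (EtCoh.baseChange0 p h (pullback.snd p h) (pullback.fst p h) pullback.condition A)).hom y))
    obtain ⟨ζ, rfl⟩ := (hb i).2 x
    exact ⟨ζ, (hb' i).1 ((key i ζ).symm.trans hx)⟩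

/-- The map of constant sheaves attached to a map of groups. -/
def constMap (Z : Scheme.{u}) {M N : Type} [AddCommGroup M] [AddCommGroup N] :
    (M →+ N) →+ (EtCoh.const Z M ⟶ EtCoh.const Z N) :=
  AddMonoidHom.mk' (fun φ => (constantSheaf Z.smallEtaleTopology AddCommGrpCat.{u + 1}).map
      (AddCommGrpCat.ofHom ((AddEquiv.ulift.symm.toAddMonoidHom).comp (φ.comp AddEquiv.ulift.toAddMonoidHom))))
    fun φ ψ => by
      haveI : (constantSheaf Z.smallEtaleTopology AddCommGrpCat.{u + 1}).Additive :=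
        Functor.additive_of_preserves_binary_products _
      rw [← Functor.map_add]
      rfl

theorem constMap_comp (Z : Scheme.{u}) {M N P : Type} [AddCommGroup M] [AddCommGroup N] [AddCommGroup P]
    (φ : M →+ N) (ψ : N →+ P) : constMap Z φ ≫ constMap Z ψ = constMap Z (ψ.comp φ) := by
  simp only [constMap, AddMonoidHom.mk'_apply]
  rw [← Functor.map_comp]
  rfl

theorem constMap_id (Z : Scheme.{u}) (M : Type) [AddCommGroup M] :
    constMap Z (AddMonoidHom.id M) = 𝟙 _ := by
  simp only [constMap, AddMonoidHom.mk'_apply]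
  exact (congrArg _ (by ext; rfl)).trans (CategoryTheory.Functor.map_id _ _)

theorem nsmul_id_push_const {Z : Scheme.{u}} (p : Z ⟶ X) (m : ℕ) :
    m • 𝟙 ((EtCoh.push p).obj (EtCoh.const Z (ZMod m))) = 0 := by
  haveI : (EtCoh.push p).Additive := inferInstance
  rw [← CategoryTheory.Functor.map_id, ← constMap_id, ← Functor.map_nsmul, ← map_nsmul]
  have e : m • AddMonoidHom.id (ZMod m) = 0 := AddMonoidHom.ext fun a => by simp
  rw [e, map_zero, Functor.map_zero]

theorem eq_zero_of_coprime {F G : EtCoh.Ab X} (φ : F ⟶ G) {a b : ℕ} (hab : a.Coprime b)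
    (ha : a • φ = 0) (hb : b • φ = 0) : φ = 0 :=
  AddMonoid.addOrderOf_eq_one_iff.1 (Nat.eq_one_of_dvd_coprimes hab
    (addOrderOf_dvd_of_nsmul_eq_zero ha) (addOrderOf_dvd_of_nsmul_eq_zero hb))

variable (L : Set ℕ)

theorem isLTorsion_of_nsmul_id {F : EtCoh.Ab X} {m : ℕ} (hm : EtAcyc.PrimesIn L m) (h0 : m • 𝟙 F = 0) :
    EtAcyc.IsLTorsion L F := fun U s x =>
  ⟨U, 𝟙 U, m, ⟨x, rfl⟩, hm, GalCohAux.EtNsmul.nsmul_sect_eq_zero h0 U _⟩

/-- The hypothesis on constant coefficients. -/
def ConstHyp (n : ℕ) : Prop :=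
  ∀ (X' : Scheme.{u}) (p : X' ⟶ X) [IsFinite p] [PreservesFiniteLimits (EtCoh.pull (pullback.fst p h))] (m : ℕ),
    EtAcyc.PrimesIn L m →
      Function.Injective (EtCore.Hpull (pullback.fst p h) (EtCoh.const X' (ZMod m)) 0) ∧
      ∀ i ≤ n, Function.Surjective (EtCore.Hpull (pullback.fst p h) (EtCoh.const X' (ZMod m)) i)

/-- Constructible sheaves embed into test sheaves. -/
theorem exists_mono_good [CompactSpace X] [QuasiSeparatedSpace X] (n : ℕ) (hc : ConstHyp h L n)
    {G : EtCoh.Ab X} (hG : EtPBC.IsConstructible G) {m : ℕ} (hm : EtAcyc.PrimesIn L m) (h0 : m • 𝟙 G = 0) :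
    ∃ (E : EtCoh.Ab X) (ι : G ⟶ E), Mono ι ∧ Good h n E ∧ EtAcyc.IsLTorsion L (cokernel ι) := by
  classical
  obtain ⟨N, T, f, hf, -, M, hM, hMf, ι₀, hι₀⟩ := EtConsAb.exists_embedding hG
  have hdec := fun i => @AddCommGroup.equiv_directSum_zmod_of_finite (M i) (hM i) (hMf i)
  choose J hJ q hq k hk using hdec
  let e := fun i => (hk i).some
  let πJ : ∀ i (j : J i), M i →+ ZMod (q i j ^ k i j) := fun i j =>
    (DFinsupp.evalAddMonoidHom (β := fun j => ZMod (q i j ^ k i j)) j).comp (e i).toAddMonoidHom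
  let ιJ : ∀ i (j : J i), ZMod (q i j ^ k i j) →+ M i := fun i j =>
    (e i).symm.toAddMonoidHom.comp (DirectSum.of (fun j => ZMod (q i j ^ k i j)) j)
  have htot : ∀ i, ∑ j, (ιJ i j).comp (πJ i j) = AddMonoidHom.id (M i) := fun i => by
    refine AddMonoidHom.ext fun a => (e i).injective ?_
    simp only [AddMonoidHom.finsetSum_apply, map_sum, AddMonoidHom.comp_apply, AddMonoidHom.id_apply, ιJ, πJ]
    simp only [AddEquiv.coe_toAddMonoidHom, AddEquiv.apply_symm_apply]
    exact DirectSum.sum_univ_of (β := fun j => ZMod (q i j ^ k i j)) (e i a)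
  let K := { x : Σ i, J i // q x.1 x.2 ∈ L }
  let β : K → EtCoh.Ab X := fun x =>
    (EtCoh.push (f x.1.1)).obj (EtCoh.const (T x.1.1) (ZMod (q x.1.1 x.1.2 ^ k x.1.1 x.1.2)))
  let ι : G ⟶ ⨁ β := biproduct.lift fun x =>
    ι₀ ≫ biproduct.π _ x.1.1 ≫ (EtCoh.push (f x.1.1)).map (constMap (T x.1.1) (πJ x.1.1 x.1.2))
  have hprimes : ∀ x : K, EtAcyc.PrimesIn L (q x.1.1 x.1.2 ^ k x.1.1 x.1.2) := fun x =>
    ⟨pow_pos (hq _ _).pos _, fun p hp hd => (Nat.prime_dvd_prime_iff_eq hp (hq _ _)).1 (hp.dvd_of_dvd_pow hd) ▸ x.2⟩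
  have hmono : Mono ι := Preadditive.mono_of_cancel_zero _ fun {Z} a ha => by
    refine (cancel_mono ι₀).1 ?_
    rw [zero_comp]
    refine biproduct.hom_ext _ _ fun i => ?_
    rw [zero_comp]
    have e1 : a ≫ ι₀ ≫ biproduct.π _ i =
        ∑ j, (a ≫ ι₀ ≫ biproduct.π _ i ≫ (EtCoh.push (f i)).map (constMap (T i) (πJ i j))) ≫
          (EtCoh.push (f i)).map (constMap (T i) (ιJ i j)) := by
      simp only [Category.assoc, ← Functor.map_comp, constMap_comp, ← Preadditive.comp_sum, ← Functor.map_sum,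
        ← map_sum, htot, constMap_id, CategoryTheory.Functor.map_id]
      erw [Category.comp_id]
    rw [Category.assoc, e1]
    refine Finset.sum_eq_zero fun j _ => ?_
    by_cases hj : q i j ∈ L
    · have h2 := congrArg (· ≫ biproduct.π β ⟨⟨i, j⟩, hj⟩) ha
      simp only [ι, Category.assoc, biproduct.lift_π, zero_comp] at h2
      rw [h2, zero_comp]
    · have h3 : ι₀ ≫ biproduct.π _ i ≫ (EtCoh.push (f i)).map (constMap (T i) (πJ i j)) = 0 := by
        refine eq_zero_of_coprime _ (a := m) (b := q i j ^ k i j) ?_ ?_ ?_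
        · refine Nat.Coprime.pow_right _ (Nat.Coprime.symm ((hq i j).coprime_iff_not_dvd.2 fun hd => hj ?_))
          exact hm.2 _ (hq i j) hd
        · rw [← Category.id_comp (ι₀ ≫ _), ← Preadditive.nsmul_comp, h0, zero_comp]
        · rw [← Category.comp_id (ι₀ ≫ _), ← Preadditive.comp_nsmul, nsmul_id_push_const, comp_zero]
      rw [h3, comp_zero, zero_comp]
  refine ⟨⨁ β, ι, hmono, ?_, ?_⟩
  · refine good_biproduct h n β fun x => ?_
    haveI := hf x.1.1
    haveI := preservesFiniteLimits_pull (pullback.fst (f x.1.1) h)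
    obtain ⟨h1, h2⟩ := hc _ (f x.1.1) _ (hprimes x)
    exact good_push h n (f x.1.1) _ h1 h2
  · have hP : EtAcyc.PrimesIn L (∏ x : K, q x.1.1 x.1.2 ^ k x.1.1 x.1.2) :=
      TorsionPush.primesIn_prod _ _ hprimes
    refine TorsionPush.isLTorsion_of_epi L (cokernel.π ι) (isLTorsion_of_nsmul_id L hP ?_)
    refine biproduct.hom_ext _ _ fun x => ?_
    obtain ⟨c, hc'⟩ := Finset.dvd_prod_of_mem (fun x : K => q x.1.1 x.1.2 ^ k x.1.1 x.1.2) (Finset.mem_univ x)
    rw [hc', Preadditive.nsmul_comp, Category.id_comp, zero_comp]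
    conv_lhs => rw [← Category.comp_id (biproduct.π β x), mul_comm, mul_nsmul', ← Preadditive.comp_nsmul,
      nsmul_id_push_const, comp_zero, smul_zero]

variable [CompactSpace X] [QuasiSeparatedSpace X] [CompactSpace Y] [QuasiSeparatedSpace Y]

/-- Surjectivity passes to filtered colimits. -/
theorem surjective_colimit {J : Type (u + 1)} [SmallCategory J] [IsFiltered J] {D : J ⥤ EtCoh.Ab X}
    {c : Cocone D} (hD : IsColimit c) (i : ℕ) (hs : ∀ j, Function.Surjective (EtCore.Hpull h (D.obj j) i)) :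
    Function.Surjective (EtCore.Hpull h c.pt i) := fun y => by
  haveI : PreservesColimitsOfSize.{u + 1, u + 1} (EtCoh.pull h) :=
    (EtCoh.pullPushAdj h).leftAdjoint_preservesColimits
  obtain ⟨j, z, hz⟩ := (CohColimLarge.coh_colimit i (isColimitOfPreserves (EtCoh.pull h) hD)).1 y
  obtain ⟨x, rfl⟩ := hs j z
  exact ⟨Sheaf.H.map (c.ι.app j) i x, (Hpull_map h _ i x).trans hz⟩

/-- Injectivity passes to filtered colimits. -/
theorem injective_colimit {J : Type (u + 1)} [SmallCategory J] [IsFiltered J] {D : J ⥤ EtCoh.Ab X}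
    {c : Cocone D} (hD : IsColimit c) (i : ℕ) (hs : ∀ j, Function.Injective (EtCore.Hpull h (D.obj j) i)) :
    Function.Injective (EtCore.Hpull h c.pt i) := (injective_iff_map_eq_zero _).2 fun x hx => by
  haveI : PreservesColimitsOfSize.{u + 1, u + 1} (EtCoh.pull h) :=
    (EtCoh.pullPushAdj h).leftAdjoint_preservesColimits
  obtain ⟨j, z, rfl⟩ := (CohColimLarge.coh_colimit i hD).1 x
  obtain ⟨l, φ, hl⟩ := (CohColimLarge.coh_colimit i (isColimitOfPreserves (EtCoh.pull h) hD)).2 j _
    ((Hpull_map h (c.ι.app j) i z).symm.trans hx)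
  have h1 : Sheaf.H.map (D.map φ) i z = 0 := hs l (by
    rw [Hpull_map, map_zero]
    exact hl)
  rw [← c.w φ, Sheaf.H.map_comp_apply, h1, map_zero]

theorem isTorsion_of_isLTorsion {F : EtCoh.Ab X} (hF : EtAcyc.IsLTorsion L F) : EtCoh.IsTorsion F := fun U s x => by
  obtain ⟨V, g, m, hv, hm, hz⟩ := hF U s x
  exact ⟨V, g, hv, isOfFinAddOrder_iff_nsmul_eq_zero.2 ⟨m, hm.1, hz⟩⟩

/-- A sheaf killed by `m` is a filtered colimit of constructible sheaves killed by `m`. -/
theorem exists_colimit_constructible {F : EtCoh.Ab X} {m : ℕ} (hm : EtAcyc.PrimesIn L m) (h0 : m • 𝟙 F = 0) :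
    ∃ (J : Type (u + 1)) (_ : SmallCategory J) (_ : IsFiltered J) (D : J ⥤ EtCoh.Ab X) (c : Cocone D),
      Nonempty (IsColimit c) ∧ c.pt = F ∧ ∀ j, EtPBC.IsConstructible (D.obj j) ∧ m • 𝟙 (D.obj j) = 0 := by
  classical
  let P : Stage F → Prop := fun _ => True
  have hP : ∀ p, ∃ q, p ≤ q ∧ P q := fun p => ⟨p, le_refl p, trivial⟩
  haveI := Stage.directed_subtype P hP
  haveI : Nonempty {p // P p} := ⟨⟨Classical.arbitrary _, trivial⟩⟩
  obtain ⟨hcol⟩ := Stage.nonempty_isColimit_cocone (isTorsion_of_isLTorsion L (isLTorsion_of_nsmul_id L hm h0)) P hP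
  let D₀ := Stage.diagram (F := F) P
  let c₀ := Stage.cocone (F := F) P
  let D : {p // P p} ⥤ EtCoh.Ab X :=
    { obj := fun p => cokernel (m • 𝟙 (D₀.obj p))
      map := fun {p p'} a => cokernel.map _ _ (D₀.map a) (D₀.map a) (by simp)
      map_id := fun p => coequalizer.hom_ext (by simp)
      map_comp := fun a b => coequalizer.hom_ext (by simp) }
  let c : Cocone D :=
    { pt := F
      ι :=
        { app := fun p => cokernel.desc _ (c₀.ι.app p) (by
            rw [Preadditive.nsmul_comp, Category.id_comp, ← Category.comp_id (c₀.ι.app p),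
              ← Preadditive.comp_nsmul]
            erw [h0]
            exact comp_zero)
          naturality := fun p p' a => by
            refine coequalizer.hom_ext ?_
            simp only [D, cokernel.π_desc_assoc, Category.assoc, cokernel.π_desc]
            exact (c₀.w a).trans (by simp [cokernel.π_desc]) } }
  refine ⟨_, inferInstance, inferInstance, D, c, nonempty_isColimit_of_stalk c (fun Ω _ _ ξ y => ?_)
    (fun Ω _ _ ξ p y hy => ?_), rfl, fun p => ⟨?_, ?_⟩⟩
  · obtain ⟨p, x, rfl⟩ := Concrete.isColimit_exists_rep _ (isColimitOfPreserves (EtCoh.stalk ξ) hcol) y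
    refine ⟨p, (EtCoh.stalk ξ).map (cokernel.π _) x, ?_⟩
    rw [← ConcreteCategory.comp_apply, ← Functor.map_comp]
    simp only [c, cokernel.π_desc]
    rfl
  · obtain ⟨x, rfl⟩ := stalk_surjective_of_epi ξ (cokernel.π (m • 𝟙 (D₀.obj p))) y
    rw [← ConcreteCategory.comp_apply, ← Functor.map_comp] at hy
    simp only [c, cokernel.π_desc] at hy
    obtain ⟨l, a, b, hab⟩ := Concrete.isColimit_exists_of_rep_eq _ (isColimitOfPreserves (EtCoh.stalk ξ) hcol)
      (i := p) (j := p) x 0 (hy.trans (map_zero _).symm)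
    refine ⟨l, a, ?_⟩
    have hab' : (EtCoh.stalk ξ).map (D₀.map a) x = 0 := hab.trans (map_zero _)
    rw [← ConcreteCategory.comp_apply, ← Functor.map_comp]
    simp only [D, cokernel.π_desc]
    rw [Functor.map_comp, ConcreteCategory.comp_apply, hab', map_zero]
  · exact isConstructible_cokernel _ (Stage.isConstructible_obj p.1) (Stage.isConstructible_obj p.1)
  · exact GalCohAux.EtNsmul.nsmul_id_cokernel m

/-- An `L`-torsion sheaf is the colimit of its parts killed by the members of `L`. -/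
theorem exists_colimit_killed {F : EtCoh.Ab X} (hF : EtAcyc.IsLTorsion L F) :
    ∃ (D : TorsionPush.Idx.{u + 1} L ⥤ EtCoh.Ab X) (c : Cocone D),
      Nonempty (IsColimit c) ∧ c.pt = F ∧ ∀ j, j.m • 𝟙 (D.obj j) = 0 := by
  have hle : ∀ {a b : TorsionPush.Idx.{u + 1} L}, (a ⟶ b) → kernel.ι (a.m • 𝟙 F) ≫ (b.m • 𝟙 F) = 0 :=
    fun {a b} f => by
      obtain ⟨c, hc⟩ := (leOfHom f : a.m ∣ b.m)
      rw [hc, mul_comm, mul_nsmul', Preadditive.comp_nsmul, kernel.condition, smul_zero]
  let D : TorsionPush.Idx.{u + 1} L ⥤ EtCoh.Ab X :=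
    { obj := fun a => kernel (a.m • 𝟙 F)
      map := fun {a b} f => kernel.lift _ (kernel.ι _) (hle f)
      map_id := fun a => equalizer.hom_ext (by simp)
      map_comp := fun f g => equalizer.hom_ext (by simp) }
  let c : Cocone D :=
    { pt := F
      ι := { app := fun a => kernel.ι _
             naturality := fun a b f => by simp [D] } }
  refine ⟨D, c, nonempty_isColimit_of_stalk c (fun Ω _ _ ξ y => ?_) (fun Ω _ _ ξ a y hy => ?_), rfl,
    fun a => GalCohAux.EtNsmul.nsmul_id_kernel a.m⟩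
  · obtain ⟨m, hm, hz⟩ := GalCohAux.EtDimVanD.stalk_lTorsion hF ξ y
    refine ⟨⟨m, hm⟩, stalk_exact_apply ξ (ShortComplex.mk _ _ (kernel.condition (m • 𝟙 F)))
      (ShortComplex.exact_of_f_is_kernel _ (kernelIsKernel (m • 𝟙 F))) y ?_⟩
    haveI : (EtCoh.stalk ξ).Additive := Functor.additive_of_preserves_binary_products _
    show (EtCoh.stalk ξ).map (m • 𝟙 F) y = 0
    rw [Functor.map_nsmul, CategoryTheory.Functor.map_id]
    exact hz
  · exact ⟨a, 𝟙 a, by
      rw [CategoryTheory.Functor.map_id, CategoryTheory.Functor.map_id]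
      exact (mono_iff_stalk (kernel.ι (a.m • 𝟙 F))).1 inferInstance Ω ξ (hy.trans (map_zero _).symm)⟩

/-- A property stable under filtered colimits and true of constructible killed sheaves holds. -/
theorem induction_colimit (P : EtCoh.Ab X → Prop)
    (hcol : ∀ {J : Type (u + 1)} [SmallCategory J] [IsFiltered J] {D : J ⥤ EtCoh.Ab X} {c : Cocone D},
      IsColimit c → (∀ j, P (D.obj j)) → P c.pt)
    (hbase : ∀ (G : EtCoh.Ab X) (m : ℕ), EtPBC.IsConstructible G → EtAcyc.PrimesIn L m → m • 𝟙 G = 0 → P G)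
    (F : EtCoh.Ab X) (hF : EtAcyc.IsLTorsion L F) : P F := by
  obtain ⟨D, c, ⟨hc⟩, rfl, hk⟩ := exists_colimit_killed L hF
  refine hcol hc fun a => ?_
  obtain ⟨J, _, _, D', c', ⟨hc'⟩, e, hk'⟩ := exists_colimit_constructible L a.prop (hk a)
  exact e ▸ hcol hc' fun j => hbase _ _ (hk' j).1 a.prop (hk' j).2

include L in
/-- **The criterion.** -/
theorem criterion (n : ℕ) (hc : ConstHyp h L n) :
    ∀ i : ℕ, ∀ F : EtCoh.Ab X, EtAcyc.IsLTorsion L F →
      (i ≤ n → Function.Bijective (EtCore.Hpull h F i)) ∧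
        (i ≤ n + 1 → Function.Injective (EtCore.Hpull h F i)) := by
  intro i
  induction i with
  | zero =>
    have hinj : ∀ F : EtCoh.Ab X, EtAcyc.IsLTorsion L F → Function.Injective (EtCore.Hpull h F 0) :=
      induction_colimit L (fun F => Function.Injective (EtCore.Hpull h F 0))
        (fun hD hs => injective_colimit h hD 0 hs)
        fun G m hG hm h0 => by
          obtain ⟨E, ι, hι, hE, -⟩ := exists_mono_good h L n hc hG hm h0
          refine fun a b hab => (Abelian.Ext.mk₀_bijective _ _).2 a |>.elim fun a' ha =>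
            ((Abelian.Ext.mk₀_bijective _ _).2 b).elim fun b' hb' => ?_
          have h1 : Sheaf.H.map ι 0 a = Sheaf.H.map ι 0 b := hE.1 (by rw [Hpull_map, Hpull_map, hab])
          rw [← ha, ← hb', Sheaf.H.map_apply, Sheaf.H.map_apply, Abelian.Ext.mk₀_comp_mk₀,
            Abelian.Ext.mk₀_comp_mk₀] at h1
          rw [← ha, ← hb', (cancel_mono ι).1 ((Abelian.Ext.mk₀_bijective _ _).1 h1)]
    have hsurj : ∀ F : EtCoh.Ab X, EtAcyc.IsLTorsion L F → Function.Surjective (EtCore.Hpull h F 0) :=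
      induction_colimit L (fun F => Function.Surjective (EtCore.Hpull h F 0))
        (fun hD hs => surjective_colimit h hD 0 hs)
        fun G m hG hm h0 y => by
          obtain ⟨E, ι, hι, hE, hC⟩ := exists_mono_good h L n hc hG hm h0
          let S : ShortComplex (EtCoh.Ab X) := ShortComplex.mk ι (cokernel.π ι) (cokernel.condition ι)
          have hS : S.ShortExact := { exact := ShortComplex.exact_cokernel ι, mono_f := hι }
          obtain ⟨e, he⟩ := hE.2 0 (Nat.zero_le n) (Sheaf.H.map ((EtCoh.pull h).map ι) 0 y)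
          have h1 : Sheaf.H.map (cokernel.π ι) 0 e = 0 := hinj _ hC (by
            rw [Hpull_map, he, map_zero, ← Sheaf.H.map_comp_apply, ← Functor.map_comp, cokernel.condition,
              Functor.map_zero, Sheaf.H.map_apply, Abelian.Ext.mk₀_zero, Abelian.Ext.comp_zero])
          obtain ⟨g, hg⟩ := Abelian.Ext.covariant_sequence_exact₂ _ hS e h1
          refine ⟨g, ?_⟩
          obtain ⟨g', hg'⟩ := (Abelian.Ext.mk₀_bijective _ _).2 (EtCore.Hpull h G 0 g)
          obtain ⟨y', hy'⟩ := (Abelian.Ext.mk₀_bijective _ _).2 y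
          have h2 : Sheaf.H.map ((EtCoh.pull h).map ι) 0 (EtCore.Hpull h G 0 g) =
              Sheaf.H.map ((EtCoh.pull h).map ι) 0 y := by
            rw [← he, ← Hpull_map]
            exact congrArg _ hg
          rw [← hg', ← hy', Sheaf.H.map_apply, Sheaf.H.map_apply, Abelian.Ext.mk₀_comp_mk₀,
            Abelian.Ext.mk₀_comp_mk₀] at h2
          rw [← hg', ← hy', (cancel_mono ((EtCoh.pull h).map ι)).1 ((Abelian.Ext.mk₀_bijective _ _).1 h2)]
    exact fun F hF => ⟨fun _ => ⟨hinj F hF, hsurj F hF⟩, fun _ => hinj F hF⟩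
  | succ i ih =>
    have hinj : ∀ F : EtCoh.Ab X, EtAcyc.IsLTorsion L F →
        i + 1 ≤ n + 1 → Function.Injective (EtCore.Hpull h F (i + 1)) := by
      intro F hF hin
      obtain ⟨S, rfl, hS, hQ, I, hI, hX₂⟩ := EtDescSS.CompBC.exists_embedding L hF
      haveI := hI
      have hK : EtAcyc.IsLTorsion L S.X₂ := hX₂ ▸ TorsionPush.isLTorsion_kernel L I
      haveI : Subsingleton (EtCoh.H X S.X₂ (i + 1)) := hX₂ ▸ EtDescSS.CompBC.subsingleton_H_kernel L I i
      rw [injective_iff_map_eq_zero]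
      intro e he
      obtain ⟨y, rfl⟩ := Abelian.Ext.covariant_sequence_exact₁ _ hS e
        (Subsingleton.elim (α := EtCoh.H X S.X₂ (i + 1)) _ _) (rfl : i + 1 = i + 1)
      obtain ⟨w', hw'⟩ := Abelian.Ext.covariant_sequence_exact₃ _
        (hS.map_of_exact (EtCoh.pull h)) _ (rfl : i + 1 = i + 1)
        ((HpullSeq.Hpull_extClass h hS i y).symm.trans he)
      obtain ⟨w₀, rfl⟩ := ((ih S.X₂ hK).1 (by omega)).2 w'
      have hy : y = w₀.comp (Abelian.Ext.mk₀ S.g) (add_zero i) :=
        ((ih S.X₃ hQ).1 (by omega)).1 (hw'.symm.trans (HpullSeq.Hpull_postcomp h S.g i w₀).symm)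
      rw [hy, Abelian.Ext.comp_assoc_of_second_deg_zero, hS.comp_extClass, Abelian.Ext.comp_zero]
    intro F hF
    refine ⟨fun hin => ⟨hinj F hF (by omega), ?_⟩, hinj F hF⟩
    refine induction_colimit L (fun F => Function.Surjective (EtCore.Hpull h F (i + 1)))
      (fun hD hs => surjective_colimit h hD (i + 1) hs) (fun G m hG hm h0 y => ?_) F hF
    obtain ⟨E, ι, hι, hE, hC⟩ := exists_mono_good h L n hc hG hm h0
    let S : ShortComplex (EtCoh.Ab X) := ShortComplex.mk ι (cokernel.π ι) (cokernel.condition ι)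
    have hS : S.ShortExact := { exact := ShortComplex.exact_cokernel ι, mono_f := hι }
    obtain ⟨e, he⟩ := hE.2 (i + 1) hin (Sheaf.H.map ((EtCoh.pull h).map ι) (i + 1) y)
    have h1 : Sheaf.H.map (cokernel.π ι) (i + 1) e = 0 := hinj _ hC (by omega) (by
      rw [Hpull_map, he, map_zero, ← Sheaf.H.map_comp_apply, ← Functor.map_comp, cokernel.condition,
        Functor.map_zero, Sheaf.H.map_apply, Abelian.Ext.mk₀_zero, Abelian.Ext.comp_zero])
    obtain ⟨g, hg⟩ := Abelian.Ext.covariant_sequence_exact₂ _ hS e h1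
    have h2 : Sheaf.H.map ((EtCoh.pull h).map ι) (i + 1) (y - EtCore.Hpull h G (i + 1) g) = 0 := by
      rw [map_sub, sub_eq_zero, ← he, ← Hpull_map]
      exact congrArg _ hg.symm
    obtain ⟨d', hd'⟩ := Abelian.Ext.covariant_sequence_exact₁ _ (hS.map_of_exact (EtCoh.pull h)) _ h2
      (rfl : i + 1 = i + 1)
    obtain ⟨d, rfl⟩ := ((ih _ hC).1 (by omega)).2 d'
    refine ⟨g + d.comp hS.extClass rfl, ?_⟩
    rw [map_add, HpullSeq.Hpull_extClass h hS i d]
    exact (congrArg (EtCore.Hpull h G (i + 1) g + ·) hd').trans (add_sub_cancel _ _)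

end Groth.Agent.EtConsAb.CompareCrit
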