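import Groth.Agent.EtConsAb.Constructible
import Groth.Agent.EtConsAb.Serre

/-!
# Kernels, cokernels, extensions and finite sums of constructible sheaves of modules
-/

universe u

open CategoryTheory CategoryTheory.Limits AlgebraicGeometry Opposite Topology

namespace Groth.Agent.EtConsAb

open Groth.Agent Groth.Agent.EtaleSite

variable {X : Scheme.{u}}

/-- Two constructible sheaves are simultaneously locally constant on a common stratification. -/
theorem exists_common_strata {F G : EtCoh.Ab X} (hF : EtPBC.IsConstructible F)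
    (hG : EtPBC.IsConstructible G) {U : X.Opens} (hU : IsAffineOpen U) :
    ∃ (ι : Type) (_ : Finite ι) (T : ι → Scheme.{u}) (g : ∀ i, T i ⟶ X),
      (∀ i, IsImmersion (g i)) ∧
      (∀ i, IsConstructible ((Subtype.val : ↥(U : Set X) → X) ⁻¹' Set.range (g i))) ∧
      Pairwise (fun i j => Disjoint (Set.range (g i)) (Set.range (g j))) ∧
      (⋃ i, Set.range (g i)) = (U : Set X) ∧
      ∀ i, EtCoh.IsFiniteLocallyConstant ((EtCoh.pull (g i)).obj F) ∧
        EtCoh.IsFiniteLocallyConstant ((EtCoh.pull (g i)).obj G) := by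
  obtain ⟨n, T, g, hg, hgc, hgd, hgu, hgF⟩ := hF U hU
  obtain ⟨m, S, h, hh, hhc, hhd, hhu, hhG⟩ := hG U hU
  let k : ∀ p : Fin n × Fin m, pullback (g p.1) (h p.2) ⟶ X := fun p =>
    pullback.fst (g p.1) (h p.2) ≫ g p.1
  have hr : ∀ p, Set.range (k p) = Set.range (g p.1) ∩ Set.range (h p.2) := fun p => by
    rw [show ⇑(k p) = g p.1 ∘ pullback.fst (g p.1) (h p.2) from funext fun _ => Scheme.Hom.comp_apply _ _ _,
      Set.range_comp, Scheme.Pullback.range_fst, Set.image_preimage_eq_inter_range, Set.inter_comm]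
  refine ⟨Fin n × Fin m, inferInstance, fun p => pullback (g p.1) (h p.2), k, fun p => ?_, fun p => ?_,
    ?_, ?_, fun p => ⟨?_, ?_⟩⟩
  · haveI := hg p.1
    haveI := hh p.2
    infer_instance
  · rw [hr, Set.preimage_inter]
    exact (hgc p.1).inter (hhc p.2)
  · rintro ⟨a, b⟩ ⟨c, d⟩ hne
    rw [hr, hr]
    rcases eq_or_ne a c with rfl | hac
    · exact (hhd fun hbd => hne (Prod.ext rfl hbd)).mono Set.inter_subset_right Set.inter_subset_right
    · exact (hgd hac).mono Set.inter_subset_left Set.inter_subset_left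
  · refine Set.Subset.antisymm (Set.iUnion_subset fun p => ?_) fun x hx => ?_
    · rw [hr]
      exact Set.inter_subset_left.trans ((Set.subset_iUnion _ p.1).trans hgu.subset)
    · obtain ⟨a, ha⟩ := Set.mem_iUnion.1 (hgu.ge hx)
      obtain ⟨b, hb⟩ := Set.mem_iUnion.1 (hhu.ge hx)
      exact Set.mem_iUnion.2 ⟨(a, b), (hr (a, b)).ge ⟨ha, hb⟩⟩
  · exact isFLC_pull_comp (g p.1) (pullback.fst (g p.1) (h p.2)) (hgF p.1)
  · exact isFLC_of_iso ((pullCongr pullback.condition.symm).app G)
      (isFLC_pull_comp (h p.2) (pullback.snd (g p.1) (h p.2)) (hhG p.2))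



/-- Kernels of maps of constructible sheaves are constructible. -/
theorem isConstructible_kernel {F G : EtCoh.Ab X} (a : F ⟶ G) (hF : EtPBC.IsConstructible F)
    (hG : EtPBC.IsConstructible G) : EtPBC.IsConstructible (kernel a) := by
  intro U hU
  obtain ⟨ι, _, T, g, hg, hc, hd, hu, h⟩ := exists_common_strata hF hG hU
  exact adaptedStrata_of_fintype T g hg hc hd hu fun i =>
    isFLC_of_iso (PreservesKernel.iso (EtCoh.pull (g i)) a).symm
      (isFLC_kernel _ (h i).1 (h i).2)

/-- Cokernels of maps of constructible sheaves are constructible. -/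
theorem isConstructible_cokernel {F G : EtCoh.Ab X} (a : F ⟶ G) (hF : EtPBC.IsConstructible F)
    (hG : EtPBC.IsConstructible G) : EtPBC.IsConstructible (cokernel a) := by
  intro U hU
  obtain ⟨ι, _, T, g, hg, hc, hd, hu, h⟩ := exists_common_strata hF hG hU
  exact adaptedStrata_of_fintype T g hg hc hd hu fun i =>
    isFLC_of_iso (PreservesCokernel.iso (EtCoh.pull (g i)) a).symm
      (isFLC_cokernel _ (h i).1 (h i).2)

/-- Extensions of constructible sheaves are constructible. -/
theorem isConstructible_extension (S : ShortComplex (EtCoh.Ab X)) (hS : S.ShortExact)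
    (h₁ : EtPBC.IsConstructible S.X₁) (h₃ : EtPBC.IsConstructible S.X₃) :
    EtPBC.IsConstructible S.X₂ := by
  intro U hU
  obtain ⟨ι, _, T, g, hg, hc, hd, hu, h⟩ := exists_common_strata h₁ h₃ hU
  exact adaptedStrata_of_fintype T g hg hc hd hu fun i =>
    isFLC_extension (S.map (EtCoh.pull (g i))) (hS.map_of_exact _) (h i).1 (h i).2

/-- A zero sheaf is constructible. -/
theorem isConstructible_of_isZero {F G : EtCoh.Ab X} (hF : IsZero F)
    (hG : EtPBC.IsConstructible G) : EtPBC.IsConstructible F :=
  isConstructible_of_iso ((hF.iso (isZero_cokernel_of_epi (𝟙 G))).symm)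
    (isConstructible_cokernel (𝟙 G) hG hG)

/-- Images of maps of constructible sheaves are constructible. -/
theorem isConstructible_image {F G : EtCoh.Ab X} (a : F ⟶ G) (hF : EtPBC.IsConstructible F)
    (hG : EtPBC.IsConstructible G) : EtPBC.IsConstructible (Abelian.image a) :=
  isConstructible_kernel _ hG (isConstructible_cokernel a hF hG)

/-- Finite sums of constructible sheaves are constructible. -/
theorem isConstructible_biprod {F G : EtCoh.Ab X} (hF : EtPBC.IsConstructible F)
    (hG : EtPBC.IsConstructible G) : EtPBC.IsConstructible (F ⊞ G) :=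
  isConstructible_extension (ShortComplex.mk biprod.inl biprod.snd biprod.inl_snd)
    (ShortComplex.Splitting.ofHasBinaryBiproduct F G).shortExact hF hG

end Groth.Agent.EtConsAb
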