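import Groth.Agent.EtConsAb.FieldPush
import Groth.Agent.EtColim.TorsionPush
import Groth.Agent.S0124

/-!
# Cohomology of sheaves pushed from a point is torsion in positive degrees
-/

set_option linter.style.haveILetI false

universe u

open CategoryTheory CategoryTheory.Limits AlgebraicGeometry Opposite Topology

noncomputable section

namespace Groth.Agent.EtConsAb.PointTorsion

open Groth.Agent Groth.Agent.EtaleSite

variable {K : Type u} [Field K]

/-- Positive degree cohomology of a one-point étale scheme over a field is torsion. -/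
theorem isOfFinAddOrder_H_one_point {n : ℕ} (hn : 0 < n) (U : (Spec (CommRingCat.of K)).Etale)
    [Subsingleton ↥U.left] [Nonempty ↥U.left] (F : EtCoh.Ab U.left) (α : EtCoh.H U.left F n) :
    IsOfFinAddOrder α := by
  let h : U.left ⟶ Spec (CommRingCat.of K) := U.hom
  haveI : Etale h := U.prop
  obtain ⟨p⟩ := ‹Nonempty ↥U.left›
  obtain ⟨A, hA, hpA, -⟩ := exists_isAffineOpen_mem_and_subset (show p ∈ (⊤ : U.left.Opens) from trivial)
  haveI : IsAffine U.left := by
    have hAt : A = ⊤ := top_unique fun q _ => Subsingleton.elim p q ▸ hpA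
    subst hAt
    haveI : IsAffine (⊤ : U.left.Opens) := hA
    exact IsAffine.of_isIso (Scheme.topIso U.left).inv
  haveI : AlgebraicGeometry.IsReduced U.left := EtStruct.isReduced_of_etale_unibranch h fun y => by
    obtain rfl : y = genericPoint ↥(Spec (CommRingCat.of K)) := Subsingleton.elim (α := PrimeSpectrum K) _ _
    haveI : IsIntegrallyClosed ((Spec (CommRingCat.of K)).presheaf.stalk
        (genericPoint ↥(Spec (CommRingCat.of K)))) :=
      inferInstanceAs (IsIntegrallyClosed (Spec (CommRingCat.of K)).functionField)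
    exact Comod.isGeomUnibranch_of_normal _
  let R := Γ(U.left, ⊤)
  haveI : Subsingleton (PrimeSpectrum R) := U.left.isoSpec.hom.homeomorph.toEquiv.symm.subsingleton
  haveI : Nonempty (PrimeSpectrum R) := ⟨U.left.isoSpec.hom p⟩
  haveI : Nontrivial R := PrimeSpectrum.nonempty_iff_nontrivial.1 inferInstance
  have hR : IsField R := PrimeSpectrum.subsingleton_iff_isField_of_isReduced.1 inferInstance
  letI := hR.toField
  let ψ : Spec (CommRingCat.of R) ⟶ U.left := U.left.isoSpec.inv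
  haveI : PreservesFiniteLimits (EtCoh.pull ψ) := EtaleSite.preservesFiniteLimits_pull _
  obtain ⟨m, hm, h0⟩ := isOfFinAddOrder_iff_nsmul_eq_zero.1
    (GalCohAux.EtTower.isOfFinAddOrder hn _ (EtCore.Hpull ψ F n α))
  refine isOfFinAddOrder_iff_nsmul_eq_zero.2 ⟨m, hm, ?_⟩
  apply (HpullComp.Hpull_bijective_of_isIso ψ n F).1
  rw [map_nsmul, h0, map_zero]

theorem app_nsmul_id {Y : Scheme.{u}} (F : EtCoh.Ab Y) (n : ℕ) (U : Y.Etale) (t : F.obj.obj (op U)) :
    (n • 𝟙 F : F ⟶ F).hom.app (op U) t = n • t := by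
  induction n with
  | zero => simp
  | succ n ih =>
    rw [succ_nsmul, succ_nsmul, Sheaf.Hom.add_app]
    change ((n • 𝟙 F : F ⟶ F).hom.app (op U)) t + t = n • t + t
    rw [ih]

/-- Obstructions to lifting sections over quasi-compact étale schemes of a field are torsion. -/
theorem exists_nsmul_lift {S : ShortComplex (EtCoh.Ab (Spec (CommRingCat.of K)))} (hS : S.ShortExact)
    (W : (Spec (CommRingCat.of K)).Etale) [CompactSpace ↥W.left] (t : S.X₃.obj.obj (op W)) :
    ∃ (N : ℕ) (_ : 0 < N) (x : S.X₂.obj.obj (op W)), S.g.hom.app (op W) x = N • t := by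
  classical
  haveI : Etale W.hom := W.prop
  haveI : LocallyQuasiFinite W.hom := EtStruct.locallyQuasiFinite_of_formallyUnramified W.hom
  let h : W.left ⟶ Spec (CommRingCat.of K) := W.hom
  have hopen : ∀ w : W.left, IsOpen ({w} : Set W.left) := fun w => by
    have hd := h.isDiscrete_preimage_singleton (h w)
    rw [Set.eq_univ_of_forall (s := h ⁻¹' {h w}) fun v => Subsingleton.elim (α := PrimeSpectrum K) _ _] at hd
    haveI : DiscreteTopology ↥W.left := isDiscrete_univ_iff.1 hd
    exact isOpen_discrete _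
  obtain ⟨J, hJ⟩ := isCompact_univ.elim_finite_subcover (fun w : W.left => ({w} : Set W.left)) hopen
    fun w _ => Set.mem_iUnion.2 ⟨w, rfl⟩
  have hlift : ∀ w : W.left, ∃ (n : ℕ) (_ : 0 < n) (s : S.X₂.obj.obj (op (piece W ⟨{w}, hopen w⟩))),
      S.g.hom.app _ s = n • S.X₃.obj.map (pieceHom W ⟨{w}, hopen w⟩).op t := fun w => by
    let U := piece W ⟨{w}, hopen w⟩
    haveI : Subsingleton ↥U.left := ⟨fun a b => Subtype.ext (a.2.trans b.2.symm)⟩
    haveI : Nonempty ↥U.left := ⟨⟨w, rfl⟩⟩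
    obtain ⟨φ, hφ⟩ := (Flasque.freeSec_bijective U S.X₃).2 (S.X₃.obj.map (pieceHom W ⟨{w}, hopen w⟩).op t)
    have : (EtShriek.extZero U.hom).Additive := (EtSupp.extPullAdj U.hom).left_adjoint_additive
    have : PreservesColimitsOfSize.{0, 0} (EtShriek.extZero U.hom) :=
      (EtShriek.extZeroAdj U.hom).leftAdjoint_preservesColimits
    have : PreservesFiniteColimits (EtShriek.extZero U.hom) :=
      PreservesColimitsOfSize.preservesFiniteColimits _
    let e : Abelian.Ext (Flasque.freeOn U) S.X₁ 1 := (Abelian.Ext.mk₀ φ).comp hS.extClass (zero_add 1)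
    let T : EtCoh.H U.left ((EtCoh.pull U.hom).obj S.X₁) 1 →+ Abelian.Ext (Flasque.freeOn U) S.X₁ 1 :=
      AddMonoidHom.mk' (AdjExt.toExt (EtSupp.extPullAdj U.hom) (EtCoh.const U.left ℤ) S.X₁ 1)
        fun a b => by simp [AdjExt.toExt, Abelian.Ext.mapExactFunctor_add, Abelian.Ext.add_comp]; rfl
    obtain ⟨α, hα⟩ := (Flasque.bijective_toExt_freeOn U S.X₁ 1).2 e
    obtain ⟨n, hn, h0⟩ := isOfFinAddOrder_iff_nsmul_eq_zero.1 (isOfFinAddOrder_H_one_point one_pos U _ α)
    have he : n • e = 0 := by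
      rw [← hα, show AdjExt.toExt (EtSupp.extPullAdj U.hom) (EtCoh.const U.left ℤ) S.X₁ 1 α = T α from rfl,
        ← map_nsmul, h0, map_zero]
    have he' : (Abelian.Ext.mk₀ (n • φ)).comp hS.extClass (zero_add 1) = 0 := by
      rw [← he]
      exact map_nsmul (AddMonoidHom.mk'
        (fun ψ : Flasque.freeOn U ⟶ S.X₃ => (Abelian.Ext.mk₀ ψ).comp hS.extClass (zero_add 1))
        fun a b => by rw [Abelian.Ext.mk₀_add, Abelian.Ext.add_comp]) n φ
    obtain ⟨y, hy⟩ := Abelian.Ext.covariant_sequence_exact₃ (Flasque.freeOn U) hS _ (rfl : 0 + 1 = 1) he'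
    obtain ⟨ψ, rfl⟩ := (Abelian.Ext.mk₀_bijective _ _).2 y
    rw [Abelian.Ext.mk₀_comp_mk₀] at hy
    refine ⟨n, hn, Flasque.freeSec U S.X₂ ψ, ?_⟩
    rw [← Flasque.freeSec_comp, (Abelian.Ext.mk₀_bijective _ _).1 hy, ← Category.comp_id φ,
      ← Preadditive.comp_nsmul, Flasque.freeSec_comp, hφ]
    exact app_nsmul_id S.X₃ n U _
  choose n hn s hs using hlift
  let N := ∏ w ∈ J, n w
  have hd : ∀ w, n w ∣ N := fun w => by
    obtain ⟨j, hj, hwj⟩ := Set.mem_iUnion₂.1 (hJ (Set.mem_univ w))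
    obtain rfl : w = j := hwj
    exact Finset.dvd_prod_of_mem n hj
  choose k hk using hd
  obtain ⟨x, hx⟩ := exists_glue_disjoint S.X₂ (U := W) (fun w : W.left => (⟨{w}, hopen w⟩ : W.left.Opens))
    (fun a b hab => disjoint_iff_inf_le.2 fun z hz => (hab (hz.1.symm.trans hz.2)).elim)
    (fun z => ⟨z, rfl⟩) (fun w => k w • s w)
  refine ⟨N, Finset.prod_pos fun w _ => hn w, x, eq_of_pieces S.X₃ (U := W)
    (fun w : W.left => (⟨{w}, hopen w⟩ : W.left.Opens)) (fun z => ⟨z, rfl⟩) _ _ fun w => ?_⟩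
  refine (NatTrans.naturality_apply S.g.hom _ x).symm.trans ?_
  refine (congrArg _ (hx w)).trans ?_
  rw [map_nsmul, map_nsmul, hs w, hk w, mul_comm, mul_nsmul']

variable {X : Scheme.{u}}

/-- Quotients of direct images killing the image of an epimorphism are torsion. -/
theorem isTorsion_quotient (f : Spec (CommRingCat.of K) ⟶ X) [QuasiCompact f] [QuasiSeparated f]
    {S : ShortComplex (EtCoh.Ab (Spec (CommRingCat.of K)))} (hS : S.ShortExact) {C : EtCoh.Ab X}
    (q : (EtCoh.push f).obj S.X₃ ⟶ C) [Epi q] (hq : (EtCoh.push f).map S.g ≫ q = 0) :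
    EtCoh.IsTorsion C := fun U s x => by
  have hloc : Presheaf.IsLocallySurjective X.smallEtaleTopology q.hom :=
    (Sheaf.isLocallySurjective_iff_epi' AddCommGrpCat.{u + 1} q).2 inferInstance
  obtain ⟨V, g, v, hg, hv⟩ := Covers.exists_of_mem (hloc.imageSieve_mem s) x
  obtain ⟨t, ht⟩ := hg
  obtain ⟨V', g', hV', v', hv'⟩ := EtColim.TorsionPush.affine_nbhd V v
  obtain ⟨hc, -⟩ := EtColim.TorsionPush.compact_qs_bc f V'
  obtain ⟨N, hN, y, hy⟩ := exists_nsmul_lift hS ((EtCoh.bc f).obj V')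
    (((EtCoh.push f).obj S.X₃).obj.map g'.op t)
  refine ⟨V', g' ≫ g, ⟨v', (congrArg g.left.base hv').trans hv⟩,
    isOfFinAddOrder_iff_nsmul_eq_zero.2 ⟨N, hN, ?_⟩⟩
  have h : q.hom.app (op V') (((EtCoh.push f).map S.g).hom.app (op V') y) = 0 :=
    congrArg (fun k : (EtCoh.push f).obj S.X₂ ⟶ C => k.hom.app (op V') y) hq
  have h2 : C.obj.map (g' ≫ g).op s = q.hom.app (op V') (((EtCoh.push f).obj S.X₃).obj.map g'.op t) := by
    rw [NatTrans.naturality_apply q.hom g'.op t, ht, op_comp, Functor.map_comp]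
    rfl
  rw [h2, ← map_nsmul]
  exact (congrArg (q.hom.app (op V')) hy.symm).trans h

theorem isTorsion_of_epi {F G : EtCoh.Ab X} (φ : F ⟶ G) [Epi φ] (hF : EtCoh.IsTorsion F) :
    EtCoh.IsTorsion G := fun U s x => by
  have hloc : Presheaf.IsLocallySurjective X.smallEtaleTopology φ.hom :=
    (Sheaf.isLocallySurjective_iff_epi' AddCommGrpCat.{u + 1} φ).2 inferInstance
  obtain ⟨V, g, v, hg, hv⟩ := Covers.exists_of_mem (hloc.imageSieve_mem s) x
  obtain ⟨t, ht⟩ := hg
  obtain ⟨W, h, ⟨w, hw⟩, hz⟩ := hF V t v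
  refine ⟨W, h ≫ g, ⟨w, (congrArg g.left.base hw).trans hv⟩, ?_⟩
  have h2 : G.obj.map (h ≫ g).op s = φ.hom.app (op W) (F.obj.map h.op t) := by
    rw [NatTrans.naturality_apply φ.hom h.op t, ht, op_comp, Functor.map_comp]
    rfl
  rw [h2]
  exact (φ.hom.app (op W)).hom.isOfFinAddOrder hz

/-- Higher direct images from a point are torsion. -/
theorem isTorsion_Rpush (f : Spec (CommRingCat.of K) ⟶ X) [QuasiCompact f] [QuasiSeparated f] (q : ℕ) :
    ∀ F : EtCoh.Ab (Spec (CommRingCat.of K)), EtCoh.IsTorsion ((EtCoh.Rpush f (q + 1)).obj F) := by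
  haveI : PreservesLimitsOfSize.{0, 0} (EtCoh.push f) := (EtCoh.pullPushAdj f).rightAdjoint_preservesLimits
  haveI : PreservesFiniteLimits (EtCoh.push f) := PreservesLimitsOfSize.preservesFiniteLimits _
  let l := RDerLES.derivedLES (EtCoh.push f)
  induction q with
  | zero =>
    intro F
    let S := SiteCoh.DimShift.inj F
    have hS : S.ShortExact := SiteCoh.DimShift.inj_shortExact F
    haveI : Epi (l.δ S hS 0 1 rfl) := (l.exact₁ S hS 0 1 rfl).epi_f
      ((Functor.isZero_rightDerived_obj_injective_succ _ 0 S.X₂).eq_of_tgt _ _)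
    refine isTorsion_quotient f hS ((EtCoh.push f).rightDerivedZeroIsoSelf.inv.app S.X₃ ≫ l.δ S hS 0 1 rfl) ?_
    erw [(EtCoh.push f).rightDerivedZeroIsoSelf.inv.naturality_assoc S.g, l.comp_δ S hS 0 1 rfl, comp_zero]
  | succ q ih =>
    intro F
    let S := SiteCoh.DimShift.inj F
    have hS : S.ShortExact := SiteCoh.DimShift.inj_shortExact F
    haveI : Epi (l.δ S hS (q + 1) (q + 2) rfl) := (l.exact₁ S hS (q + 1) (q + 2) rfl).epi_f
      ((Functor.isZero_rightDerived_obj_injective_succ _ (q + 1) S.X₂).eq_of_tgt _ _)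
    exact isTorsion_of_epi (l.δ S hS (q + 1) (q + 2) rfl) (ih S.X₃)

/-- Cohomology of sheaves pushed from a point is torsion in positive degree. -/
theorem isAddTorsion_H_push [CompactSpace X] [QuasiSeparatedSpace X] (f : Spec (CommRingCat.of K) ⟶ X)
    [QuasiCompact f] [QuasiSeparated f] (n : ℕ) :
    ∀ (F : EtCoh.Ab (Spec (CommRingCat.of K))) (e : EtCoh.H X ((EtCoh.push f).obj F) (n + 1)),
      IsOfFinAddOrder e := by
  induction n with
  | zero =>
    intro F e
    haveI : PreservesFiniteLimits (EtCoh.pull f) := EtaleSite.preservesFiniteLimits_pull _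
    obtain ⟨m, hm, h0⟩ := isOfFinAddOrder_iff_nsmul_eq_zero.1
      (GalCohAux.EtTower.isOfFinAddOrder one_pos F (EtLim.HofPush f F 1 e))
    refine isOfFinAddOrder_iff_nsmul_eq_zero.2 ⟨m, hm, injective_HofPush_one f F ?_⟩
    rw [map_nsmul, h0, map_zero]
  | succ n ih =>
    intro F e
    haveI : PreservesLimitsOfSize.{0, 0} (EtCoh.push f) := (EtCoh.pullPushAdj f).rightAdjoint_preservesLimits
    haveI : PreservesFiniteLimits (EtCoh.push f) := PreservesLimitsOfSize.preservesFiniteLimits _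
    let R := EtCoh.push f
    let S := SiteCoh.DimShift.inj F
    have hS : S.ShortExact := SiteCoh.DimShift.inj_shortExact F
    haveI := hS.mono_f
    haveI : Mono (R.map S.f) := R.map_mono S.f
    haveI : PreservesFiniteLimits (EtCoh.pull f) := EtaleSite.preservesFiniteLimits_pull _
    let A : ShortComplex (EtCoh.Ab X) := ShortComplex.mk (R.map S.f) (cokernel.π _) (cokernel.condition _)
    have hA : A.ShortExact :=
      { exact := ShortComplex.exact_cokernel _, mono_f := inferInstanceAs (Mono (R.map S.f)) }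
    haveI : Injective A.X₂ := Injective.injective_of_adjoint (EtCoh.pullPushAdj f) S.X₂
    let m : A.X₃ ⟶ R.obj S.X₃ := cokernel.desc (R.map S.f) (R.map S.g) (S.map R).zero
    haveI : Mono m := (hS.exact.map_of_mono_of_preservesKernel R hS.mono_f inferInstance).mono_cokernelDesc
    let B : ShortComplex (EtCoh.Ab X) := ShortComplex.mk m (cokernel.π _) (cokernel.condition _)
    have hB : B.ShortExact := { exact := ShortComplex.exact_cokernel _, mono_f := inferInstanceAs (Mono m) }
    have htC : EtCoh.IsTorsion B.X₃ := isTorsion_quotient f hS (cokernel.π m) (by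
      rw [show R.map S.g = cokernel.π (R.map S.f) ≫ m from (cokernel.π_desc _ _ _).symm, Category.assoc,
        cokernel.condition, comp_zero])
    obtain ⟨y, rfl⟩ := Abelian.Ext.covariant_sequence_exact₁ _ hA e
      (Abelian.Ext.eq_zero_of_injective _) (rfl : n + 1 + 1 = n + 1 + 1)
    obtain ⟨a, ha, hay⟩ := isOfFinAddOrder_iff_nsmul_eq_zero.1
      (ih S.X₃ (y.comp (Abelian.Ext.mk₀ m) (add_zero _)))
    have hay' : (a • y).comp (Abelian.Ext.mk₀ B.f) (add_zero _) = 0 := by
      rw [← hay]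
      exact map_nsmul (AddMonoidHom.mk' (fun z : Abelian.Ext _ A.X₃ (n + 1) =>
        z.comp (Abelian.Ext.mk₀ m) (add_zero _)) fun _ _ => Abelian.Ext.add_comp _ _ _ _) a y
    obtain ⟨z, hz⟩ := Abelian.Ext.covariant_sequence_exact₁ _ hB (a • y) hay' (rfl : n + 1 = n + 1)
    obtain ⟨b, hb, hbz⟩ := isOfFinAddOrder_iff_nsmul_eq_zero.1 (S0124.result X B.X₃ htC n z)
    refine isOfFinAddOrder_iff_nsmul_eq_zero.2 ⟨b * a, Nat.mul_pos hb ha, ?_⟩
    have hy0 : (b * a) • y = 0 := by
      have h1 := map_nsmul (AddMonoidHom.mk' (fun z : Abelian.Ext _ B.X₃ n =>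
        z.comp hB.extClass (rfl : n + 1 = n + 1)) fun _ _ => Abelian.Ext.add_comp _ _ _ _) b z
      rw [mul_nsmul', ← hz]
      exact h1.symm.trans ((congrArg _ hbz).trans (map_zero _))
    refine ((map_nsmul (AddMonoidHom.mk' (fun z : Abelian.Ext _ A.X₃ (n + 1) =>
      z.comp hA.extClass (rfl : n + 1 + 1 = n + 1 + 1)) fun _ _ => Abelian.Ext.add_comp _ _ _ _)
      (b * a) y).symm).trans ((congrArg _ hy0).trans (map_zero _))

end Groth.Agent.EtConsAb.PointTorsion
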