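/-
Etale cohomology of abelian sheaves is torsion above the dimension of the support.
-/
import Groth.Agent.EtConsAb.DevFinBasic
import Groth.Agent.S3240

set_option autoImplicit false
set_option linter.style.haveILetI false
set_option backward.isDefEq.respectTransparency false

universe u

open CategoryTheory CategoryTheory.Limits AlgebraicGeometry Opposite

noncomputable section

namespace Groth.Agent.EtConsAb.DimTorsion

open Groth.Agent Groth.Agent.EtaleSite Groth.Agent.GalCohAux Groth.Agent.EtConsAb.DevFin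

attribute [-instance] EtFin.instUniqueCarrierCarrierCommRingCatSpecOf_groth

variable {X : Scheme.{u}}

/-- The middle term of an exact sequence of torsion groups is torsion. -/
theorem isAddTorsion_mid {S : ShortComplex (EtCoh.Ab X)} (hS : S.ShortExact) (q : ℕ)
    (h1 : IsAddTorsion (EtCoh.H X S.X₁ q)) (h3 : IsAddTorsion (EtCoh.H X S.X₃ q)) :
    IsAddTorsion (EtCoh.H X S.X₂ q) := fun x => by
  obtain ⟨a, ha, hax⟩ := isOfFinAddOrder_iff_nsmul_eq_zero.1 (h3 (x.comp (Abelian.Ext.mk₀ S.g) (add_zero q)))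
  have h0 : (a • x).comp (Abelian.Ext.mk₀ S.g) (add_zero q) = 0 := by
    rw [← hax]
    exact map_nsmul (AddMonoidHom.mk' (fun z : EtCoh.H X S.X₂ q => z.comp (Abelian.Ext.mk₀ S.g) (add_zero q))
      fun _ _ => Abelian.Ext.add_comp _ _ _ _) a x
  obtain ⟨y, hy⟩ := Abelian.Ext.covariant_sequence_exact₂ _ hS (a • x) h0
  obtain ⟨b, hb, hby⟩ := isOfFinAddOrder_iff_nsmul_eq_zero.1 (h1 y)
  refine isOfFinAddOrder_iff_nsmul_eq_zero.2 ⟨b * a, Nat.mul_pos hb ha, ?_⟩
  rw [mul_nsmul', ← hy]
  refine Eq.trans (map_nsmul (AddMonoidHom.mk' (fun z : EtCoh.H X S.X₁ q => z.comp (Abelian.Ext.mk₀ S.f) (add_zero q))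
      fun _ _ => Abelian.Ext.add_comp _ _ _ _) b y).symm ?_
  rw [hby]
  exact map_zero _

/-- The first term of an exact sequence with torsion neighbours is torsion. -/
theorem isAddTorsion_left {S : ShortComplex (EtCoh.Ab X)} (hS : S.ShortExact) (q : ℕ)
    (h3 : IsAddTorsion (EtCoh.H X S.X₃ q)) (h2 : IsAddTorsion (EtCoh.H X S.X₂ (q + 1))) :
    IsAddTorsion (EtCoh.H X S.X₁ (q + 1)) := fun x => by
  obtain ⟨a, ha, hax⟩ := isOfFinAddOrder_iff_nsmul_eq_zero.1 (h2 (x.comp (Abelian.Ext.mk₀ S.f) (add_zero _)))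
  have h0 : (a • x).comp (Abelian.Ext.mk₀ S.f) (add_zero _) = 0 := by
    rw [← hax]
    exact map_nsmul (AddMonoidHom.mk' (fun z : EtCoh.H X S.X₁ (q + 1) => z.comp (Abelian.Ext.mk₀ S.f) (add_zero _))
      fun _ _ => Abelian.Ext.add_comp _ _ _ _) a x
  obtain ⟨y, hy⟩ := Abelian.Ext.covariant_sequence_exact₁ _ hS (a • x) h0 (rfl : q + 1 = q + 1)
  obtain ⟨b, hb, hby⟩ := isOfFinAddOrder_iff_nsmul_eq_zero.1 (h3 y)
  refine isOfFinAddOrder_iff_nsmul_eq_zero.2 ⟨b * a, Nat.mul_pos hb ha, ?_⟩
  rw [mul_nsmul', ← hy]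
  refine Eq.trans (map_nsmul (AddMonoidHom.mk' (fun z : EtCoh.H X S.X₃ q => z.comp hS.extClass (rfl : q + 1 = q + 1))
      fun _ _ => Abelian.Ext.add_comp _ _ _ _) b y).symm ?_
  rw [hby]
  exact map_zero _

/-- A strict specialisation lowers a function increasing with the point. -/
def StrictDim (φ : X → ℕ) : Prop := ∀ x y : X, x ⤳ y → x ≠ y → φ y < φ x

/-- Cohomology is torsion above the values of the function on the support. -/
theorem isAddTorsion_of_supp [IsNoetherian X] (φ : X → ℕ) (hφ : StrictDim φ) (F : EtCoh.Ab X) (q : ℕ)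
    (hq : ∀ x ∈ EtPBC.supp F, φ x < q) : IsAddTorsion (EtCoh.H X F q) := by
  classical
  suffices key : ∀ (n : ℕ) (F : EtCoh.Ab X), (∀ x ∈ EtPBC.supp F, φ x < n) → ∀ q, n ≤ q → IsAddTorsion (EtCoh.H X F q) from
    key q F hq q le_rfl
  intro n
  induction n with
  | zero =>
    intro F hF q _ x
    haveI := EtDimVanA.subsingleton_H_of_isZero (EtDimVanA.isZero_of_supp_empty
      (Set.eq_empty_iff_forall_notMem.2 fun y hy => Nat.not_lt_zero _ (hF y hy))) q
    rw [Subsingleton.elim x 0]
    exact IsOfFinAddOrder.zero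
  | succ n ihn =>
    intro F hF q hq
    obtain ⟨q, rfl⟩ : ∃ q', q = q' + 1 := ⟨q - 1, by omega⟩
    obtain ⟨hcol⟩ := EtDimVanC.nonempty_isColimit F
    obtain ⟨hs', -⟩ := EtColimBig.coh_colimit (q + 1) hcol
    intro x
    obtain ⟨T, w, rfl⟩ := hs' x
    refine (Sheaf.H.map ((EtDimVanC.coc F).ι.app T) (q + 1)).isOfFinAddOrder ?_
    suffices key : ∀ (s : Finset X) (G : EtCoh.Ab X), (∀ z ∈ EtPBC.supp G, φ z ≤ n) →
        (∀ z ∈ EtPBC.supp G, φ z = n → z ∈ s) → IsAddTorsion (EtCoh.H X G (q + 1)) by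
      refine key (T.image fun t => (t.down : X)) _ (fun z hz => ?_) (fun z hz hzn => ?_) w
      · exact Nat.lt_succ_iff.1 (hF z (EtDimVanC.supp_subset_of_mono (PunctLib.resInι _ F) hz))
      · have hz' := EtDimVanC.supp_resIn_subset _ _ hz
        rw [EtDimVanC.cl, ← Set.biUnion_of_singleton ((fun t => (t.down : X)) ''
          (T : Set (ULift.{u + 1} ↥(EtPBC.supp F)))), (T.finite_toSet.image _).closure_biUnion] at hz'
        obtain ⟨_, ⟨t, ht, rfl⟩, hzt⟩ := Set.mem_iUnion₂.1 hz'
        rcases eq_or_ne (t.down : X) z with rfl | hne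
        · exact Finset.mem_image.2 ⟨_, ht, rfl⟩
        · have h1 : φ z < φ (t.down : X) := hφ (t.down : X) z (specializes_iff_mem_closure.2 hzt) hne
          have h2 := Nat.lt_succ_iff.1 (hF _ t.down.2)
          omega
    intro s
    induction s using Finset.induction_on with
    | empty =>
      intro G hle hs
      exact ihn G (fun z hz => lt_of_le_of_ne (hle z hz) fun e => Finset.notMem_empty z (hs z hz e)) _ (by omega)
    | insert ξ s hξs ih =>
      intro G hle hs
      by_cases hξ : ξ ∈ EtPBC.supp G ∧ φ ξ = n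
      swap
      · exact ih G hle fun z hz e => (Finset.mem_insert.1 (hs z hz e)).resolve_left (by rintro rfl; exact hξ ⟨hz, e⟩)
      let j := X.fromSpecResidueField ξ
      let η := (EtCoh.pullPushAdj j).unit.app G
      obtain ⟨hu1, hu2⟩ := supp_unit_point ξ G
      let T₂ : ShortComplex (EtCoh.Ab X) := ShortComplex.mk (Abelian.image.ι η) (cokernel.π η) (kernel.condition _)
      have hT₂ : T₂.ShortExact :=
        { exact := ShortComplex.exact_of_f_is_kernel _ (kernelIsKernel (cokernel.π η)) }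
      have hk : kernel.ι η ≫ Abelian.factorThruImage η = 0 := by
        rw [← cancel_mono (Abelian.image.ι η), Category.assoc, Abelian.image.fac, kernel.condition, zero_comp]
      let T₁ : ShortComplex (EtCoh.Ab X) := ShortComplex.mk (kernel.ι η) (Abelian.factorThruImage η) hk
      haveI : Epi T₁.g := inferInstanceAs (Epi (Abelian.factorThruImage η))
      have hT₁ : T₁.ShortExact :=
        { exact := ShortComplex.exact_of_f_is_kernel _
            (Limits.isKernelOfComp (f := Abelian.factorThruImage η) (Abelian.image.ι η) η (kernelIsKernel η) hk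
              (Abelian.image.fac η)) }
      have hsub := EtDimVanC.supp_subset_of_mono (kernel.ι η)
      have hK : IsAddTorsion (EtCoh.H X (kernel η) (q + 1)) :=
        ih _ (fun z hz => hle z (hsub hz)) fun z hz e =>
          (Finset.mem_insert.1 (hs z (hsub hz) e)).resolve_left (by rintro rfl; exact hu1 hz)
      have hC : IsAddTorsion (EtCoh.H X (cokernel η) q) :=
        ihn _ (fun z hz => by
          have hz' := supp_push_subset ξ _ (supp_coker_subset η hz)
          exact (hφ ξ z (specializes_iff_mem_closure.2 hz') fun e => hu2 (Set.mem_of_eq_of_mem e hz)).trans_le hξ.2.le)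
          _ (by omega)
      have hJ : IsAddTorsion (EtCoh.H X ((EtCoh.push j).obj ((EtCoh.pull j).obj G)) (q + 1)) :=
        (S3240.result X ξ ((EtCoh.pull j).obj G) (q + 1) (by omega)).2
      exact isAddTorsion_mid hT₁ _ hK (isAddTorsion_left hT₂ q hC hJ)

/-- Cohomology is torsion above the Krull dimension. -/
theorem isAddTorsion_of_dim_le [IsNoetherian X] (d : ℕ) (hd : topologicalKrullDim ↥X ≤ d) (F : EtCoh.Ab X) (q : ℕ)
    (hq : d < q) : IsAddTorsion (EtCoh.H X F q) := by
  have hle : ∀ x : X, Order.height x ≤ d := fun x =>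
    WithBot.coe_le_coe.1 ((Order.height_le_krullDim x).trans
      ((Order.krullDim_eq_of_orderIso irreducibleSetEquivPoints).ge.trans hd))
  refine isAddTorsion_of_supp (fun x => (Order.height x).toNat) (fun x y hxy hne => ?_) F q
    fun x _ => lt_of_le_of_lt (ENat.toNat_le_of_le_coe (hle x)) hq
  have hy : y < x := lt_of_le_not_ge hxy fun h => hne (Specializes.antisymm (h : y ⤳ x) hxy).eq.symm
  have hx : Order.height x < ⊤ := (hle x).trans_lt (ENat.coe_lt_top d)
  have hy' : Order.height y < ⊤ := (hle y).trans_lt (ENat.coe_lt_top d)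
  have h := Order.height_strictMono hy hy'
  rw [← ENat.coe_toNat hx.ne, ← ENat.coe_toNat hy'.ne] at h
  exact_mod_cast h

end Groth.Agent.EtConsAb.DimTorsion
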