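/-
Strictly local fibres of flat morphisms of finite presentation with geometrically reduced fibres are
geometrically connected (EGA IV 18.9.8).
-/
import Groth.Agent.EtConsAb.RedFibreIdem
import Groth.Agent.IndAlg.Etale
import Groth.Agent.AlgSpD.ReducedEtale
import Groth.Agent.S13198
import Groth.Agent.S9623
import Groth.Agent.Hensel.CplTensor
import Mathlib.FieldTheory.IsSepClosed

set_option autoImplicit false
set_option linter.style.haveILetI false

universe u

open TensorProduct IsLocalRing

namespace Groth.Agent.EtConsAb.RedFibre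

/-- Geometrically reduced fibres ascend along étale algebras. -/
theorem isReduced_fibre_of_etale {A C E : Type u} [CommRing A] [CommRing C] [CommRing E] [Algebra A C]
    [Algebra C E] [Algebra A E] [IsScalarTower A C E] [Algebra.Etale C E]
    (hred : ∀ (K : Type u) [Field K] [Algebra A K], IsReduced (K ⊗[A] C))
    (K : Type u) [Field K] [Algebra A K] : IsReduced (K ⊗[A] E) := by
  haveI := hred K
  haveI : IsReduced (C ⊗[A] K) :=
    isReduced_of_injective (Algebra.TensorProduct.comm A C K) (AlgEquiv.injective _)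
  haveI : IsReduced ((C ⊗[A] K) ⊗[C] E) := AlgSpD.isReduced_of_etale (C ⊗[A] K) ((C ⊗[A] K) ⊗[C] E)
  haveI : IsReduced (E ⊗[C] (C ⊗[A] K)) :=
    isReduced_of_injective (Algebra.TensorProduct.comm C E (C ⊗[A] K)) (AlgEquiv.injective _)
  haveI : IsReduced (E ⊗[A] K) :=
    isReduced_of_injective (Algebra.TensorProduct.cancelBaseChange A C C E K).symm (AlgEquiv.injective _)
  exact isReduced_of_injective (Algebra.TensorProduct.comm A K E) (AlgEquiv.injective _)

/-- Idempotents of the generic fibre descend along an ind-étale algebra over a flat algebra of finite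
presentation with geometrically reduced fibres over a normal domain. -/
theorem dvd_of_fac {A C M : Type u} [CommRing A] [IsDomain A] [IsIntegrallyClosed A] [CommRing C]
    [Algebra A C] [Algebra.FinitePresentation A C] [Module.Flat A C]
    (hred : ∀ (K : Type u) [Field K] [Algebra A K], IsReduced (K ⊗[A] C))
    [CommRing M] [Algebra C M] (h : IndAlg.Fac (IndAlg.Etale.Et C) M)
    {a : A} (ha : a ≠ 0) {b : M} (hb : b * (b - algebraMap C M (algebraMap A C a)) = 0) :
    algebraMap C M (algebraMap A C a) ∣ b := by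
  let r : Polynomial C := Polynomial.X * (Polynomial.X - Polynomial.C (algebraMap A C a))
  haveI : Algebra.FinitePresentation C (AdjoinRoot r) :=
    Algebra.FinitePresentation.quotient (Submodule.fg_span_singleton r)
  let g : AdjoinRoot r →ₐ[C] M := AdjoinRoot.liftAlgHom r (Algebra.ofId C M) b (by
    show Polynomial.eval₂ (algebraMap C M) b r = 0
    rw [Polynomial.eval₂_mul, Polynomial.eval₂_X, Polynomial.eval₂_sub, Polynomial.eval₂_X, Polynomial.eval₂_C]
    exact hb)
  obtain ⟨E, _, _, hE, v, w, hw⟩ := h (AdjoinRoot r) inferInstance g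
  haveI : Algebra.Etale C E := hE
  letI : Algebra A E := ((algebraMap C E).comp (algebraMap A C)).toAlgebra
  haveI : IsScalarTower A C E := .of_algebraMap_eq' rfl
  haveI : Algebra.FinitePresentation A E := .trans A C E
  haveI : Module.Flat A E := Module.Flat.trans A C E
  have hb₀ : v (AdjoinRoot.root r) * (v (AdjoinRoot.root r) - algebraMap A E a) = 0 := by
    have h0 : v (Polynomial.aeval (AdjoinRoot.root r) r) = 0 := by
      rw [AdjoinRoot.aeval_eq, AdjoinRoot.mk_self, map_zero]
    rw [← Polynomial.aeval_algHom_apply, map_mul, map_sub, Polynomial.aeval_X, Polynomial.aeval_C] at h0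
    exact h0
  obtain ⟨c, hc⟩ := dvd_of_mul_sub_eq_zero (A := A) (C := E) (isReduced_fibre_of_etale hred) ha hb₀
  refine ⟨w c, ?_⟩
  have hgv : w (v (AdjoinRoot.root r)) = b :=
    (DFunLike.congr_fun hw (AdjoinRoot.root r)).trans (AdjoinRoot.liftAlgHom_root _ _ _ _)
  rw [← hgv, hc, map_mul, IsScalarTower.algebraMap_apply A C E, AlgHom.commutes]

/-- The fraction field of the integral closure in an algebraically closed field is algebraically
closed. -/
theorem isAlgClosed_fractionRing_integralClosure (R Ω : Type u) [CommRing R] [Field Ω] [IsAlgClosed Ω]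
    [Algebra R Ω] : IsAlgClosed (FractionRing (integralClosure R Ω)) := by
  let A := integralClosure R Ω
  let K := FractionRing A
  let θ : K →+* Ω := IsFractionRing.lift (g := A.val.toRingHom) Subtype.val_injective
  letI : Algebra K Ω := θ.toAlgebra
  haveI : IsScalarTower A K Ω := IsScalarTower.of_algebraMap_eq fun z => (IsFractionRing.lift_algebraMap _ z).symm
  haveI : FaithfulSMul A Ω := (faithfulSMul_iff_algebraMap_injective A Ω).2 Subtype.val_injective
  refine IsAlgClosed.of_exists_root _ fun p hp hirr => ?_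
  obtain ⟨x, hx⟩ := IsAlgClosed.exists_aeval_eq_zero Ω p (Polynomial.degree_pos_of_irreducible hirr).ne'
  have halg : IsAlgebraic K x := ⟨p, hp.ne_zero, hx⟩
  have halgA : IsAlgebraic A x := (IsFractionRing.isAlgebraic_iff A K Ω).2 halg
  obtain ⟨d, hd, hint⟩ := halgA.exists_integral_multiple
  have hmem : d • x ∈ A := isIntegral_trans (R := R) (A := A) (d • x) hint
  have hz : algebraMap K Ω (algebraMap A K ⟨d • x, hmem⟩ / algebraMap A K d) = x := by
    show θ _ = x
    rw [map_div₀, IsFractionRing.lift_algebraMap, IsFractionRing.lift_algebraMap]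
    show (d : Ω) * x / (d : Ω) = x
    exact mul_div_cancel_left₀ x fun h0 => hd (Subtype.ext h0)
  refine ⟨algebraMap A K ⟨d • x, hmem⟩ / algebraMap A K d, ?_⟩
  refine θ.injective ?_
  rw [map_zero, ← hx]
  show algebraMap K Ω (p.eval _) = Polynomial.aeval x p
  rw [← Polynomial.aeval_algebraMap_apply_eq_algebraMap_eval, hz]

set_option maxHeartbeats 1000000 in
/-- Elements of `A ⊗ RX` with `b (b - a) = 0` are divisible by `a`. -/
theorem dvd_tensor {R C₀ RS RX A : Type u} [CommRing R] [CommRing C₀] [Algebra R C₀]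
    [Algebra.FinitePresentation R C₀] [Module.Flat R C₀]
    (hred : ∀ (K : Type u) [Field K] [Algebra R K], IsReduced (K ⊗[R] C₀))
    [CommRing RS] [Algebra R RS]
    [CommRing RX] [Algebra C₀ RX] [Algebra R RX] [IsScalarTower R C₀ RX]
    [Algebra RS RX] [IsScalarTower R RS RX]
    [CommRing A] [IsDomain A] [IsIntegrallyClosed A] [Algebra RS A]
    (hS : IndAlg.Fac (IndAlg.Etale.Et R) RS) (hX : IndAlg.Fac (IndAlg.Etale.Et C₀) RX)
    {a : A} (ha : a ≠ 0) {b : A ⊗[RS] RX} (hb : b * (b - algebraMap A (A ⊗[RS] RX) a) = 0) :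
    algebraMap A (A ⊗[RS] RX) a ∣ b := by
  -- `A ⊗ RX` is ind-étale over the finitely presented flat algebra `A ⊗ RS ⊗ C₀`
  let C₁ := C₀ ⊗[R] RS
  letI : Algebra C₁ RX :=
    (Algebra.TensorProduct.lift (IsScalarTower.toAlgHom C₀ C₀ RX) (IsScalarTower.toAlgHom R RS RX)
      fun _ _ => .all _ _).toRingHom.toAlgebra
  haveI : IsScalarTower C₀ C₁ RX := IsScalarTower.of_algebraMap_eq fun c => by
    show algebraMap C₀ RX c = algebraMap C₀ RX c * algebraMap RS RX 1
    rw [map_one, mul_one]
  letI : Algebra RS C₁ := Algebra.TensorProduct.rightAlgebra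
  haveI : IsScalarTower RS C₁ RX := IsScalarTower.of_algebraMap_eq fun s => by
    show algebraMap RS RX s = algebraMap C₀ RX 1 * algebraMap RS RX s
    rw [map_one, one_mul]
  have hC₁ : IndAlg.Fac (IndAlg.Etale.Et C₁) RX :=
    IndAlg.Etale.fac_tower (IndAlg.Etale.fac_baseChange hS) hX
  let C := A ⊗[RS] (RS ⊗[R] C₀)
  let σ : C₁ →+* C := (Algebra.TensorProduct.includeRight :
    RS ⊗[R] C₀ →ₐ[RS] C).toRingHom.comp (Algebra.TensorProduct.comm R C₀ RS).toRingHom
  letI : Algebra C₁ C := σ.toAlgebra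
  have hM' : IndAlg.Fac (IndAlg.Etale.Et C) (C ⊗[C₁] RX) := IndAlg.Etale.fac_baseChange hC₁
  haveI : IsScalarTower RS C₁ C := IsScalarTower.of_algebraMap_eq fun s => by
    show algebraMap RS C s = (1 : A) ⊗ₜ[RS] ((s : RS) ⊗ₜ[R] (1 : C₀))
    rw [Algebra.TensorProduct.algebraMap_apply, ← mul_one (algebraMap RS A s), ← Algebra.smul_def,
      TensorProduct.smul_tmul]
    congr 1
    rw [Algebra.smul_def, mul_one]
    rfl
  have hredC : ∀ (L : Type u) [Field L] [Algebra A L], IsReduced (L ⊗[A] C) := fun L _ _ => by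
    letI : Algebra RS L := ((algebraMap A L).comp (algebraMap RS A)).toAlgebra
    haveI : IsScalarTower RS A L := .of_algebraMap_eq' rfl
    letI : Algebra R L := ((algebraMap RS L).comp (algebraMap R RS)).toAlgebra
    haveI : IsScalarTower R RS L := .of_algebraMap_eq' rfl
    haveI := hred L
    haveI : IsReduced (L ⊗[RS] (RS ⊗[R] C₀)) :=
      isReduced_of_injective (Algebra.TensorProduct.cancelBaseChange R RS RS L C₀) (AlgEquiv.injective _)
    exact isReduced_of_injective (Algebra.TensorProduct.cancelBaseChange RS A A L (RS ⊗[R] C₀))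
      (AlgEquiv.injective _)
  let M' := C ⊗[C₁] RX
  let M := A ⊗[RS] RX
  let χ : RS ⊗[R] C₀ →ₐ[RS] RX :=
    Algebra.TensorProduct.lift (Algebra.ofId RS RX) (IsScalarTower.toAlgHom R C₀ RX) fun _ _ => .all _ _
  let φ₀ : C →ₐ[RS] M := Algebra.TensorProduct.map (AlgHom.id RS A) χ
  letI : Algebra C₁ M := (φ₀.toRingHom.comp (algebraMap C₁ C)).toAlgebra
  let φC : C →ₐ[C₁] M := { φ₀.toRingHom with commutes' := fun _ => rfl }
  let φR : RX →ₐ[C₁] M :=
    { (Algebra.TensorProduct.includeRight : RX →ₐ[RS] M).toRingHom with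
      commutes' := fun z => by
        show (1 : A) ⊗ₜ[RS] algebraMap C₁ RX z = φ₀ (σ z)
        induction z using TensorProduct.induction_on with
        | zero => rw [map_zero, map_zero, map_zero, TensorProduct.tmul_zero]
        | tmul c s =>
          show (1 : A) ⊗ₜ[RS] (algebraMap C₀ RX c * algebraMap RS RX s) =
            (1 : A) ⊗ₜ[RS] (algebraMap RS RX s * algebraMap C₀ RX c)
          rw [mul_comm]
        | add x y hx hy => simp only [map_add, TensorProduct.tmul_add, hx, hy] }
  let φ : M' →ₐ[C₁] M := Algebra.TensorProduct.lift φC φR fun _ _ => .all _ _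
  let ψ : M →ₐ[RS] M' := Algebra.TensorProduct.lift
    (((Algebra.TensorProduct.includeLeft : C →ₐ[C₁] M').restrictScalars RS).comp
      (Algebra.TensorProduct.includeLeft : A →ₐ[RS] C))
    ((Algebra.TensorProduct.includeRight : RX →ₐ[C₁] M').restrictScalars RS) fun _ _ =>
      Commute.tmul (Commute.one_right _) (Commute.one_left _)
  have hφψ : ∀ m : M, φ (ψ m) = m := fun m => by
    induction m using TensorProduct.induction_on with
    | zero => rw [map_zero, map_zero]
    | tmul a x =>
      show φ (((a ⊗ₜ[RS] (1 : RS ⊗[R] C₀)) ⊗ₜ[C₁] (1 : RX)) * ((1 : C) ⊗ₜ[C₁] x)) = _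
      rw [Algebra.TensorProduct.tmul_mul_tmul, mul_one, one_mul]
      show (a ⊗ₜ[RS] χ 1 : M) * ((1 : A) ⊗ₜ[RS] x) = _
      rw [map_one, Algebra.TensorProduct.tmul_mul_tmul, mul_one, one_mul]
    | add x y hx hy => simp only [map_add, hx, hy]
  have h1 := congrArg ψ hb
  rw [map_mul, map_sub, map_zero] at h1
  have h2 : ψ (algebraMap A M a) = (Algebra.TensorProduct.includeLeftRingHom : C →+* M') (algebraMap A C a) := by
    show ((a ⊗ₜ[RS] (1 : RS ⊗[R] C₀)) ⊗ₜ[C₁] (1 : RX)) * ((1 : C) ⊗ₜ[C₁] (1 : RX)) = _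
    rw [Algebra.TensorProduct.tmul_mul_tmul, mul_one, one_mul]
    rfl
  rw [h2] at h1
  obtain ⟨c, hc⟩ := dvd_of_fac hredC hM' ha h1
  refine ⟨φ c, ?_⟩
  have h3 := congrArg φ hc
  rw [hφψ, map_mul, show algebraMap C (C ⊗[C₁] RX) (algebraMap A C a) = ψ (algebraMap A M a) from h2.symm, hφψ] at h3
  exact h3

set_option maxHeartbeats 1000000 in
/-- Idempotents of the generic fibre of `A ⊗ RX` are trivial when `A ⊗ RX` is local. -/
theorem idem_eq {RS RX A : Type u} [CommRing RS] [CommRing RX] [Algebra RS RX] [Module.Flat RS RX]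
    [CommRing A] [IsDomain A] [Algebra RS A] (K : Type u) [Field K] [Algebra A K] [IsFractionRing A K]
    [Algebra RS K] [IsScalarTower RS A K] [IsLocalRing (A ⊗[RS] RX)]
    (key : ∀ a : A, a ≠ 0 → ∀ b : A ⊗[RS] RX, b * (b - algebraMap A (A ⊗[RS] RX) a) = 0 →
      algebraMap A (A ⊗[RS] RX) a ∣ b)
    {e : K ⊗[RS] RX} (he : IsIdempotentElem e) : e = 0 ∨ e = 1 := by
  let M := A ⊗[RS] RX
  let j : M →ₐ[RS] K ⊗[RS] RX :=
    Algebra.TensorProduct.map (IsScalarTower.toAlgHom RS A K) (AlgHom.id RS RX)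
  have hj : Function.Injective j :=
    Module.Flat.rTensor_preserves_injective_linearMap (M := RX) (IsScalarTower.toAlgHom RS A K).toLinearMap
      (IsFractionRing.injective A K)
  have hjA : ∀ a : A, j (algebraMap A M a) = algebraMap A (K ⊗[RS] RX) a := fun a => by
    show algebraMap A K a ⊗ₜ[RS] (1 : RX) = _
    rw [Algebra.TensorProduct.algebraMap_apply]
  have hden : ∀ z : K ⊗[RS] RX, ∃ a : A, a ≠ 0 ∧ ∃ b : M, j b = algebraMap A _ a * z := fun z => by
    induction z using TensorProduct.induction_on with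
    | zero => exact ⟨1, one_ne_zero, 0, by rw [map_zero, mul_zero]⟩
    | tmul k x =>
      obtain ⟨⟨n, d⟩, hd⟩ := IsLocalization.surj (nonZeroDivisors A) k
      refine ⟨d, nonZeroDivisors.ne_zero d.2, n ⊗ₜ x, ?_⟩
      rw [Algebra.TensorProduct.algebraMap_apply, Algebra.TensorProduct.tmul_mul_tmul, one_mul]
      show algebraMap A K n ⊗ₜ[RS] x = _
      rw [← hd, mul_comm]
    | add x y hx hy =>
      obtain ⟨a, ha, b, hb⟩ := hx
      obtain ⟨a', ha', b', hb'⟩ := hy
      refine ⟨a * a', mul_ne_zero ha ha', algebraMap A M a' * b + algebraMap A M a * b', ?_⟩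
      rw [map_add, map_mul, map_mul, hjA, hjA, hb, hb', map_mul]
      ring
  obtain ⟨a, ha, b, hb⟩ := hden e
  have h0 : b * (b - algebraMap A M a) = 0 := hj (by
    rw [map_mul, map_sub, map_zero, hjA, hb]
    linear_combination (algebraMap A (K ⊗[RS] RX) a * algebraMap A (K ⊗[RS] RX) a) * he.eq)
  obtain ⟨c, rfl⟩ := key a ha b h0
  have hu : IsUnit (algebraMap A (K ⊗[RS] RX) a) := by
    rw [IsScalarTower.algebraMap_apply A K (K ⊗[RS] RX)]
    exact (Ne.isUnit fun h => ha ((map_eq_zero_iff _ (IsFractionRing.injective A K)).1 h)).map _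
  rw [map_mul, hjA] at hb
  have hce : j c = e := hu.mul_left_cancel hb
  have hc : IsIdempotentElem c := hj (by rw [map_mul, hce]; exact he)
  rcases IsLocalRing.isUnit_or_isUnit_one_sub_self c with hu | hu
  · right
    rw [← hce, (IsUnit.mul_eq_left hu).1 hc.eq, map_one]
  · left
    have h0 : (1 - c) * c = 0 := by rw [sub_mul, one_mul, hc.eq, sub_self]
    rw [← hce, hu.mul_right_eq_zero.1 h0, map_zero]

set_option maxHeartbeats 800000 in
/-- EGA IV 18.9.8: connectedness of strictly local fibres. -/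
theorem connectedSpace_fibre {R C₀ RS RX : Type u} [CommRing R] [CommRing C₀] [Algebra R C₀]
    [Algebra.FinitePresentation R C₀] [Module.Flat R C₀]
    (hred : ∀ (K : Type u) [Field K] [Algebra R K], IsReduced (K ⊗[R] C₀))
    [CommRing RS] [HenselianLocalRing RS] [IsSepClosed (ResidueField RS)] [Algebra R RS]
    [CommRing RX] [IsLocalRing RX] [Algebra C₀ RX] [Algebra R RX] [IsScalarTower R C₀ RX]
    [Algebra RS RX] [IsScalarTower R RS RX] [IsLocalHom (algebraMap RS RX)] [Module.Flat RS RX]
    (hS : IndAlg.Fac (IndAlg.Etale.Et R) RS) (hX : IndAlg.Fac (IndAlg.Etale.Et C₀) RX)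
    (Ω : Type u) [Field Ω] [IsAlgClosed Ω] [Algebra RS Ω] :
    ConnectedSpace (PrimeSpectrum (Ω ⊗[RS] RX)) := by
  let A := integralClosure RS Ω
  let K := FractionRing A
  let θ : K →+* Ω := IsFractionRing.lift (g := A.val.toRingHom) Subtype.val_injective
  letI : Algebra K Ω := θ.toAlgebra
  haveI : IsScalarTower A K Ω := IsScalarTower.of_algebraMap_eq fun z => (IsFractionRing.lift_algebraMap _ z).symm
  haveI : IsIntegrallyClosed A := (isIntegrallyClosed_iff K).2 fun {x} hx => by
    have h1 : IsIntegral A (algebraMap K Ω x) := hx.map (IsScalarTower.toAlgHom A K Ω)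
    have h2 : algebraMap K Ω x ∈ A := by
      haveI : Algebra.IsIntegral RS A := integralClosure.AlgebraIsIntegral
      exact isIntegral_trans (R := RS) (A := A) _ h1
    exact ⟨⟨_, h2⟩, θ.injective (IsFractionRing.lift_algebraMap _ _)⟩
  haveI : IsAlgClosed K := isAlgClosed_fractionRing_integralClosure RS Ω
  haveI : Algebra.IsIntegral RS A := integralClosure.AlgebraIsIntegral
  haveI : IsLocalRing A := Hensel.isLocalRing_of_isIntegral_domain RS A
  haveI : IsLocalHom (algebraMap RS A) :=
    ((IsLocalRing.local_hom_TFAE (algebraMap RS A)).out 4 0 rfl rfl).1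
      (IsLocalRing.eq_maximalIdeal (Ideal.isMaximal_comap_of_isIntegral_of_isMaximal (R := RS) (maximalIdeal A)))
  haveI : Algebra.IsIntegral RS (ResidueField A) :=
    Algebra.IsIntegral.trans A
  haveI : Algebra.IsIntegral (ResidueField RS) (ResidueField A) := Algebra.IsIntegral.tower_top RS
  haveI : Algebra.IsAlgebraic (ResidueField RS) (ResidueField A) := inferInstance
  haveI : IsPurelyInseparable (ResidueField RS) (ResidueField A) := inferInstance
  obtain ⟨hlocal, -⟩ := S13198.result RS A RX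
  have hidem : ∀ e : K ⊗[RS] RX, IsIdempotentElem e → e = 0 ∨ e = 1 := fun e he => by
    haveI := hlocal
    exact idem_eq (RS := RS) (RX := RX) (A := A) K (fun a ha b hb => dvd_tensor hred hS hX ha hb) he
  haveI : Module.FaithfullyFlat RS RX := Module.FaithfullyFlat.of_flat_of_isLocalHom
  haveI : Nontrivial (K ⊗[RS] RX) := Module.FaithfullyFlat.rTensor_nontrivial RS RX K
  haveI : ConnectedSpace (PrimeSpectrum (K ⊗[RS] RX)) :=
    (SchFinLib.connectedSpace_spec_iff _).2 ⟨inferInstance, hidem⟩
  haveI : IsScalarTower RS K Ω := IsScalarTower.of_algebraMap_eq fun s => by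
    show _ = θ (algebraMap RS K s)
    rw [IsScalarTower.algebraMap_apply RS A K]
    show _ = IsFractionRing.lift _ _
    rw [IsFractionRing.lift_algebraMap]
    rfl
  haveI : ConnectedSpace (PrimeSpectrum (Ω ⊗[K] (K ⊗[RS] RX))) := S9623.result
  exact (PrimeSpectrum.homeomorphOfRingEquiv
    (Algebra.TensorProduct.cancelBaseChange RS K K Ω RX).toRingEquiv).surjective.connectedSpace
      (Homeomorph.continuous _)

end Groth.Agent.EtConsAb.RedFibre
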