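/-
Smooth morphisms: the connected component in the fibre of a point meets a given open near a given point.
-/
import Groth.Agent.S0163
import Groth.Agent.AbDualLib.Rigid
import Groth.Agent.FibTop.Loci
import Groth.Agent.Omega.SmoothNormalScheme
import Groth.Agent.EtConsAb.SpecialCrit
import Groth.Agent.LimLib.Props
import Mathlib.RingTheory.Ideal.GoingDown

set_option autoImplicit false
set_option linter.style.haveILetI false

universe u

open CategoryTheory CategoryTheory.Limits AlgebraicGeometry Opposite TopologicalSpace Topology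
open scoped TensorProduct

noncomputable section

namespace Groth.Agent.EtConsAb.FibreDense

/-- A point with integral local ring has a least generalisation. -/
theorem exists_least_generization {Y : Scheme.{u}} (x : Y) [IsDomain (Y.presheaf.stalk x)] :
    ∃ η : Y, η ⤳ x ∧ ∀ z, z ⤳ x → η ⤳ z := by
  let b : PrimeSpectrum (Y.presheaf.stalk x) := ⊥
  refine ⟨Y.fromSpecStalk x b, ?_, fun z hz => ?_⟩
  · exact Scheme.range_fromSpecStalk.le ⟨_, rfl⟩
  · obtain ⟨q, rfl⟩ := Scheme.range_fromSpecStalk.ge hz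
    let q' : PrimeSpectrum (Y.presheaf.stalk x) := q
    have h : b ⤳ q' := (PrimeSpectrum.le_iff_specializes b q').1 bot_le
    exact h.map (Y.fromSpecStalk x).continuous

/-- On a locally Noetherian scheme with integral local rings the closure of an open is open. -/
theorem isOpen_closure_of_isDomain {Y : Scheme.{u}} [IsLocallyNoetherian Y]
    (hdom : ∀ y : Y, IsDomain (Y.presheaf.stalk y)) {N : Set Y} (hN : IsOpen N) : IsOpen (closure N) := by
  refine isOpen_iff_forall_mem_open.2 fun y hy => ?_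
  haveI := hdom y
  obtain ⟨η, hη, hmin⟩ := exists_least_generization y
  obtain ⟨W, hW, hyW, -⟩ := exists_isAffineOpen_mem_and_subset (show y ∈ (⊤ : Y.Opens) from trivial)
  haveI : IsAffine (W : Scheme.{u}) := hW
  haveI : CompactSpace ↥(W : Scheme.{u}) := inferInstance
  haveI : IsNoetherian (W : Scheme.{u}) := ⟨⟩
  let y' : ↥(W : Scheme.{u}) := ⟨y, hyW⟩
  let Bad : Set (Set ↥(W : Scheme.{u})) := {Z ∈ irreducibleComponents _ | y' ∉ Z}
  have hfin : Bad.Finite := (NoetherianSpace.finite_irreducibleComponents).subset fun Z hZ => hZ.1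
  have hcl : IsClosed (⋃ Z ∈ Bad, Z) :=
    hfin.isClosed_biUnion fun Z hZ => isClosed_of_mem_irreducibleComponents Z hZ.1
  let W' : Set Y := W.ι '' (⋃ Z ∈ Bad, Z)ᶜ
  have hW'o : IsOpen W' := W.ι.isOpenEmbedding.isOpenMap _ hcl.isOpen_compl
  have hyW' : y ∈ W' := ⟨y', by simp [Bad], rfl⟩
  have hgen : ∀ z ∈ W', η ⤳ z := by
    rintro _ ⟨z, hz, rfl⟩
    have hz' : irreducibleComponent z ∉ Bad := fun h => hz (Set.mem_biUnion h mem_irreducibleComponent)
    have hy' : y' ∈ irreducibleComponent z := by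
      by_contra hn
      exact hz' ⟨irreducibleComponent_mem_irreducibleComponents z, hn⟩
    obtain ⟨g, hg⟩ := QuasiSober.sober (isIrreducible_irreducibleComponent (x := z))
      isClosed_irreducibleComponent
    have h1 : W.ι g ⤳ y := (hg.specializes hy').map W.ι.continuous
    exact (hmin _ h1).trans ((hg.specializes mem_irreducibleComponent).map W.ι.continuous)
  obtain ⟨n, hnW, hnN⟩ := mem_closure_iff.1 hy W' hW'o hyW'
  have hηN : η ∈ N := (hgen n hnW).mem_open hN hnN
  exact ⟨W', fun z hz => (hgen z hz).mem_closed isClosed_closure (subset_closure hηN), hW'o, hyW'⟩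

/-- The local rings of the fibres of a smooth morphism are domains. -/
theorem isDomain_stalk_fiber {V S : Scheme.{u}} (g : V ⟶ S) [Smooth g] (s : S) (w : g.fiber s) :
    IsDomain ((g.fiber s).presheaf.stalk w) := by
  haveI : Smooth (g.fiberToSpecResidueField s) :=
    MorphismProperty.pullback_snd (P := @Smooth) _ _ inferInstance
  refine ((Omega.SmoothNormal.stalk_isNormal_iff (g.fiberToSpecResidueField s) (x := w) (by
    rw [Scheme.Hom.smoothLocus_eq_top]; trivial)).2 ?_).1
  let p := (g.fiberToSpecResidueField s).base w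
  have hF := isField_stalk (S.residueField s) p
  letI := hF.toField
  exact ⟨inferInstance, inferInstance⟩
where
  isField_stalk (k : Type u) [Field k] (p : Spec (CommRingCat.of k)) :
      IsField ((Spec (CommRingCat.of k)).presheaf.stalk p) := by
    let q : PrimeSpectrum k := p
    have hle : q.asIdeal.primeCompl ≤ IsUnit.submonoid k := fun x hx =>
      (Ne.isUnit fun h => hx (h ▸ q.asIdeal.zero_mem))
    have e : k ≃ₐ[k] Localization.AtPrime q.asIdeal :=
      IsLocalization.atUnits k q.asIdeal.primeCompl hle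
    exact MulEquiv.isField (Field.toIsField k)
      ((Spec.stalkIso (CommRingCat.of k) p).commRingCatIsoToRingEquiv.trans e.symm.toRingEquiv).toMulEquiv

/-- Going down in the strictly local scheme of a smooth morphism, with connected fibres. -/
theorem exists_connected_generization {V S : Scheme.{u}} (g : V ⟶ S) [Smooth g] {v y η : V}
    (hy : y ⤳ v) (hη : η ⤳ v) (hg : g η = g v) :
    ∃ (n : V) (C : Set V), n ⤳ η ∧ _root_.IsPreconnected C ∧ y ∈ C ∧ n ∈ C ∧ C ⊆ g ⁻¹' {g y} := by
  obtain ⟨RS, _, _, _, _, iS⟩ := S0537.result (S.presheaf.stalk (g v))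
  obtain ⟨RX, _, _, _, _, iX⟩ := S0537.result (V.presheaf.stalk v)
  haveI := iS.henselian
  haveI := iX.henselian
  haveI := iS.isSepClosure.sep_closed
  haveI := iX.isSepClosure.sep_closed
  obtain ⟨ψ, hψl, hψ⟩ := S0674.exists_lift_localHom (S.presheaf.stalk (g v)) (V.presheaf.stalk v) RS RX
    (g.stalkMap v).hom
  letI := ψ.toAlgebra
  haveI : Module.Flat RS RX := by
    haveI : Algebra.WeaklyEtale (S.presheaf.stalk (g v)) RS :=
      IndAlg.Etale.weaklyEtale (IndAlg.fac_algEquiv (Hens.strictHenselizationEquiv RS) Hens.fac_etLoc)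
    refine RingHom.flat_algebraMap_iff.1 ?_
    refine AlgSp.GorCore.flat_of_weaklyEtale_comp (R := S.presheaf.stalk (g v)) ψ ?_
    rw [hψ]
    haveI : Module.FaithfullyFlat (V.presheaf.stalk v) RX :=
      Hens.faithfullyFlat_of_isStrictHenselization RX
    exact RingHom.Flat.comp (Flat.stalkMap g v) (RingHom.flat_algebraMap_iff.2 inferInstance)
  haveI : Module.FaithfullyFlat (V.presheaf.stalk v) RX := Hens.faithfullyFlat_of_isStrictHenselization RX
  let σ : Spec (CommRingCat.of RX) ⟶ V := Hens2.specOf V v RX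
  have hσ : ∀ z, z ⤳ v → ∃ P, σ P = z := fun z hz => by
    obtain ⟨q, hq⟩ := Scheme.range_fromSpecStalk.ge hz
    obtain ⟨P, hP⟩ := PrimeSpectrum.comap_surjective_of_faithfullyFlat
      (A := V.presheaf.stalk v) (B := RX) q
    refine ⟨P, ?_⟩
    show V.fromSpecStalk v (PrimeSpectrum.comap (algebraMap (V.presheaf.stalk v) RX) P) = z
    rw [hP, hq]
  obtain ⟨Py, hPy⟩ := hσ y hy
  obtain ⟨Pη, hPη⟩ := hσ η hη
  let τ : Spec (CommRingCat.of RS) ⟶ S := Hens2.specOf S (g v) RS
  let q : Spec (CommRingCat.of RX) ⟶ Spec (CommRingCat.of RS) := Spec.map (CommRingCat.ofHom ψ)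
  have hcomm : σ ≫ g = q ≫ τ := by
    show (Spec.map _ ≫ _) ≫ g = Spec.map _ ≫ Spec.map _ ≫ _
    rw [← Spec.map_comp_assoc, ← CommRingCat.ofHom_comp, hψ, Category.assoc,
      ← Scheme.SpecMap_stalkMap_fromSpecStalk, ← Spec.map_comp_assoc]
    rfl
  have hgσ : ∀ P, g (σ P) = τ (q P) := fun P => by
    rw [← Scheme.Hom.comp_apply, hcomm, Scheme.Hom.comp_apply]
  -- `Pη` lies over the closed point
  let t : PrimeSpectrum RS := PrimeSpectrum.comap ψ Py
  have hmax : t.asIdeal ≤ Pη.asIdeal.comap ψ := by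
    haveI := Ideal.IsPrime.comap (K := Pη.asIdeal) ψ
    have h1 : (IsLocalRing.maximalIdeal (S.presheaf.stalk (g v))).map
        (algebraMap (S.presheaf.stalk (g v)) RS) ≤ Pη.asIdeal.comap ψ := by
      let pt : PrimeSpectrum RS := PrimeSpectrum.comap ψ Pη
      have h2 : S.fromSpecStalk (g v) (PrimeSpectrum.comap (algebraMap (S.presheaf.stalk (g v)) RS) pt) = g v := by
        show τ (q Pη) = g v
        rw [← hgσ, hPη, hg]
      have h3 : PrimeSpectrum.comap (algebraMap (S.presheaf.stalk (g v)) RS) pt =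
          IsLocalRing.closedPoint (S.presheaf.stalk (g v)) :=
        (S.fromSpecStalk (g v)).isEmbedding.injective (h2.trans Scheme.fromSpecStalk_closedPoint.symm)
      rw [Ideal.map_le_iff_le_comap]
      exact (congrArg PrimeSpectrum.asIdeal h3).ge
    rw [(Hensel.isEtLike_of_isStrictHenselization (S.presheaf.stalk (g v)) RS).map_max] at h1
    exact (IsLocalRing.le_maximalIdeal t.isPrime.ne_top).trans h1
  haveI : Algebra.HasGoingDown RS RX := inferInstance
  haveI : Pη.asIdeal.LiesOver (Pη.asIdeal.comap ψ) := ⟨rfl⟩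
  obtain ⟨Pn, hPn, hPnp, hPnl⟩ := Ideal.exists_ideal_le_liesOver_of_le (p := t.asIdeal)
    (q := Pη.asIdeal.comap ψ) Pη.asIdeal hmax
  let Pn' : PrimeSpectrum RX := ⟨Pn, hPnp⟩
  have htn : PrimeSpectrum.comap ψ Pn' = t := PrimeSpectrum.ext hPnl.over.symm
  let Ω := AlgebraicClosure t.asIdeal.ResidueField
  let χ : RS →+* Ω := (algebraMap t.asIdeal.ResidueField Ω).comp (algebraMap RS t.asIdeal.ResidueField)
  letI := χ.toAlgebra
  haveI hconn := S0163.connectedSpace_fibre g (fun s K _ k _ =>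
    (AbDualLib.Rigid.geometricallyReduced_of_smooth g).geometrically_isReduced k _ _
      (IsPullback.of_hasPullback g k)) v RS RX ψ hψ Ω χ
  let ι : RX →+* TensorProduct RS Ω RX :=
    (Algebra.TensorProduct.includeRight : RX →ₐ[RS] TensorProduct RS Ω RX).toRingHom
  let C : Set V := Set.range fun P : PrimeSpectrum (TensorProduct RS Ω RX) => σ (PrimeSpectrum.comap ι P)
  have hq : ∀ P : PrimeSpectrum (TensorProduct RS Ω RX), q (PrimeSpectrum.comap ι P) = t := fun P => by
    show PrimeSpectrum.comap ψ (PrimeSpectrum.comap ι P) = t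
    have h : ι.comp ψ = (algebraMap Ω (TensorProduct RS Ω RX)).comp χ := by
      ext r
      exact ((Algebra.TensorProduct.includeRight : RX →ₐ[RS] TensorProduct RS Ω RX).commutes r).trans
        (IsScalarTower.algebraMap_apply RS Ω (TensorProduct RS Ω RX) r)
    rw [← PrimeSpectrum.comap_comp_apply, h, PrimeSpectrum.comap_comp_apply,
      Subsingleton.elim (PrimeSpectrum.comap (algebraMap Ω (TensorProduct RS Ω RX)) P) ⊥]
    refine PrimeSpectrum.ext ?_
    show Ideal.comap χ ⊥ = t.asIdeal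
    rw [← RingHom.ker_eq_comap_bot, RingHom.ker_comp_of_injective _ (RingHom.injective _),
      Ideal.ker_algebraMap_residueField]
  have hmemC : ∀ P : PrimeSpectrum RX, PrimeSpectrum.comap ψ P = t → σ P ∈ C := fun P hP => by
    haveI : P.asIdeal.LiesOver t.asIdeal := ⟨(congrArg PrimeSpectrum.asIdeal hP).symm⟩
    obtain ⟨Q, hQ⟩ : P ∈ Set.range (PrimeSpectrum.comap ι) := by
      let k := t.asIdeal.ResidueField
      let L := P.asIdeal.ResidueField
      letI algL : Algebra k L :=
        (Ideal.ResidueField.map t.asIdeal P.asIdeal ψ (congrArg PrimeSpectrum.asIdeal hP).symm).toAlgebra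
      haveI : IsScalarTower RS k L := IsScalarTower.of_algebraMap_eq fun r => by
        show algebraMap RX L (ψ r) = Ideal.ResidueField.map t.asIdeal P.asIdeal ψ _ (algebraMap RS k r)
        rw [Ideal.ResidueField.map_algebraMap]
      let T := TensorProduct k Ω L
      letI algT : Algebra RS T := ((algebraMap k T).comp (algebraMap RS k)).toAlgebra
      let a : Ω →ₐ[RS] T :=
        { (Algebra.TensorProduct.includeLeft : Ω →ₐ[k] T).toRingHom with
          commutes' := fun r => (Algebra.TensorProduct.includeLeft : Ω →ₐ[k] T).commutes (algebraMap RS k r) }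
      let b : RX →ₐ[RS] T :=
        { ((Algebra.TensorProduct.includeRight : L →ₐ[k] T).toRingHom.comp (algebraMap RX L)) with
          commutes' := fun r => (congrArg (Algebra.TensorProduct.includeRight : L →ₐ[k] T)
            (IsScalarTower.algebraMap_apply RS k L r)).trans
              ((Algebra.TensorProduct.includeRight : L →ₐ[k] T).commutes (algebraMap RS k r)) }
      let Φ := Algebra.TensorProduct.productMap a b
      haveI : Nontrivial T := Module.FaithfullyFlat.rTensor_nontrivial k L Ω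
      obtain ⟨M, hM⟩ := Ideal.exists_maximal T
      refine ⟨⟨M.comap Φ, Ideal.IsPrime.comap _⟩, PrimeSpectrum.ext ?_⟩
      have h : Φ.toRingHom.comp ι =
          ((Algebra.TensorProduct.includeRight : L →ₐ[k] T).toRingHom).comp (algebraMap RX L) :=
        RingHom.ext fun x => by
          show Φ ((1 : Ω) ⊗ₜ[RS] x) = _
          rw [Algebra.TensorProduct.productMap_apply_tmul, map_one, one_mul]
          rfl
      show Ideal.comap ι (Ideal.comap Φ.toRingHom M) = P.asIdeal
      rw [Ideal.comap_comap, h, ← Ideal.comap_comap,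
        Ideal.eq_bot_of_prime (Ideal.comap ((Algebra.TensorProduct.includeRight : L →ₐ[k] T).toRingHom) M)]
      exact Ideal.ker_algebraMap_residueField P.asIdeal
    exact ⟨Q, congrArg σ hQ⟩
  refine ⟨σ Pn', C, ?_, ?_, ?_, hmemC Pn' htn, ?_⟩
  · rw [← hPη]
    exact ((PrimeSpectrum.le_iff_specializes Pn' Pη).1 hPn).map σ.continuous
  · exact (isConnected_range (σ.continuous.comp (PrimeSpectrum.continuous_comap ι))).isPreconnected
  · rw [← hPy]; exact hmemC Py rfl
  · rintro _ ⟨P, rfl⟩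
    show g (σ _) = g y
    rw [← hPy, hgσ, hgσ, hq]
    rfl

/-- Near `v`, every point lies in the closure of `N` inside its fibre. -/
theorem exists_nhd_closure_fibre {V S : Scheme.{u}} (g : V ⟶ S) [Smooth g] {v η : V}
    (hη : η ⤳ v) (hg : g η = g v) {N : Set V} (hN : IsOpen N) (hηN : η ∈ N) :
    ∃ O : V.Opens, v ∈ O ∧ ∀ y ∈ O, y ∈ closure (N ∩ g ⁻¹' {g y}) := by
  obtain ⟨S₀, hS₀, hgS₀, -⟩ := exists_isAffineOpen_mem_and_subset (show g v ∈ (⊤ : S.Opens) from trivial)
  obtain ⟨V₀, hV₀, hvV₀, hle⟩ := exists_isAffineOpen_mem_and_subset (show v ∈ g ⁻¹ᵁ S₀ from hgS₀)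
  obtain ⟨N₀, hN₀, hηN₀, hN₀le⟩ := exists_isAffineOpen_mem_and_subset
    (show η ∈ (⟨N, hN⟩ : V.Opens) ⊓ V₀ from ⟨hηN, hη.mem_open V₀.2 hvV₀⟩)
  haveI : IsAffine (V₀ : Scheme.{u}) := hV₀
  haveI : IsAffine (S₀ : Scheme.{u}) := hS₀
  let g₀ : (V₀ : Scheme.{u}) ⟶ (S₀ : Scheme.{u}) := g.resLE S₀ V₀ hle
  haveI : Smooth g₀ := inferInstance
  let E : Set ↥(V₀ : Scheme.{u}) := V₀.ι ⁻¹' (N₀ : Set V)
  have hEc : IsCompact E := by
    rw [V₀.ι.isOpenEmbedding.isEmbedding.isCompact_iff, Set.image_preimage_eq_inter_range,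
      Scheme.Opens.range_ι, Set.inter_eq_left.2 (show (N₀ : Set V) ⊆ (V₀ : Set V) from fun z hz => (hN₀le hz).2)]
    exact hN₀.isCompact
  have hEo : IsOpen E := N₀.2.preimage V₀.ι.continuous
  have hEcons : IsConstructible E :=
    IsRetrocompact.isConstructible hEo fun _ h₁ h₂ => hEc.inter_of_isOpen h₁ hEo h₂
  let P := pullback g₀ g₀
  let Δ : (V₀ : Scheme.{u}) ⟶ P := pullback.diagonal g₀
  have hΔ : IsLocallyConstructible (Set.range Δ) := by
    rw [← Set.image_univ]
    haveI := LimLib.locallyOfFinitePresentation_diagonal g₀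
    exact Δ.isLocallyConstructible_image IsConstructible.univ.isLocallyConstructible
  let G : Set ↥(V₀ : Scheme.{u}) :=
    FibTop.locus FibTop.denseOp (pullback.snd g₀ g₀) (pullback.fst g₀ g₀ ⁻¹' E) (Set.range Δ)
  have hGc : IsLocallyConstructible G :=
    FibTop.isLocallyConstructible_locus FibTop.bc_denseOp FibTop.gen_denseOp (pullback.snd g₀ g₀)
      ((pullback.fst g₀ g₀).isConstructible_preimage hEcons).isLocallyConstructible hΔ
  have hdiag : ∀ y, pullback.fst g₀ g₀ (Δ y) = y ∧ pullback.snd g₀ g₀ (Δ y) = y := fun y => by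
    constructor <;> rw [← Scheme.Hom.comp_apply]
    · rw [pullback.diagonal_fst]; rfl
    · rw [pullback.diagonal_snd]; rfl
  have hGmem : ∀ y, y ∈ G ↔ y ∈ FibTop.clF g₀ E (g₀ y) := fun y => by
    have e := FibTop.mem_clF_iff (IsPullback.of_hasPullback g₀ g₀) (E := E) (z := Δ y) (hdiag y).2
    rw [(hdiag y).1] at e
    constructor
    · intro h
      have h1 : Δ y ∉ Set.range Δ \ _ := h (Δ y) (hdiag y).2
      exact e.1 (by_contra fun hn => h1 ⟨⟨y, rfl⟩, hn⟩)
    · rintro h z hz ⟨⟨y', rfl⟩, hn⟩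
      rw [(hdiag y').2] at hz
      subst hz
      exact hn (e.2 h)
  let v₀ : ↥(V₀ : Scheme.{u}) := ⟨v, hvV₀⟩
  let η₀ : ↥(V₀ : Scheme.{u}) := ⟨η, hη.mem_open V₀.2 hvV₀⟩
  have hgι : ∀ z, S₀.ι (g₀ z) = g (V₀.ι z) := fun z => by
    rw [← Scheme.Hom.comp_apply, Scheme.Hom.resLE_comp_ι, Scheme.Hom.comp_apply]
  have hη₀ : η₀ ⤳ v₀ := (V₀.ι.isOpenEmbedding.isEmbedding.isInducing.specializes_iff).1 hη
  have hg₀ : g₀ η₀ = g₀ v₀ := S₀.ι.isOpenEmbedding.injective (by rw [hgι, hgι]; exact hg)
  -- all generalisations of `v₀` lie in `G`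
  have hgenG : ∀ y, y ⤳ v₀ → y ∈ G := fun y hy => by
    rw [hGmem]
    obtain ⟨n, C, hn, hC, hyC, hnC, hCf⟩ := exists_connected_generization g₀ hy hη₀ hg₀
    refine ⟨?_, rfl⟩
    let ι := g₀.fiberι (g₀ y)
    have hrange : ∀ z ∈ C, z ∈ Set.range ι := fun z hz => by
      rw [g₀.range_fiberι]; exact hCf hz
    obtain ⟨yF, hyF⟩ := hrange y hyC
    obtain ⟨nF, hnF⟩ := hrange n hnC
    have hpre : _root_.IsPreconnected (ι ⁻¹' C) := by
      rw [← ι.isEmbedding.isInducing.isPreconnected_image, Set.image_preimage_eq_inter_range,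
        Set.inter_eq_left.2 hrange]
      exact hC
    haveI : IsLocallyNoetherian (g₀.fiber (g₀ y)) :=
      LocallyOfFiniteType.isLocallyNoetherian (g₀.fiberToSpecResidueField (g₀ y))
    have hcl : IsClopen (closure (ι ⁻¹' E)) :=
      ⟨isClosed_closure, isOpen_closure_of_isDomain (isDomain_stalk_fiber g₀ _) (hEo.preimage ι.continuous)⟩
    have hsub := hpre.subset_isClopen hcl ⟨nF, by show ι nF ∈ C; rw [hnF]; exact hnC, subset_closure (by
      show ι nF ∈ E
      rw [hnF]
      exact hn.mem_open hEo hηN₀)⟩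
    have hyin : yF ∈ closure (ι ⁻¹' E) := hsub (by show ι yF ∈ C; rw [hyF]; exact hyC)
    rw [← FibTop.preimage_clF] at hyin
    have h2 : ι yF ∈ closure (E ∩ g₀ ⁻¹' {g₀ y}) := hyin.1
    rwa [hyF] at h2
  have hnot : v₀ ∉ closure Gᶜ := fun hcl => by
    obtain ⟨z, hz, hzv⟩ := EtConsAb.exists_specializes_of_isConstructible hGc.isConstructible.compl hcl
    exact hz (hgenG z hzv)
  refine ⟨V₀.ι ''ᵁ ⟨(closure Gᶜ)ᶜ, isClosed_closure.isOpen_compl⟩, ⟨v₀, hnot, rfl⟩, ?_⟩
  rintro _ ⟨y, hy, rfl⟩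
  have hyG : y ∈ G := by_contra fun h => hy (subset_closure h)
  refine closure_mono ?_ (image_closure_subset_closure_image V₀.ι.continuous ⟨y, ((hGmem y).1 hyG).1, rfl⟩)
  rintro _ ⟨z, ⟨hzE, hzg⟩, rfl⟩
  refine ⟨(hN₀le hzE).1, ?_⟩
  show g (V₀.ι z) = g (V₀.ι y)
  rw [← hgι, ← hgι, show g₀ z = g₀ y from hzg]

end Groth.Agent.EtConsAb.FibreDense
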