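import Groth.Agent.EtConsAb.PullTriv
import Groth.Agent.EtLimit.Apply
import Groth.Agent.EtaleSite.Points

/-!
# Values at geometric points of sections of inverse images

For `f : A ⟶ B`, a sheaf `G` on `B` and a geometric point `ζ` of `A`, a section of `f⁻¹G` has a value
in the stalk of `G` at the image of `ζ`.  These values determine the section and are compatible with
composition.
-/

set_option autoImplicit false
set_option linter.style.haveILetI false
set_option backward.isDefEq.respectTransparency false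

universe u

open CategoryTheory CategoryTheory.Limits AlgebraicGeometry Opposite

noncomputable section

namespace Groth.Agent.EtConsAb.PullVal

open Groth.Agent Groth.Agent.EtaleSite Groth.Agent.EtLimit Groth.Agent.EtLimit.FHom

variable {A B C : Scheme.{u}} {Ω : Type u} [Field Ω] [IsSepClosed Ω]

/-- A geometric point as a point of the final object. -/
def topPt {X : Scheme.{u}} (ξ : Spec (CommRingCat.of Ω) ⟶ X) :
    (Scheme.pointSmallEtale ξ).fiber.obj (EtCoh.top X) :=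
  (Over.homMk ξ (Category.comp_id _) : Over.mk ξ ⟶ (Scheme.Etale.forget X).obj (EtCoh.top X))

theorem eq_topPt {X : Scheme.{u}} (ξ : Spec (CommRingCat.of Ω) ⟶ X)
    (x : (Scheme.pointSmallEtale ξ).fiber.obj (EtCoh.top X)) : x = topPt ξ :=
  Over.OverMorphism.ext ((Category.comp_id x.left).symm.trans (Over.w x))

/-- The square of final objects. -/
theorem topW (f : A ⟶ B) : f ≫ (EtCoh.top B).hom = (EtCoh.top A).hom ≫ f :=
  (Category.comp_id f).trans (Category.id_comp f).symm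

section

variable (f : A ⟶ B) (G : EtCoh.Ab B) (ζ : Spec (CommRingCat.of Ω) ⟶ A)
  {ξ : Spec (CommRingCat.of Ω) ⟶ B} (e : ζ ≫ f = ξ)

/-- The image of a point in a square. -/
def ptComp {W : A.Etale} {U : B.Etale} (w : W.left ⟶ U.left) (hw : w ≫ U.hom = W.hom ≫ f)
    (ψ : (Scheme.pointSmallEtale ζ).fiber.obj W) : (Scheme.pointSmallEtale ξ).fiber.obj U :=
  (Over.homMk (ψ.left ≫ w) (by
    have h : ψ.left ≫ W.hom = ζ := Over.w ψ
    show (ψ.left ≫ w) ≫ U.hom = ξ
    rw [Category.assoc, hw, ← Category.assoc, h, e]) :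
    Over.mk ξ ⟶ (Scheme.Etale.forget B).obj U)

/-- The comparison of stalks. -/
def pullSt : (EtCoh.stalk ζ).obj ((EtCoh.pull f).obj G) ⟶ (EtCoh.stalk ξ).obj G :=
  (stalkPullIso f ζ).hom.app G ≫ eqToHom (by subst e; rfl)

instance isIso_pullSt : IsIso (pullSt f G ζ e) := by
  unfold pullSt; infer_instance

theorem pullSt_injective : Function.Injective (pullSt f G ζ e) :=
  (ConcreteCategory.bijective_of_isIso (pullSt f G ζ e)).1

theorem pullSt_germ_unit {W : A.Etale} {U : B.Etale} (w : W.left ⟶ U.left)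
    (hw : w ≫ U.hom = W.hom ≫ f) (ψ : (Scheme.pointSmallEtale ζ).fiber.obj W)
    (a : G.obj.obj (op U)) :
    pullSt f G ζ e (germ ζ _ W ψ ((FHom.unit f G).app W U w hw a)) =
      germ ξ G U (ptComp f ζ e w hw ψ) a := by
  subst e
  have hp : (Scheme.pointSmallEtale ζ).fiber.map (toBc w hw) ψ =
      fiberBcEquiv f ζ U (ptComp f ζ rfl w hw ψ) := by
    refine Over.OverMorphism.ext (pullback.hom_ext ?_ ?_)
    · exact ((Category.assoc _ _ _).trans (congrArg (ψ.left ≫ ·) (toBc_fst w hw))).trans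
        (pullback.lift_fst _ _ _).symm
    · exact ((Category.assoc _ _ _).trans (congrArg (ψ.left ≫ ·)
        (MorphismProperty.Over.w (toBc w hw)))).trans ((Over.w ψ).trans (pullback.lift_snd _ _ _).symm)
  have h1 : germ ζ _ W ψ ((FHom.unit f G).app W U w hw a) =
      germ ζ _ ((EtCoh.bc f).obj U) (fiberBcEquiv f ζ U (ptComp f ζ rfl w hw ψ)) (pullSect f G U a) := by
    rw [← hp]
    exact germ_res ζ _ (toBc w hw) ψ _
  rw [h1, germ_pullSect]
  simp only [pullSt, eqToHom_refl, Category.comp_id]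
  exact ConcreteCategory.congr_hom ((stalkPullIso f ζ).inv_hom_id_app G) _

theorem pullSt_map {G' : EtCoh.Ab B} (a : G ⟶ G') (p : (EtCoh.stalk ζ).obj ((EtCoh.pull f).obj G)) :
    pullSt f G' ζ e ((EtCoh.stalk ζ).map ((EtCoh.pull f).map a) p) =
      (EtCoh.stalk ξ).map a (pullSt f G ζ e p) := by
  subst e
  simp only [pullSt, eqToHom_refl, Category.comp_id]
  exact NatTrans.naturality_apply (stalkPullIso f ζ).hom a p

/-- Every element of a stalk of the inverse image comes from a section. -/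
theorem exists_germ_unit {ξ : Spec (CommRingCat.of Ω) ⟶ B} (e : ζ ≫ f = ξ) (p : (EtCoh.stalk ζ).obj ((EtCoh.pull f).obj G)) :
    ∃ (W : A.Etale) (U : B.Etale) (w : W.left ⟶ U.left) (hw : w ≫ U.hom = W.hom ≫ f)
      (ψ : (Scheme.pointSmallEtale ζ).fiber.obj W) (a : G.obj.obj (op U)),
      germ ζ _ W ψ ((FHom.unit f G).app W U w hw a) = p := by
  obtain ⟨U, φ, a, ha⟩ := exists_germ_eq ξ G (pullSt f G ζ e p)
  subst e
  refine ⟨(EtCoh.bc f).obj U, U, bcFst f U, bcFst_w f U, fiberBcEquiv f ζ U φ, a,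
    pullSt_injective f G ζ rfl ((pullSt_germ_unit f G ζ rfl _ _ _ a).trans ?_)⟩
  rw [← ha]
  exact congrArg (fun x => germ (ζ ≫ f) G U x a) (Over.OverMorphism.ext (pullback.lift_fst _ _ _))

/-- The value of a section of the inverse image at a geometric point. -/
def val : ((EtCoh.pull f).obj G).obj.obj (op (EtCoh.top A)) ⟶ (EtCoh.stalk ξ).obj G :=
  germ ζ _ (EtCoh.top A) (topPt ζ) ≫ pullSt f G ζ e

theorem val_eq (s : ((EtCoh.pull f).obj G).obj.obj (op (EtCoh.top A))) :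
    val f G ζ e s = pullSt f G ζ e (germ ζ _ (EtCoh.top A) (topPt ζ) s) :=
  rfl

theorem val_map {G' : EtCoh.Ab B} (a : G ⟶ G')
    (s : ((EtCoh.pull f).obj G).obj.obj (op (EtCoh.top A))) :
    (EtCoh.stalk ξ).map a (val f G ζ e s) =
      val f G' ζ e (((EtCoh.pull f).map a).hom.app (op (EtCoh.top A)) s) := by
  rw [val_eq, val_eq, ← pullSt_map, germ_naturality]

/-- The pullback of a global section. -/
def sectPull : G.obj.obj (op (EtCoh.top B)) ⟶ ((EtCoh.pull f).obj G).obj.obj (op (EtCoh.top A)) :=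
  (FHom.unit f G).app (EtCoh.top A) (EtCoh.top B) f (topW f)

theorem val_sectPull (t : G.obj.obj (op (EtCoh.top B))) :
    val f G ζ e (sectPull f G t) = germ ξ G (EtCoh.top B) (topPt ξ) t := by
  rw [val_eq, sectPull, pullSt_germ_unit, eq_topPt ξ (ptComp _ _ _ _ _ _)]

theorem sectPull_map {G' : EtCoh.Ab B} (a : G ⟶ G') (t : G.obj.obj (op (EtCoh.top B))) :
    ((EtCoh.pull f).map a).hom.app (op (EtCoh.top A)) (sectPull f G t) =
      sectPull f G' (a.hom.app (op (EtCoh.top B)) t) :=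
  pull_map_unit_apply f a _ _ _ _ t

end

/-- Values determine sections. -/
theorem val_ext (f : A ⟶ B) {G : EtCoh.Ab B}
    {s t : ((EtCoh.pull f).obj G).obj.obj (op (EtCoh.top A))}
    (h : ∀ (Ω : Type u) [Field Ω] [IsSepClosed Ω] (ζ : Spec (CommRingCat.of Ω) ⟶ A),
      val f G ζ rfl s = val f G ζ rfl t) : s = t := by
  refine sect_ext s t fun Ω _ _ ζ x => ?_
  rw [eq_topPt ζ x]
  exact pullSt_injective f G ζ rfl (h Ω ζ)

section

variable (f : A ⟶ B) (g : B ⟶ C) {h : A ⟶ C} (eh : f ≫ g = h) (G : EtCoh.Ab C)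
  (ζ : Spec (CommRingCat.of Ω) ⟶ A) {ξ₁ : Spec (CommRingCat.of Ω) ⟶ B} (e₁ : ζ ≫ f = ξ₁)
  {ξ : Spec (CommRingCat.of Ω) ⟶ C} (e₂ : ξ₁ ≫ g = ξ) (e₃ : ζ ≫ h = ξ)

theorem pullSt_κ (p : (EtCoh.stalk ζ).obj ((EtCoh.pull f).obj ((EtCoh.pull g).obj G))) :
    pullSt h G ζ e₃ ((EtCoh.stalk ζ).map (κ f g eh G).hom p) =
      pullSt g G ξ₁ e₂ (pullSt f _ ζ e₁ p) := by
  subst e₁
  obtain ⟨V, U, w₂, h₂, φ, a, ha⟩ := exists_germ_unit g G (ζ ≫ f) e₂ (pullSt f _ ζ rfl p)
  let W := (EtCoh.bc f).obj V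
  let ψ := fiberBcEquiv f ζ V φ
  have hψ : ptComp f ζ rfl (bcFst f V) (bcFst_w f V) ψ = φ :=
    Over.OverMorphism.ext (pullback.lift_fst _ _ _)
  have hp : p = germ ζ _ W ψ ((FHom.unit f _).app W V (bcFst f V) (bcFst_w f V)
      ((FHom.unit g G).app V U w₂ h₂ a)) := by
    refine pullSt_injective f _ ζ rfl (ha.symm.trans ?_)
    rw [pullSt_germ_unit, hψ]
  have hw : (bcFst f V ≫ w₂) ≫ U.hom = W.hom ≫ h := by
    rw [Category.assoc, h₂, ← Category.assoc, bcFst_w f V, Category.assoc, eh]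
  rw [← ha, hp, germ_naturality, κ_unit_apply f g eh G (bcFst f V) (bcFst_w f V) w₂ h₂ _ hw rfl a,
    pullSt_germ_unit, pullSt_germ_unit]
  refine congrArg (fun x => germ ξ G U x a) (Over.OverMorphism.ext ?_)
  show ψ.left ≫ bcFst f V ≫ w₂ = φ.left ≫ w₂
  rw [← Category.assoc]
  exact congrArg (· ≫ w₂) (congrArg (fun k => k.left) hψ)

theorem val_κ (s : ((EtCoh.pull f).obj ((EtCoh.pull g).obj G)).obj.obj (op (EtCoh.top A))) :
    val h G ζ e₃ ((κ f g eh G).hom.hom.app (op (EtCoh.top A)) s) =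
      pullSt g G ξ₁ e₂ (val f _ ζ e₁ s) := by
  rw [val_eq, val_eq, ← pullSt_κ f g eh G ζ e₁ e₂ e₃, germ_naturality]

/-- Restriction of a section of an inverse image along a morphism. -/
def sectRes : ((EtCoh.pull g).obj G).obj.obj (op (EtCoh.top B)) ⟶
    ((EtCoh.pull h).obj G).obj.obj (op (EtCoh.top A)) :=
  sectPull f _ ≫ (κ f g eh G).hom.hom.app (op (EtCoh.top A))

include e₁ in
theorem val_sectRes (s : ((EtCoh.pull g).obj G).obj.obj (op (EtCoh.top B))) :
    val h G ζ e₃ (sectRes f g eh G s) = val g G ξ₁ e₂ s := by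
  show val h G ζ e₃ ((κ f g eh G).hom.hom.app (op (EtCoh.top A)) (sectPull f _ s)) = _
  rw [val_κ f g eh G ζ e₁ e₂ e₃, val_sectPull]
  rfl

end

end Groth.Agent.EtConsAb.PullVal
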