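/-
Inverse images along smooth morphisms and fibrewise dense opens.
-/
import Groth.Agent.EtConsAb.FibreDenseTop
import Groth.Agent.EtConsAb.PullVal
import Groth.Agent.EtSubmersive.ShBC
import Groth.Agent.EtStruct.Instances

set_option autoImplicit false
set_option linter.style.haveILetI false

universe u

open CategoryTheory CategoryTheory.Limits AlgebraicGeometry Opposite TopologicalSpace

noncomputable section

namespace Groth.Agent.EtConsAb.FibreDense

open Groth.Agent.EtaleSite Groth.Agent.EtConsAb Groth.Agent.EtConsAb.PullVal Groth.Agent.EtSubmersive Groth.Agent.EtUnitConst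
  Groth.Agent.EtLimit Groth.Agent.EtLimit.FHom

variable {Y S : Scheme.{u}} (h : Y ⟶ S) (F : EtCoh.Ab S)

theorem mem_zloc_zero (G : EtCoh.Ab Y) {W : Y.Etale} (x : W.left) :
    x ∈ zloc G W (0 : G.obj.obj (op W)) :=
  ⟨⊤, trivial, map_zero _⟩

/-- Near every point a section of an inverse image is a pulled back section. -/
theorem exists_unit_nhd (W : Y.Etale) (τ : ((EtCoh.pull h).obj F).obj.obj (op W)) (y : W.left) :
    ∃ (W' : Y.Etale) (k : W' ⟶ W) (S' : S.Etale) (w : W'.left ⟶ S'.left)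
      (hw : w ≫ S'.hom = W'.hom ≫ h) (a : F.obj.obj (op S')) (w₀ : W'.left),
      k.left w₀ = y ∧ ((EtCoh.pull h).obj F).obj.map k.op τ = (unit h F).app W' S' w hw a := by
  let G := (EtCoh.pull h).obj F
  obtain ⟨Ω, _, _, ζ, φ, rfl⟩ := EtSubmersive.exists_point W y
  obtain ⟨W₁, S', w, hw, ψ, a, ha⟩ := exists_germ_unit h F ζ rfl (germ ζ G W φ τ)
  obtain ⟨W₂, w₂, α, β, hα, hβ⟩ := exists_refine φ ψ
  have e : germ ζ G W₂ w₂ (G.obj.map α.op τ) = germ ζ G W₂ w₂ (G.obj.map β.op ((unit h F).app W₁ S' w hw a)) := by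
    rw [germ_res, germ_res, hα, hβ, ha]
  obtain ⟨V, c, v, hv, hV⟩ := (germ_eq_iff ζ G _ _ _ _).1 e
  have hw' : (c.left ≫ β.left ≫ w) ≫ S'.hom = V.hom ≫ h := by
    simp only [Category.assoc]
    rw [hw, ← Category.assoc β.left, MorphismProperty.Over.w β, ← Category.assoc,
      MorphismProperty.Over.w c]
  refine ⟨V, c ≫ α, S', c.left ≫ β.left ≫ w, hw', a, v.left (default : Spec (CommRingCat.of Ω)), ?_, ?_⟩
  · subst hv
    exact congrArg (fun k => k.left (default : Spec (CommRingCat.of Ω))) hα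
  · rw [op_comp, Functor.map_comp, ConcreteCategory.comp_apply]
    refine hV.trans ?_
    rw [← ConcreteCategory.comp_apply, ← Functor.map_comp, ← op_comp]
    exact app_map_apply (unit h F) (c ≫ β) w hw _ hw' (Category.assoc _ _ _) a

/-- The zero locus of a pulled back section. -/
theorem zloc_unit {W : Y.Etale} {S' : S.Etale} (w : W.left ⟶ S'.left) (hw : w ≫ S'.hom = W.hom ≫ h)
    (a : F.obj.obj (op S')) (x : W.left) :
    x ∈ zloc ((EtCoh.pull h).obj F) W ((unit h F).app W S' w hw a) ↔ w x ∈ zloc F S' a := by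
  obtain ⟨Ω, _, _, ζ, ψ, rfl⟩ := EtSubmersive.exists_point W x
  refine (mem_zloc_iff _ _ ζ ψ).trans (Iff.trans ?_
    (mem_zloc_iff F a (ζ ≫ h) (ptComp h ζ rfl w hw ψ)).symm)
  rw [← pullSt_germ_unit h F ζ rfl w hw ψ a]
  exact (map_eq_zero_iff _ (pullSt_injective h F ζ rfl)).symm

/-- The zero locus of a section of an inverse image is closed in every fibre. -/
theorem mem_zloc_of_closure (W : Y.Etale) (δ : ((EtCoh.pull h).obj F).obj.obj (op W)) (y : W.left)
    (hy : y ∈ closure ((zloc ((EtCoh.pull h).obj F) W δ : Set W.left) ∩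
      (W.hom ≫ h) ⁻¹' {(W.hom ≫ h) y})) :
    y ∈ zloc ((EtCoh.pull h).obj F) W δ := by
  obtain ⟨W', k, S', w, hw, a, w₀, rfl, he⟩ := exists_unit_nhd h F W δ y
  haveI : Etale S'.hom := S'.prop
  haveI : LocallyQuasiFinite S'.hom := EtStruct.locallyQuasiFinite_of_formallyUnramified _
  have hd : _root_.IsDiscrete (S'.hom ⁻¹' {S'.hom (w w₀)}) := S'.hom.isDiscrete_preimage_singleton _
  obtain ⟨A, hA, hAeq⟩ : ∃ A : Set S'.left, IsOpen A ∧
      A ∩ S'.hom ⁻¹' {S'.hom (w w₀)} = {w w₀} := by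
    exact isDiscrete_iff_forall_exists_isOpen.1 hd (w w₀) rfl
  haveI := EtConsAb.etale_left k
  have hopen : IsOpen (k.left '' (w ⁻¹' A)) := k.left.isOpenMap _ (hA.preimage w.continuous)
  have hmem : k.left w₀ ∈ k.left '' (w ⁻¹' A) :=
    ⟨w₀, (hAeq.ge (Set.mem_singleton _)).1, rfl⟩
  obtain ⟨_, ⟨w₁, hw₁, rfl⟩, hz, hfib⟩ := mem_closure_iff.1 hy _ hopen hmem
  have hcomm : ∀ z, S'.hom (w z) = (W.hom ≫ h) (k.left z) := fun z => by
    rw [← Scheme.Hom.comp_apply, hw, ← Scheme.Hom.comp_apply, ← Category.assoc,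
      MorphismProperty.Over.w k]
  have ht : w w₁ = w w₀ := by
    have : w w₁ ∈ A ∩ S'.hom ⁻¹' {S'.hom (w w₀)} := ⟨hw₁, by
      show S'.hom (w w₁) = S'.hom (w w₀)
      rw [hcomm, hcomm]; exact hfib⟩
    rw [hAeq] at this
    exact this
  have h1 : w w₁ ∈ zloc F S' a := by
    rw [← zloc_unit h F w hw a w₁, ← he, zloc_res]
    exact hz
  rw [← zloc_res, he, zloc_unit, ← ht]
  exact h1

variable {X U : Scheme.{u}} (f : X ⟶ S) (j : U ⟶ X) [IsOpenImmersion j]

/-- Restriction to the open, with values in the inverse image from `S`. -/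
def resOpen (W : X.Etale) :
    ((EtCoh.pull f).obj F).obj.obj (op W) →+
      ((EtCoh.pull (j ≫ f)).obj F).obj.obj (op ((EtCoh.bc j).obj W)) :=
  ((κ j f rfl F).hom.hom.app (op ((EtCoh.bc j).obj W))).hom.comp (pullSect j ((EtCoh.pull f).obj F) W)

theorem resOpen_unit (W : X.Etale) (S' : S.Etale) (w : W.left ⟶ S'.left) (hw : w ≫ S'.hom = W.hom ≫ f)
    (w' : ((EtCoh.bc j).obj W).left ⟶ S'.left)
    (hw' : w' ≫ S'.hom = ((EtCoh.bc j).obj W).hom ≫ j ≫ f) (e : bcFst j W ≫ w = w')
    (a : F.obj.obj (op S')) :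
    resOpen F f j W ((unit f F).app W S' w hw a) = (unit (j ≫ f) F).app _ S' w' hw' a := by
  have h1 : pullSect j ((EtCoh.pull f).obj F) W ((unit f F).app W S' w hw a) =
      (unit j ((EtCoh.pull f).obj F)).app ((EtCoh.bc j).obj W) W (bcFst j W) (bcFst_w j W)
        ((unit f F).app W S' w hw a) :=
    (ConcreteCategory.congr_hom (ofPush_app ((EtCoh.pullPushAdj j).unit.app ((EtCoh.pull f).obj F)) W) _).symm
  exact (congrArg (fun z => (κ j f rfl F).hom.hom.app (op ((EtCoh.bc j).obj W)) z) h1).trans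
    (κ_unit_apply j f rfl F (bcFst j W) (bcFst_w j W) w hw w' hw' e a)

theorem resOpen_res {W' W : X.Etale} (k : W' ⟶ W) (x : ((EtCoh.pull f).obj F).obj.obj (op W)) :
    resOpen F f j W' (((EtCoh.pull f).obj F).obj.map k.op x) =
      ((EtCoh.pull (j ≫ f)).obj F).obj.map ((EtCoh.bc j).map k).op (resOpen F f j W x) := by
  exact (congrArg (fun z => (κ j f rfl F).hom.hom.app (op ((EtCoh.bc j).obj W')) z)
      (pullSect_res j ((EtCoh.pull f).obj F) k x)).trans
    (NatTrans.naturality_apply (κ j f rfl F).hom.hom ((EtCoh.bc j).map k).op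
      (pullSect j ((EtCoh.pull f).obj F) W x))

variable [Smooth f]
  (hd : ∀ x : X, x ∈ closure (Set.range j ∩ {y : X | f.base y = f.base x}))

include hd in
theorem resOpen_injective (W : X.Etale) : Function.Injective (resOpen F f j W) := by
  refine (injective_iff_map_eq_zero _).2 fun δ hδ => ?_
  have hp : pullSect j ((EtCoh.pull f).obj F) W δ = 0 :=
    (map_eq_zero_iff _ (ConcreteCategory.bijective_of_isIso ((κ j f rfl F).hom.hom.app _)).1).1 hδ
  refine eq_zero_of_zloc _ _ fun y => mem_zloc_of_closure f F W δ y ?_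
  haveI : Etale W.hom := W.prop
  have h1 : y ∈ closure (W.hom ⁻¹' (Set.range j ∩ {x : X | f.base x = f.base (W.hom y)})) := by
    rw [← W.hom.isOpenMap.preimage_closure_eq_closure_preimage W.hom.continuous]
    exact hd _
  refine closure_mono ?_ h1
  intro z hz
  refine ⟨?_, ?_⟩
  · obtain ⟨u, hu⟩ := hz.1
    obtain ⟨p, hp₁, -⟩ := Scheme.Pullback.exists_preimage_pullback (f := W.hom) (g := j) z u hu.symm
    rw [← hp₁]
    refine (EtSubmersive.zloc_pullSect j _ W δ p).1 ?_
    rw [hp]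
    exact mem_zloc_zero _ _
  · show (W.hom ≫ f) z = (W.hom ≫ f) y
    rw [Scheme.Hom.comp_apply, Scheme.Hom.comp_apply]
    exact hz.2

include hd in
/-- Locally, a section over the open extends. -/
theorem exists_local_extension (W : X.Etale)
    (τ : ((EtCoh.pull (j ≫ f)).obj F).obj.obj (op ((EtCoh.bc j).obj W))) (y : W.left) :
    ∃ (W' : X.Etale) (k : W' ⟶ W) (x : ((EtCoh.pull f).obj F).obj.obj (op W')) (w : W'.left),
      k.left w = y ∧
      resOpen F f j W' x = ((EtCoh.pull (j ≫ f)).obj F).obj.map ((EtCoh.bc j).map k).op τ := by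
  haveI : Etale W.hom := W.prop
  let g₀ : W.left ⟶ S := W.hom ≫ f
  haveI : Smooth g₀ := inferInstance
  -- a generalisation of `y` in its fibre lying in the open
  obtain ⟨η, hηU, hη, hgη⟩ : ∃ η : W.left, η ∈ Set.range (bcFst j W) ∧ η ⤳ y ∧ g₀ η = g₀ y := by
    let ι := g₀.fiberι (g₀ y)
    have hrange : Set.range ι = g₀ ⁻¹' {g₀ y} := g₀.range_fiberι _
    obtain ⟨yF, hyF⟩ : y ∈ Set.range ι := hrange.ge rfl
    let A : Set (g₀.fiber (g₀ y)) := ι ⁻¹' (W.hom ⁻¹' Set.range j)
    have hAo : IsOpen A := ((j.isOpenEmbedding.isOpen_range).preimage W.hom.continuous).preimage ι.continuous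
    have hy : yF ∈ closure A := by
      rw [ι.isEmbedding.closure_eq_preimage_closure_image, Set.mem_preimage, hyF]
      have h1 : y ∈ closure (W.hom ⁻¹' (Set.range j ∩ {x : X | f.base x = f.base (W.hom y)})) := by
        rw [← W.hom.isOpenMap.preimage_closure_eq_closure_preimage W.hom.continuous]
        exact hd _
      refine closure_mono (fun z hz => ?_) h1
      have hg : g₀ z = g₀ y := by
        show (W.hom ≫ f) z = (W.hom ≫ f) y
        rw [Scheme.Hom.comp_apply, Scheme.Hom.comp_apply]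
        exact hz.2
      obtain ⟨zF, rfl⟩ : z ∈ Set.range ι := hrange.ge hg
      exact ⟨zF, hz.1, rfl⟩
    haveI : IsLocallyNoetherian (g₀.fiber (g₀ y)) :=
      LocallyOfFiniteType.isLocallyNoetherian (g₀.fiberToSpecResidueField (g₀ y))
    obtain ⟨D, hD, hyD, -⟩ := exists_isAffineOpen_mem_and_subset
      (show yF ∈ (⊤ : (g₀.fiber (g₀ y)).Opens) from trivial)
    haveI : IsAffine (D : Scheme.{u}) := hD
    haveI : IsNoetherian (D : Scheme.{u}) := ⟨⟩
    let E : Set ↥(D : Scheme.{u}) := D.ι ⁻¹' A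
    have hEo : IsOpen E := hAo.preimage D.ι.continuous
    have hE : Topology.IsConstructible E := IsRetrocompact.isConstructible hEo
      fun _ _ _ => NoetherianSpace.isCompact _
    have hcl : (⟨yF, hyD⟩ : ↥(D : Scheme.{u})) ∈ closure E := by
      rw [← D.ι.isOpenEmbedding.isOpenMap.preimage_closure_eq_closure_preimage D.ι.continuous]
      exact hy
    obtain ⟨z, hz, hzy⟩ := EtConsAb.exists_specializes_of_isConstructible hE hcl
    refine ⟨ι (D.ι z), ?_, ?_, hrange.le ⟨_, rfl⟩⟩
    · obtain ⟨u, hu⟩ := (hz : W.hom (ι (D.ι z)) ∈ Set.range j)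
      obtain ⟨p, hp, -⟩ := Scheme.Pullback.exists_preimage_pullback (f := W.hom) (g := j)
        (ι (D.ι z)) u hu.symm
      exact ⟨p, hp⟩
    · have h2 := (hzy.map D.ι.continuous).map ι.continuous
      exact h2.trans (specializes_of_eq hyF)
  obtain ⟨p₀, hp₀⟩ := hηU
  obtain ⟨W₁, k₁, S', w, hw, a, w₀, hw₀, he⟩ := exists_unit_nhd (j ≫ f) F _ τ p₀
  haveI : Etale S'.hom := S'.prop
  let P := pullback g₀ S'.hom
  haveI : Etale (pullback.fst g₀ S'.hom) := MorphismProperty.pullback_fst _ _ inferInstance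
  haveI : Smooth (pullback.snd g₀ S'.hom) := MorphismProperty.pullback_snd _ _ inferInstance
  let V : X.Etale := Scheme.Etale.mk (pullback.fst g₀ S'.hom ≫ W.hom)
  let kV : V ⟶ W := MorphismProperty.Over.homMk (pullback.fst g₀ S'.hom) rfl trivial
  have hv : pullback.snd g₀ S'.hom ≫ S'.hom = V.hom ≫ f :=
    pullback.condition.symm.trans (Category.assoc _ _ _).symm
  let x₀ := (unit f F).app V S' (pullback.snd g₀ S'.hom) hv a
  let τ' := ((EtCoh.pull (j ≫ f)).obj F).obj.map ((EtCoh.bc j).map kV).op τ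
  let δ := resOpen F f j V x₀ - τ'
  let Z := zloc ((EtCoh.pull (j ≫ f)).obj F) _ δ
  have hcond : (k₁.left ≫ bcFst j W) ≫ g₀ = w ≫ S'.hom := by
    rw [hw, Category.assoc]
    show k₁.left ≫ bcFst j W ≫ W.hom ≫ f = W₁.hom ≫ j ≫ f
    rw [← Category.assoc (bcFst j W), bcFst_w, Category.assoc, ← Category.assoc k₁.left,
      MorphismProperty.Over.w k₁]
  let ρ : W₁.left ⟶ P := pullback.lift (k₁.left ≫ bcFst j W) w hcond
  have hρ : ρ ≫ V.hom = W₁.hom ≫ j := by
    show pullback.lift (k₁.left ≫ bcFst j W) w hcond ≫ pullback.fst g₀ S'.hom ≫ W.hom = _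
    rw [pullback.lift_fst_assoc, Category.assoc, bcFst_w, ← Category.assoc k₁.left,
      MorphismProperty.Over.w k₁]
  let ρ' : W₁ ⟶ (EtCoh.bc j).obj V := toBc ρ hρ
  have hρk : ρ' ≫ (EtCoh.bc j).map kV = k₁ := bc_hom_ext (by
    show (ρ'.left ≫ ((EtCoh.bc j).map kV).left) ≫ bcFst j W = _
    rw [Category.assoc, bc_map_fst, ← Category.assoc, toBc_fst]
    exact pullback.lift_fst _ _ _)
  have hw'' : (bcFst j V ≫ pullback.snd g₀ S'.hom) ≫ S'.hom =
      ((EtCoh.bc j).obj V).hom ≫ j ≫ f := by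
    exact (Category.assoc _ _ _).trans ((congrArg (bcFst j V ≫ ·) hv).trans ((Category.assoc _ _ _).symm.trans
      ((congrArg (· ≫ f) (bcFst_w j V)).trans (Category.assoc _ _ _))))
  have hδ : ((EtCoh.pull (j ≫ f)).obj F).obj.map ρ'.op δ = 0 := by
    rw [map_sub, sub_eq_zero]
    show _ = ((EtCoh.pull (j ≫ f)).obj F).obj.map ρ'.op
      (((EtCoh.pull (j ≫ f)).obj F).obj.map ((EtCoh.bc j).map kV).op τ)
    rw [← ConcreteCategory.comp_apply, ← Functor.map_comp, ← op_comp, hρk, he,
      resOpen_unit F f j V S' _ hv _ hw'' rfl a]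
    refine app_map_apply (unit (j ≫ f) F) ρ' _ hw'' w hw ?_ a
    rw [← Category.assoc, toBc_fst]
    exact pullback.lift_snd _ _ _
  have hnZ : ρ'.left w₀ ∈ Z := by
    rw [← zloc_res, hδ]
    exact mem_zloc_zero _ _
  let n : P := bcFst j V (ρ'.left w₀)
  have hn : n = ρ w₀ := by
    show bcFst j V (ρ'.left w₀) = _
    rw [← Scheme.Hom.comp_apply, toBc_fst]
    rfl
  have hn₁ : pullback.fst g₀ S'.hom n = η := by
    rw [hn, ← Scheme.Hom.comp_apply, pullback.lift_fst, Scheme.Hom.comp_apply, hw₀, hp₀]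
  -- a specialisation of `n` over `y` with the same image in `S'`
  obtain ⟨v, hnv, hvy, hvt⟩ : ∃ v : P, n ⤳ v ∧ pullback.fst g₀ S'.hom v = y ∧
      pullback.snd g₀ S'.hom n = pullback.snd g₀ S'.hom v := by
    let t := pullback.snd g₀ S'.hom n
    let ρS := S.fromSpecResidueField (S'.hom t)
    let rm := Spec.map (S'.hom.residueFieldMap t)
    haveI : LocallyQuasiFinite S'.hom := EtStruct.locallyQuasiFinite_of_formallyUnramified _
    haveI : LocallyQuasiFinite (rm ≫ ρS) := by
      show LocallyQuasiFinite (Spec.map (S'.hom.residueFieldMap t) ≫ S.fromSpecResidueField (S'.hom t))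
      rw [Scheme.Hom.SpecMap_residueFieldMap_fromSpecResidueField]
      infer_instance
    haveI : LocallyQuasiFinite rm := LocallyQuasiFinite.of_comp rm ρS
    haveI : IsFinite rm := IsFinite.of_locallyQuasiFinite rm
    haveI : IsFinite (pullback.fst (pullback.snd g₀ ρS) rm) :=
      MorphismProperty.pullback_fst _ _ inferInstance
    have hcl : IsClosedMap (pullback.fst (pullback.snd g₀ ρS) rm) := Scheme.Hom.isClosedMap _
    let μ : pullback (pullback.snd g₀ ρS) rm ⟶ P :=
      pullback.lift (pullback.fst _ _ ≫ pullback.fst g₀ ρS)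
        (pullback.snd _ _ ≫ S'.left.fromSpecResidueField t) (by
          rw [Category.assoc, pullback.condition, ← Category.assoc, pullback.condition, Category.assoc,
            Category.assoc, Scheme.Hom.SpecMap_residueFieldMap_fromSpecResidueField]
          rfl)
    have hc1 : (P.fromSpecResidueField n ≫ pullback.fst g₀ S'.hom) ≫ g₀ =
        (Spec.map ((pullback.snd g₀ S'.hom).residueFieldMap n) ≫ rm) ≫ ρS := by
      rw [Category.assoc, pullback.condition, Category.assoc,
        Scheme.Hom.SpecMap_residueFieldMap_fromSpecResidueField, ← Category.assoc, ← Category.assoc,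
        Scheme.Hom.SpecMap_residueFieldMap_fromSpecResidueField]
    let σ : Spec (P.residueField n) ⟶ pullback (pullback.snd g₀ ρS) rm :=
      pullback.lift (pullback.lift (P.fromSpecResidueField n ≫ pullback.fst g₀ S'.hom) _ hc1)
        (Spec.map ((pullback.snd g₀ S'.hom).residueFieldMap n)) (pullback.lift_snd _ _ _)
    have hσ : σ ≫ μ = P.fromSpecResidueField n := by
      refine pullback.hom_ext ?_ ?_
      · rw [Category.assoc, pullback.lift_fst, pullback.lift_fst_assoc, pullback.lift_fst]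
      · rw [Category.assoc, pullback.lift_snd, pullback.lift_snd_assoc]
        exact Scheme.Hom.SpecMap_residueFieldMap_fromSpecResidueField _ _
    let p := σ (IsLocalRing.closedPoint _)
    have hμp : μ p = n := by
      rw [← Scheme.Hom.comp_apply, hσ, Scheme.fromSpecResidueField_apply]
    have hfib : Set.range (pullback.fst g₀ ρS) = g₀ ⁻¹' {S'.hom t} := g₀.range_fiberι _
    have hst : S'.hom t = g₀ y := by
      rw [← hgη, ← hn₁, ← Scheme.Hom.comp_apply, ← Scheme.Hom.comp_apply, pullback.condition]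
    obtain ⟨yF, hyF⟩ : y ∈ Set.range (pullback.fst g₀ ρS) := hfib.ge hst.symm
    have hq : pullback.fst g₀ ρS (pullback.fst (pullback.snd g₀ ρS) rm p) = η := by
      have hμf : μ ≫ pullback.fst g₀ S'.hom =
          pullback.fst (pullback.snd g₀ ρS) rm ≫ pullback.fst g₀ ρS := pullback.lift_fst _ _ _
      rw [← hn₁, ← hμp]
      exact (congrArg (fun m => m p) hμf).symm
    have hspec : pullback.fst (pullback.snd g₀ ρS) rm p ⤳ yF := by
      refine ((g₀.fiberι (S'.hom t)).isEmbedding.isInducing.specializes_iff).1 ?_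
      show pullback.fst g₀ ρS _ ⤳ pullback.fst g₀ ρS yF
      rw [hq, hyF]
      exact hη
    obtain ⟨p', hp', hp'y⟩ := hcl.specializingMap hspec
    refine ⟨μ p', hμp ▸ hp'.map μ.continuous, ?_, ?_⟩
    · rw [← Scheme.Hom.comp_apply, pullback.lift_fst, Scheme.Hom.comp_apply, hp'y, hyF]
    · rw [← Scheme.Hom.comp_apply μ, pullback.lift_snd, Scheme.Hom.comp_apply,
        Scheme.fromSpecResidueField_apply]
  haveI : IsOpenImmersion (bcFst j V) := MorphismProperty.pullback_fst _ _ inferInstance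
  let N : Set P := bcFst j V '' (Z : Set ((EtCoh.bc j).obj V).left)
  obtain ⟨O, hvO, hO⟩ := exists_nhd_closure_fibre (pullback.snd g₀ S'.hom) hnv hvt
    ((bcFst j V).isOpenEmbedding.isOpenMap _ Z.isOpen : IsOpen N) ⟨_, hnZ, rfl⟩
  refine ⟨piece V O, pieceHom V O ≫ kV, ((EtCoh.pull f).obj F).obj.map (pieceHom V O).op x₀, ⟨v, hvO⟩, ?_, ?_⟩
  · exact hvy
  · rw [resOpen_res]
    refine sub_eq_zero.1 ?_
    have e : ((EtCoh.pull (j ≫ f)).obj F).obj.map ((EtCoh.bc j).map (pieceHom V O ≫ kV)).op τ =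
        ((EtCoh.pull (j ≫ f)).obj F).obj.map ((EtCoh.bc j).map (pieceHom V O)).op τ' := by
      rw [← ConcreteCategory.comp_apply, ← Functor.map_comp, ← op_comp, ← Functor.map_comp]
    rw [e, ← map_sub]
    refine eq_zero_of_zloc _ _ fun q => ?_
    rw [zloc_res]
    let q' := ((EtCoh.bc j).map (pieceHom V O)).left q
    have hqO : bcFst j V q' ∈ O := by
      show bcFst j V (((EtCoh.bc j).map (pieceHom V O)).left q) ∈ O
      rw [← Scheme.Hom.comp_apply, bc_map_fst, Scheme.Hom.comp_apply]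
      exact (bcFst j (piece V O) q).2
    refine mem_zloc_of_closure (j ≫ f) F _ δ q' ?_
    have h1 : q' ∈ bcFst j V ⁻¹' closure (N ∩ pullback.snd g₀ S'.hom ⁻¹' {pullback.snd g₀ S'.hom (bcFst j V q')}) :=
      hO _ hqO
    rw [(bcFst j V).isOpenEmbedding.isOpenMap.preimage_closure_eq_closure_preimage (bcFst j V).continuous] at h1
    refine closure_mono ?_ h1
    intro z hz
    refine ⟨?_, ?_⟩
    · obtain ⟨z', hz', hzz⟩ := hz.1
      exact (bcFst j V).isOpenEmbedding.injective hzz ▸ hz'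
    · show (((EtCoh.bc j).obj V).hom ≫ j ≫ f) z = (((EtCoh.bc j).obj V).hom ≫ j ≫ f) q'
      rw [← hw'', Scheme.Hom.comp_apply, Scheme.Hom.comp_apply (bcFst j V ≫ _)]
      exact congrArg S'.hom hz.2

include hd in
theorem resOpen_surjective (W : X.Etale) : Function.Surjective (resOpen F f j W) := by
  intro τ
  choose W' k x w hw hx using exists_local_extension F f j hd W τ
  let G := (EtCoh.pull f).obj F
  have hmem : Sieve.generate (Presieve.ofArrows W' k) ∈ X.smallEtaleTopology W :=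
    mem_topology_of_forall_exists _ fun u =>
      ⟨W' u, k u, w u, Sieve.le_generate _ _ _ (Presieve.ofArrows.mk u), hw u⟩
  have hP : (Presieve.ofArrows W' k).IsSheafFor (G.obj ⋙ forget AddCommGrpCat.{u + 1}) := by
    rw [Presieve.isSheafFor_iff_generate]
    exact isSheaf_forget G _ hmem
  rw [Presieve.isSheafFor_arrows_iff] at hP
  obtain ⟨t, ht, -⟩ := hP x fun a b Z ga gb hab => by
    show G.obj.map ga.op (x a) = G.obj.map gb.op (x b)
    refine resOpen_injective F f j hd Z ?_
    rw [resOpen_res, resOpen_res, hx, hx]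
    rw [← ConcreteCategory.comp_apply, ← Functor.map_comp, ← op_comp, ← Functor.map_comp,
      ← ConcreteCategory.comp_apply, ← Functor.map_comp, ← op_comp, ← Functor.map_comp, hab]
  refine ⟨t, sub_eq_zero.1 (eq_zero_of_zloc _ _ fun p => ?_)⟩
  let u := bcFst j W p
  obtain ⟨p', hp', -⟩ := Scheme.exists_preimage_of_isPullback (EtCoh.isPullback_bc_map j (k u)) p (w u)
    (show bcFst j W p = (k u).left (w u) from (hw u).symm)
  rw [← hp', ← zloc_res, map_sub, ← resOpen_res]
  erw [ht u]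
  rw [hx, sub_self]
  exact mem_zloc_zero _ _

include hd in
/-- The unit of a fibrewise dense open is bijective on sections. -/
theorem bijective_pullSect (W : X.Etale) :
    Function.Bijective (pullSect j ((EtCoh.pull f).obj F) W) :=
  (Function.Bijective.of_comp_iff'
    (ConcreteCategory.bijective_of_isIso ((κ j f rfl F).hom.hom.app (op ((EtCoh.bc j).obj W)))) _).1
    ⟨resOpen_injective F f j hd W, resOpen_surjective F f j hd W⟩

end Groth.Agent.EtConsAb.FibreDense
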