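import Groth.Agent.EtaleSite.AdjExtLow
import Groth.Agent.EtaleSite.Flasque
import Groth.Agent.EtaleSite.HpullComp
import Groth.Agent.EtSupp.TateLoc
import Groth.Agent.GalCohAux.EtH1
import Groth.Agent.EtConsAb.GenericPush
import Groth.Agent.EtConsAb.Descend
import Groth.Agent.EtaleSite.Clopen
import Groth.Prelude.Def_EtLim

/-!
# Direct images of `G_m` and of torsion-free constants from points: low degree cohomology
-/

set_option linter.style.haveILetI false

universe u

open CategoryTheory CategoryTheory.Limits AlgebraicGeometry Opposite Topology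

noncomputable section

namespace Groth.Agent.EtConsAb

open Groth.Agent Groth.Agent.EtaleSite Groth.Agent.EtaleSite.ConstSections GalCohAux.EtTrace

/-- Torsion-free constant sheaves have no `H¹` over a field. -/
theorem subsingleton_H_one_torsionFree {K : Type u} [Field K] (M : Type) [AddCommGroup M]
    [IsAddTorsionFree M] :
    Subsingleton (EtCoh.H (Spec (CommRingCat.of K)) (EtCoh.const (Spec (CommRingCat.of K)) M) 1) := by
  refine subsingleton_of_forall_eq 0 fun x => ?_
  obtain ⟨L, i1, i2, i3, i4, h⟩ := GalCohAux.EtTower.exists_Hpull_eq_zero one_pos _ x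
  obtain ⟨N, j1, j2, j3, j4, hN⟩ := GalCohAux.EtTower.exists_galois _ x L h
  refine GalCohAux.EtH1.eq_zero_of_crossed (N := N) _ (fun c hc => ⟨0, fun σ => ?_⟩) x hN
  rw [map_zero, sub_zero]
  haveI : Subsingleton ↥(fld K N).left := inferInstanceAs (Subsingleton (PrimeSpectrum N))
  let ζ := geomPointAt (Spec (CommRingCat.of K)) ⟨⊥, Ideal.isPrime_bot⟩
  obtain ⟨φ, -⟩ := exists_fiber_point ζ (fld K N) ⟨⊥, Ideal.isPrime_bot⟩
    (Subsingleton.elim (α := PrimeSpectrum K) _ _)
  let C := AddCommGrpCat.of (ULift.{u + 1} M)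
  have hcst : ∀ s : EtCoh.sect (cSheaf (Spec (CommRingCat.of K)) C) (fld K N),
      ∃ d : C, s = cst (fld K N) d := fun s => by
    obtain ⟨d, hd⟩ := germ_cst_surjective ζ (fld K N) φ (germ ζ _ (fld K N) φ s)
    exact ⟨d, sect_ext_of_subsingleton ζ φ hd.symm⟩
  choose d hd using fun τ => hcst (c τ)
  let w : (fld K N).left := ⟨⊥, Ideal.isPrime_bot⟩
  have hadd : ∀ σ τ, d (σ.comp τ) = d τ + d σ := fun σ τ => by
    refine cst_injective (W := fld K N) w ?_
    refine ((hd _).symm.trans (hc σ τ)).trans ?_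
    rw [hd τ, hd σ, show cst (fld K N) (d τ + d σ) = cst (fld K N) (d τ) + cst (fld K N) (d σ) from map_add _ _ _]
    exact congrArg (· + _) (map_cst (fldMap σ) (d τ))
  have h1 : d (AlgHom.id K N) = 0 := by
    have := hadd (AlgHom.id K N) (AlgHom.id K N)
    rw [AlgHom.comp_id] at this
    exact left_eq_add.1 this
  obtain ⟨g, rfl⟩ : ∃ g : N ≃ₐ[K] N, g.toAlgHom = σ :=
    ⟨(algEquivEquivAlgHom K N).symm σ, (algEquivEquivAlgHom K N).apply_symm_apply σ⟩
  have hpow : ∀ k : ℕ, d (g ^ k : N ≃ₐ[K] N).toAlgHom = k • d g.toAlgHom := fun k => by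
    induction k with
    | zero => rw [zero_nsmul]; exact h1
    | succ k ih =>
      rw [pow_succ, show ((g ^ k * g : N ≃ₐ[K] N)).toAlgHom = (g ^ k).toAlgHom.comp g.toAlgHom from rfl,
        hadd, ih, succ_nsmul']
  have h0 : orderOf g • (d g.toAlgHom).down = 0 := by
    have := hpow (orderOf g)
    rw [pow_orderOf_eq_one] at this
    exact congrArg ULift.down (this.symm.trans h1)
  rw [hd g.toAlgHom]
  have h2 : d g.toAlgHom = 0 := ULift.ext _ _ ((nsmul_eq_zero_iff_right (orderOf_pos g).ne').1 h0)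
  rw [h2]
  exact map_zero _

section Surj

variable (G : ∀ T : Scheme.{u}, EtCoh.Ab T)
  (hG : ∀ {T' T : Scheme.{u}} (g : T' ⟶ T) [Etale g], Nonempty ((EtCoh.pull g).obj (G T) ≅ G T'))
  (hfield : ∀ (L : Type u) [Field L],
    Subsingleton (EtCoh.H (Spec (CommRingCat.of L)) (G (Spec (CommRingCat.of L))) 1))

variable {K : Type u} [Field K]

include hG hfield in
/-- `H¹` vanishes on one-point étale schemes over a field. -/
theorem subsingleton_H_one_point (U : (Spec (CommRingCat.of K)).Etale) [Subsingleton ↥U.left]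
    [Nonempty ↥U.left] :
    Subsingleton (EtCoh.H U.left ((EtCoh.pull U.hom).obj (G (Spec (CommRingCat.of K)))) 1) := by
  let h : U.left ⟶ Spec (CommRingCat.of K) := U.hom
  haveI : Etale h := U.prop
  obtain ⟨p⟩ := ‹Nonempty ↥U.left›
  obtain ⟨A, hA, hpA, -⟩ := exists_isAffineOpen_mem_and_subset (show p ∈ (⊤ : U.left.Opens) from trivial)
  haveI : IsAffine U.left := by
    have hAt : A = ⊤ := top_unique fun q _ => Subsingleton.elim p q ▸ hpA
    subst hAt
    haveI : IsAffine (⊤ : U.left.Opens) := hA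
    exact IsAffine.of_isIso (Scheme.topIso U.left).inv
  haveI : AlgebraicGeometry.IsReduced U.left := EtStruct.isReduced_of_etale_unibranch h fun y => by
    obtain rfl : y = genericPoint ↥(Spec (CommRingCat.of K)) := Subsingleton.elim (α := PrimeSpectrum K) _ _
    haveI : IsIntegrallyClosed ((Spec (CommRingCat.of K)).presheaf.stalk
        (genericPoint ↥(Spec (CommRingCat.of K)))) :=
      inferInstanceAs (IsIntegrallyClosed (Spec (CommRingCat.of K)).functionField)
    exact Comod.isGeomUnibranch_of_normal _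
  let R := Γ(U.left, ⊤)
  haveI : Subsingleton (PrimeSpectrum R) :=
    (inferInstance : Subsingleton ↥U.left) |> fun _ =>
      U.left.isoSpec.hom.homeomorph.toEquiv.symm.subsingleton
  haveI : Nonempty (PrimeSpectrum R) := ⟨U.left.isoSpec.hom p⟩
  haveI : Nontrivial R := PrimeSpectrum.nonempty_iff_nontrivial.1 inferInstance
  have hR : IsField R := PrimeSpectrum.subsingleton_iff_isField_of_isReduced.1 inferInstance
  letI := hR.toField
  haveI := hfield R
  let φ : U.left ⟶ Spec (CommRingCat.of R) := U.left.isoSpec.hom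
  obtain ⟨e₁⟩ := hG φ
  obtain ⟨e₂⟩ := hG h
  haveI := (HpullComp.Hpull_bijective_of_isIso φ 1 (G (Spec (CommRingCat.of R)))).2.subsingleton
  exact @Equiv.subsingleton _ _ ((EtCoh.HF U.left 1).mapIso (e₂ ≪≫ e₁.symm)).addCommGroupIsoToAddEquiv.toEquiv this

include hG hfield in
/-- Sections over étale schemes of a field lift along quotients by such a sheaf. -/
theorem surjective_sections {S : ShortComplex (EtCoh.Ab (Spec (CommRingCat.of K)))} (hS : S.ShortExact)
    (e : S.X₁ = G (Spec (CommRingCat.of K))) (W : (Spec (CommRingCat.of K)).Etale) :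
    Function.Surjective (S.g.hom.app (op W)) := by
  intro t
  haveI : Etale W.hom := W.prop
  haveI : LocallyQuasiFinite W.hom := EtStruct.locallyQuasiFinite_of_formallyUnramified W.hom
  have hopen : ∀ w : W.left, IsOpen ({w} : Set W.left) := fun w => by
    haveI : Subsingleton ↥(Spec (CommRingCat.of K)) := inferInstanceAs (Subsingleton (PrimeSpectrum K))
    let h : W.left ⟶ Spec (CommRingCat.of K) := W.hom
    have hd := h.isDiscrete_preimage_singleton (h w)
    rw [Set.eq_univ_of_forall (s := h ⁻¹' {h w}) fun v => Subsingleton.elim (α := PrimeSpectrum K) _ _] at hd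
    haveI : DiscreteTopology ↥W.left := isDiscrete_univ_iff.1 hd
    exact isOpen_discrete _
  have hlift : ∀ w : W.left, ∃ s : S.X₂.obj.obj (op (piece W ⟨{w}, hopen w⟩)),
      S.g.hom.app _ s = S.X₃.obj.map (pieceHom W ⟨{w}, hopen w⟩).op t := fun w => by
    let U := piece W ⟨{w}, hopen w⟩
    haveI : Subsingleton ↥U.left := ⟨fun a b => Subtype.ext (a.2.trans b.2.symm)⟩
    haveI : Nonempty ↥U.left := ⟨⟨w, rfl⟩⟩
    obtain ⟨φ, hφ⟩ := (Flasque.freeSec_bijective U S.X₃).2 (S.X₃.obj.map (pieceHom W ⟨{w}, hopen w⟩).op t)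
    haveI : Subsingleton (Abelian.Ext (Flasque.freeOn U) S.X₁ 1) := by
      rw [← Flasque.subsingleton_H_iff, e]
      exact subsingleton_H_one_point G hG hfield U
    obtain ⟨y, hy⟩ := Abelian.Ext.covariant_sequence_exact₃ (Flasque.freeOn U) hS (Abelian.Ext.mk₀ φ)
      (rfl : 0 + 1 = 1) (Subsingleton.elim _ _)
    obtain ⟨ψ, rfl⟩ := (Abelian.Ext.mk₀_bijective _ _).2 y
    rw [Abelian.Ext.mk₀_comp_mk₀] at hy
    exact ⟨Flasque.freeSec U S.X₂ ψ, by rw [← Flasque.freeSec_comp, (Abelian.Ext.mk₀_bijective _ _).1 hy, hφ]⟩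
  choose s hs using hlift
  obtain ⟨x, hx⟩ := exists_glue_disjoint S.X₂ (U := W) (fun w : W.left => (⟨{w}, hopen w⟩ : W.left.Opens))
    (fun a b hab => disjoint_iff_inf_le.2 fun z hz => (hab (hz.1.symm.trans hz.2)).elim)
    (fun z => ⟨z, rfl⟩) s
  refine ⟨x, sect_ext _ _ fun Ω _ _ ξ φ => ?_⟩
  let w := φ.left (default : Spec (CommRingCat.of Ω))
  obtain ⟨φ', hφ'⟩ := exists_fiber_lift (pieceHom W ⟨{w}, hopen w⟩) φ ⟨w, rfl⟩ rfl
  rw [← hφ', ← germ_res, ← germ_res, ← NatTrans.naturality_apply]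
  exact congrArg _ ((congrArg _ (hx w)).trans (hs w))

end Surj

theorem injective_HofPush {X Y : Scheme.{u}} (f : X ⟶ Y) [PreservesFiniteLimits (EtCoh.pull f)]
    (F : EtCoh.Ab X) (p : ℕ)
    (h : Function.Injective (AdjExt.toExt (EtCoh.pullPushAdj f) (EtCoh.const Y ℤ) F p)) :
    Function.Injective (EtLim.HofPush f F p) := by
  let c := EtCore.pullConst f ℤ
  let e : Abelian.Ext.{u + 1} ((EtCoh.pull f).obj (EtCoh.const Y ℤ)) F p ≃
      Abelian.Ext.{u + 1} (EtCoh.const X ℤ) F p :=
    { toFun := fun a => (Abelian.Ext.mk₀ c.inv).comp a (zero_add p)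
      invFun := fun a => (Abelian.Ext.mk₀ c.hom).comp a (zero_add p)
      left_inv := fun a => by simp
      right_inv := fun a => by simp }
  have key : (EtLim.HofPush f F p : EtCoh.H Y ((EtCoh.push f).obj F) p → EtCoh.H X F p) =
      e ∘ AdjExt.toExt (EtCoh.pullPushAdj f) (EtCoh.const Y ℤ) F p := by
    funext a
    exact Abelian.Ext.comp_assoc_of_third_deg_zero _ _ _ (zero_add p)
  rw [key]
  exact e.injective.comp h

/-- From a point, the low degree comparison maps are injective. -/
theorem injective_HofPush_one {X Y : Scheme.{u}} (f : X ⟶ Y) [PreservesFiniteLimits (EtCoh.pull f)]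
    (F : EtCoh.Ab X) : Function.Injective (EtLim.HofPush f F 1) :=
  haveI : PreservesLimitsOfSize.{0, 0} (EtCoh.push f) := (EtCoh.pullPushAdj f).rightAdjoint_preservesLimits
  haveI : PreservesFiniteLimits (EtCoh.push f) := PreservesLimitsOfSize.preservesFiniteLimits _
  injective_HofPush f F 1 (AdjExt.toExt_one_injective _ _ F)

theorem nonempty_pull_Gm_iso {T' T : Scheme.{u}} (g : T' ⟶ T) [Etale g] :
    Nonempty ((EtCoh.pull g).obj (EtCoh.Gm T) ≅ EtCoh.Gm T') :=
  ⟨(pullIsoRestrAlong g).app _ ≪≫ EtSupp.TateLoc.restrGmIso g⟩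

/-- `H²` of `G_m` pushed from a point injects. -/
theorem injective_HofPush_two_Gm {X : Scheme.{u}} {K : Type u} [Field K]
    (f : Spec (CommRingCat.of K) ⟶ X) [PreservesFiniteLimits (EtCoh.pull f)] :
    Function.Injective (EtLim.HofPush f (EtCoh.Gm (Spec (CommRingCat.of K))) 2) := by
  haveI : PreservesLimitsOfSize.{0, 0} (EtCoh.push f) := (EtCoh.pullPushAdj f).rightAdjoint_preservesLimits
  haveI : PreservesFiniteLimits (EtCoh.push f) := PreservesLimitsOfSize.preservesFiniteLimits _
  let F := EtCoh.Gm (Spec (CommRingCat.of K))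
  let S : ShortComplex (EtCoh.Ab (Spec (CommRingCat.of K))) :=
    ShortComplex.mk (Injective.ι F) (cokernel.π _) (cokernel.condition _)
  have hS : S.ShortExact := { exact := ShortComplex.exact_cokernel _ }
  haveI : Injective S.X₂ := inferInstanceAs (Injective (Injective.under F))
  refine injective_HofPush f F 2 (AdjExt.toExt_two_injective (EtCoh.pullPushAdj f) _ F hS rfl ?_)
  haveI : Epi ((sheafToPresheaf X.smallEtaleTopology AddCommGrpCat.{u + 1}).map
      ((EtCoh.push f).map S.g)) := by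
    haveI : ∀ V, Epi (((sheafToPresheaf X.smallEtaleTopology AddCommGrpCat.{u + 1}).map
        ((EtCoh.push f).map S.g)).app V) := fun V =>
      (AddCommGrpCat.epi_iff_surjective _).2 (surjective_sections (fun T => EtCoh.Gm T)
        (fun g => nonempty_pull_Gm_iso g)
        (fun L => GalCohAux.EtH1.subsingleton_H_one_Gm) hS rfl _)
    exact NatTrans.epi_of_epi_app _
  exact (sheafToPresheaf X.smallEtaleTopology AddCommGrpCat.{u + 1}).epi_of_epi_map this

end Groth.Agent.EtConsAb
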