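import Groth.Agent.EtConsAb.GabberLift
import Groth.Agent.EtZarSH.Basic
import Groth.Agent.SpecSheaf.ExtendGerm

/-!
# Lifts exist on schemes with strictly henselian local rings
-/

set_option autoImplicit false
set_option linter.style.haveILetI false
set_option backward.isDefEq.respectTransparency false

universe u

open CategoryTheory CategoryTheory.Limits AlgebraicGeometry Opposite TopologicalSpace

noncomputable section

namespace Groth.Agent.EtConsAb.GabberSection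

open Groth.Agent Groth.Agent.EtaleSite Groth.Agent.EtConsAb.PullVal Groth.Agent.EtConsAb.GabberLift
open Groth.Agent.SpecSheaf

variable {Y : Scheme.{u}}

theorem zar_hom_ext {W : Y.Etale} {U : Y.Opens} (a b : W ⟶ (EtZar.zarToEt Y).obj U) : a = b :=
  MorphismProperty.Over.Hom.ext ((cancel_mono U.ι).1
    ((MorphismProperty.Over.w a).trans (MorphismProperty.Over.w b).symm))

theorem zar_fiber_ext {Ω : Type u} [Field Ω] [IsSepClosed Ω] {ζ : Spec (CommRingCat.of Ω) ⟶ Y}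
    {U : Y.Opens} (x y : (Scheme.pointSmallEtale ζ).fiber.obj ((EtZar.zarToEt Y).obj U)) : x = y :=
  Over.OverMorphism.ext ((cancel_mono U.ι).1 ((Over.w x).trans (Over.w y).symm))

theorem zar_fiber_exists {Ω : Type u} [Field Ω] [IsSepClosed Ω] (ζ : Spec (CommRingCat.of Ω) ⟶ Y)
    (U : Y.Opens) (h : ζ default ∈ U) :
    Nonempty ((Scheme.pointSmallEtale ζ).fiber.obj ((EtZar.zarToEt Y).obj U)) :=
  (exists_fiber_point ζ ((EtZar.zarToEt Y).obj U) ⟨ζ default, h⟩ rfl).nonempty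

theorem apply_mem_of_fiber {Ω : Type u} [Field Ω] [IsSepClosed Ω] {ζ : Spec (CommRingCat.of Ω) ⟶ Y}
    {U : Y.Opens} (x : (Scheme.pointSmallEtale ζ).fiber.obj ((EtZar.zarToEt Y).obj U)) :
    ζ default ∈ U :=
  (congrArg (fun k => k (default : Spec (CommRingCat.of Ω))) (Over.w x)).subst
    (motive := fun p => p ∈ U) (x.left (default : Spec (CommRingCat.of Ω))).2

variable (hY : ∀ y : Y, EtCoh.IsStrictlyHenselianLocalRing (Y.presheaf.stalk y)) (G : EtCoh.Ab Y)

include hY in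
/-- Equal geometric germs give equal Zariski germs. -/
theorem exists_res_eq {U V : Y.Opens} (a : G.obj.obj (op ((EtZar.zarToEt Y).obj U)))
    (b : G.obj.obj (op ((EtZar.zarToEt Y).obj V))) {Ω : Type u} [Field Ω] [IsSepClosed Ω]
    {ζ : Spec (CommRingCat.of Ω) ⟶ Y}
    (φ : (Scheme.pointSmallEtale ζ).fiber.obj ((EtZar.zarToEt Y).obj U))
    (ψ : (Scheme.pointSmallEtale ζ).fiber.obj ((EtZar.zarToEt Y).obj V))
    (h : germ ζ G _ φ a = germ ζ G _ ψ b) :
    ∃ (W : Y.Opens) (_ : ζ default ∈ W) (i : W ⟶ U) (j : W ⟶ V),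
      G.obj.map ((EtZar.zarToEt Y).map i).op a = G.obj.map ((EtZar.zarToEt Y).map j).op b := by
  let iU : U ⊓ V ⟶ U := homOfLE inf_le_left
  let iV : U ⊓ V ⟶ V := homOfLE inf_le_right
  obtain ⟨χ⟩ := zar_fiber_exists ζ (U ⊓ V) ⟨apply_mem_of_fiber φ, apply_mem_of_fiber ψ⟩
  have h' : germ ζ G _ χ (G.obj.map ((EtZar.zarToEt Y).map iU).op a) =
      germ ζ G _ χ (G.obj.map ((EtZar.zarToEt Y).map iV).op b) := by
    rw [germ_res, germ_res, zar_fiber_ext ((Scheme.pointSmallEtale ζ).fiber.map _ χ) φ,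
      zar_fiber_ext ((Scheme.pointSmallEtale ζ).fiber.map _ χ) ψ, h]
  obtain ⟨T, g, y, -, e⟩ := (germ_eq_iff ζ G _ χ _ _).1 h'
  haveI : Etale T.hom := T.prop
  obtain ⟨D, σ, hD, hσ, -⟩ := Groth.Agent.EtSection.exists_section_of_sh T.hom
    (y.left (default : Spec (CommRingCat.of Ω))) (hY _)
  have hy : T.hom (y.left (default : Spec (CommRingCat.of Ω))) = ζ default :=
    congrArg (fun k => k (default : Spec (CommRingCat.of Ω))) (Over.w y)
  let k : (EtZar.zarToEt Y).obj D ⟶ T := MorphismProperty.Over.homMk σ hσ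
  let W := D ⊓ (U ⊓ V)
  let iD : W ⟶ D := homOfLE inf_le_left
  let iW : W ⟶ U ⊓ V := homOfLE inf_le_right
  refine ⟨W, ⟨hy ▸ hD, apply_mem_of_fiber χ⟩, iW ≫ iU, iW ≫ iV, ?_⟩
  have hk : ((EtZar.zarToEt Y).map iD ≫ k) ≫ g = (EtZar.zarToEt Y).map iW := zar_hom_ext _ _
  have e' := congrArg (G.obj.map ((EtZar.zarToEt Y).map iD ≫ k).op) e
  simp only [← ConcreteCategory.comp_apply, ← Functor.map_comp, ← op_comp, ← Category.assoc, hk] at e'
  simpa only [Functor.map_comp, op_comp, ← ConcreteCategory.comp_apply] using e'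

variable {Z X : Scheme.{u}} (i : Z ⟶ X) [IsClosedImmersion i] (F : EtCoh.Ab X)
  (t : (H i F).obj.obj (op (EtCoh.top X))) (h : Y ⟶ X)

/-- A Zariski local lift of `t`. -/
def IsLocalLift (U : Y.Opens) (a : ((EtCoh.pull h).obj F).obj.obj (op ((EtZar.zarToEt Y).obj U))) :
    Prop :=
  ∀ (Ω : Type u) [Field Ω] [IsSepClosed Ω] (ζ : Spec (CommRingCat.of Ω) ⟶ Y)
    (φ : (Scheme.pointSmallEtale ζ).fiber.obj ((EtZar.zarToEt Y).obj U)),
      h (ζ default) ∈ Set.range i →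
        (EtCoh.stalk (ζ ≫ h)).map (η i F) (pullSt h F ζ rfl (germ ζ _ _ φ a)) =
          germ (ζ ≫ h) (H i F) (EtCoh.top X) (topPt (ζ ≫ h)) t

include hY in
theorem exists_localLift (z : Y) (hz : h z ∈ Set.range i) :
    ∃ (U : Y.Opens) (_ : z ∈ U) (a : _), IsLocalLift i F t h U a := by
  let ζ := geomPointAt Y z
  have hζ : ζ default = z := geomPointAt_apply Y z _
  have hξ : (ζ ≫ h) default ∈ Set.range i := by rw [Scheme.Hom.comp_apply, hζ]; exact hz
  haveI := isIso_stalk_unit_push i F (ζ ≫ h) hξ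
  obtain ⟨v, hv⟩ := (ConcreteCategory.bijective_of_isIso ((EtCoh.stalk (ζ ≫ h)).map (η i F))).2
    (germ (ζ ≫ h) (H i F) (EtCoh.top X) (topPt (ζ ≫ h)) t)
  obtain ⟨p, rfl⟩ := (ConcreteCategory.bijective_of_isIso (pullSt h F ζ rfl)).2 v
  obtain ⟨T, φ, a, rfl⟩ := exists_germ_eq ζ _ p
  haveI : Etale T.hom := T.prop
  obtain ⟨D, σ, hD, hσ, d, hd⟩ := Groth.Agent.EtSection.exists_section_of_sh T.hom
    (φ.left (default : Spec (CommRingCat.of _))) (hY _)
  let k : (EtZar.zarToEt Y).obj D ⟶ T := MorphismProperty.Over.homMk σ hσ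
  obtain ⟨ψ, hψ⟩ := exists_fiber_lift k φ d hd
  let b := ((EtCoh.pull h).obj F).obj.map k.op a
  let τ : (EtZar.zarToEt Y).obj D ⟶ EtCoh.top Y := MorphismProperty.Over.homMk D.ι (Category.comp_id _)
  let c := ((EtCoh.pull h).map (η i F)).hom.app (op ((EtZar.zarToEt Y).obj D)) b
  let c' := ((EtCoh.pull h).obj (H i F)).obj.map τ.op (sectPull h (H i F) t)
  have hgerm : ∀ (Ω : Type u) [Field Ω] [IsSepClosed Ω] (ζ' : Spec (CommRingCat.of Ω) ⟶ Y)
      (φ' : (Scheme.pointSmallEtale ζ').fiber.obj ((EtZar.zarToEt Y).obj D)),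
      pullSt h (H i F) ζ' rfl (germ ζ' _ _ φ' c) =
          (EtCoh.stalk (ζ' ≫ h)).map (η i F) (pullSt h F ζ' rfl (germ ζ' _ _ φ' b)) ∧
        pullSt h (H i F) ζ' rfl (germ ζ' _ _ φ' c') =
          germ (ζ' ≫ h) (H i F) (EtCoh.top X) (topPt (ζ' ≫ h)) t := fun Ω _ _ ζ' φ' => by
    refine ⟨?_, ?_⟩
    · rw [← pullSt_map, germ_naturality]
    · rw [germ_res, eq_topPt ζ' ((Scheme.pointSmallEtale ζ').fiber.map τ φ'), ← val_eq, val_sectPull]
  have hmem : ψ.left (default : Spec (CommRingCat.of _)) ∈ eqLocus c c' := by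
    refine mem_eqLocus (pullSt_injective h (H i F) ζ rfl ?_)
    rw [(hgerm _ ζ ψ).1, (hgerm _ ζ ψ).2, germ_res, hψ]
    exact hv
  let O : (D : Scheme.{u}).Opens := ⟨eqLocus c c', isOpen_eqLocus c c'⟩
  let U : Y.Opens := D.ι ''ᵁ O
  have hUD : U ≤ D := by rintro _ ⟨q, -, rfl⟩; exact q.2
  refine ⟨U, ⟨_, hmem, ?_⟩,
    ((EtCoh.pull h).obj F).obj.map ((EtZar.zarToEt Y).map (homOfLE hUD)).op b, fun Ω _ _ ζ' φ' hmemZ => ?_⟩
  · exact (congrArg (fun q => q (default : Spec (CommRingCat.of _))) (Over.w ψ)).trans hζ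
  · rw [germ_res]
    let χ := (Scheme.pointSmallEtale ζ').fiber.map ((EtZar.zarToEt Y).map (homOfLE hUD)) φ'
    have hχ : χ.left (default : Spec (CommRingCat.of Ω)) ∈ eqLocus c c' := by
      obtain ⟨q, hq, e⟩ := apply_mem_of_fiber φ'
      have : χ.left (default : Spec (CommRingCat.of Ω)) = q := Subtype.ext
        ((congrArg (fun k => k (default : Spec (CommRingCat.of Ω))) (Over.w χ)).trans e.symm)
      exact this ▸ hq
    rw [← (hgerm _ ζ' χ).1, germ_eq_of_mem_eqLocus hχ]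
    exact (hgerm _ ζ' χ).2

include hY in
/-- Lifts exist if `Z` meets point closures in connected sets. -/
theorem exists_lifts [CompactSpace Y] [QuasiSeparatedSpace Y]
    (hconn : ∀ y : Y, _root_.IsConnected (h ⁻¹' Set.range i ∩ closure {y})) :
    ∃ s, Lifts i F t h s := by
  haveI := EtZarSH.isDenseSubsite hY
  haveI : SpectralSpace Y.carrier := { }
  let G := (EtCoh.pull h).obj F
  let FZ : TopCat.Sheaf (Type (u + 1)) Y.carrier :=
    (sheafCompose _ (forget AddCommGrpCat.{u + 1})).obj ((EtZar.resZar Y).obj G)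
  choose U hU a ha using fun z : ↥(h ⁻¹' Set.range i) => exists_localLift hY i F t h z.1 z.2
  obtain ⟨s, hs⟩ := ExtendGerm.exists_section FZ (i.isClosedEmbedding.isClosed_range.preimage h.continuous)
    hconn (fun z => ExtendGerm.gm FZ (U := U z) (a z) z.1 (hU z)) fun z =>
      ⟨U z, hU z, a z, fun z' hz' => by
        let ζ := geomPointAt Y z'.1
        have hζ : ζ default = z'.1 := geomPointAt_apply Y z'.1 _
        obtain ⟨φ⟩ := zar_fiber_exists ζ (U z) (by rw [hζ]; exact hz')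
        obtain ⟨ψ⟩ := zar_fiber_exists ζ (U z') (by rw [hζ]; exact hU z')
        have hmemZ : h (ζ default) ∈ Set.range i := by rw [hζ]; exact z'.2
        haveI := isIso_stalk_unit_push i F (ζ ≫ h) hmemZ
        have e : germ ζ G _ φ (a z) = germ ζ G _ ψ (a z') := pullSt_injective h F ζ rfl
          ((ConcreteCategory.bijective_of_isIso ((EtCoh.stalk (ζ ≫ h)).map (η i F))).1
            ((ha z _ ζ φ hmemZ).trans (ha z' _ ζ ψ hmemZ).symm))
        obtain ⟨W, hW, iW, jW, e'⟩ := exists_res_eq hY G _ _ φ ψ e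
        exact Quotient.sound ⟨W, hζ ▸ hW, iW, jW, e'⟩⟩
  let τ : EtCoh.top Y ⟶ (EtZar.zarToEt Y).obj ⊤ :=
    MorphismProperty.Over.homMk (Scheme.topIso Y).inv (Scheme.topIso Y).inv_hom_id
  refine ⟨G.obj.map τ.op s, fun Ω _ _ ζ hmemZ => ?_⟩
  let z : ↥(h ⁻¹' Set.range i) := ⟨ζ default, hmemZ⟩
  obtain ⟨W, hW, iW, jW, e⟩ := ExtendGerm.gm_eq FZ _ _ _ _ _ (hs z)
  obtain ⟨χ⟩ := zar_fiber_exists ζ W hW
  have e' := congrArg (germ ζ G _ χ) (show G.obj.map ((EtZar.zarToEt Y).map iW).op s =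
    G.obj.map ((EtZar.zarToEt Y).map jW).op (a z) from e)
  rw [germ_res, germ_res] at e'
  rw [val_eq, germ_res, zar_fiber_ext ((Scheme.pointSmallEtale ζ).fiber.map τ (topPt ζ))
    ((Scheme.pointSmallEtale ζ).fiber.map ((EtZar.zarToEt Y).map iW) χ), e']
  exact ha z Ω ζ _ hmemZ

end Groth.Agent.EtConsAb.GabberSection
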