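import Groth.Agent.EtConsAb.ExtZero
import Groth.Agent.EtConsAb.ConstMod
import Groth.Agent.EtConsAb.Supp
import Groth.Agent.EtConsAb.ConsSerre
import Groth.Agent.EtaleSite.OpenImm
import Groth.Agent.EtConsAb.Generic
import Groth.Agent.S0133
import Mathlib.Data.ZMod.Basic

/-!
# Generators of torsion abelian étale sheaves

Maps out of `j_! (ℤ/n)` are sections killed by `n`; constructible sheaves on quasi-compact
quasi-separated schemes are finitely generated by them.
-/

set_option linter.style.haveILetI false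

universe w u

open CategoryTheory CategoryTheory.Limits AlgebraicGeometry Opposite Topology

noncomputable section

namespace Groth.Agent.EtConsAb

open Groth.Agent Groth.Agent.EtaleSite

variable {X : Scheme.{u}}

/-- Sections of the constant over-sheaf and of `j_!` over `U`. -/
def genAdj (U : X.Etale) :=
  (constantSheafAdj (X.smallEtaleTopology.over U) AddCommGrpCat.{u + 1} Over.mkIdTerminal).comp
    (EtPBC.extZeroAdj U)

/-- The tautological section of `j_! (ℤ/n)` over `U`. -/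
def gen (U : X.Etale) (n : ℕ) : (EtPBC.extZeroConst U (ZMod n)).obj.obj (op U) :=
  (genAdj U).unit.app (AddCommGrpCat.of (ULift.{u + 1} (ZMod n))) ⟨1⟩

/-- Maps out of `j_! (ℤ/n)` as maps of groups. -/
def genEquiv (U : X.Etale) (n : ℕ) (G : EtCoh.Ab X) :
    (EtPBC.extZeroConst U (ZMod n) ⟶ G) ≃ (AddCommGrpCat.of (ULift.{u + 1} (ZMod n)) ⟶ G.obj.obj (op U)) :=
  (genAdj U).homEquiv (AddCommGrpCat.of (ULift.{u + 1} (ZMod n))) G

theorem genEquiv_one (U : X.Etale) (n : ℕ) {G : EtCoh.Ab X} (h : EtPBC.extZeroConst U (ZMod n) ⟶ G) :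
    genEquiv U n G h ⟨1⟩ = h.hom.app (op U) (gen U n) :=
  congrArg (fun k => k ⟨1⟩)
    ((genAdj U).homEquiv_unit (AddCommGrpCat.of (ULift.{u + 1} (ZMod n))) G h)

theorem nsmul_gen (U : X.Etale) (n : ℕ) : n • gen U n = 0 := by
  have h : n • (ULift.up 1 : ULift.{u + 1} (ZMod n)) = 0 := by ext; simp
  exact (map_nsmul _ n _).symm.trans ((congrArg _ h).trans (map_zero _))

/-- Maps out of `j_! (ℤ/n)` are determined by the tautological section. -/
theorem gen_hom_ext {U : X.Etale} {n : ℕ} {G : EtCoh.Ab X} {h h' : EtPBC.extZeroConst U (ZMod n) ⟶ G}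
    (e : h.hom.app (op U) (gen U n) = h'.hom.app (op U) (gen U n)) : h = h' := by
  refine (genEquiv U n G).injective (AddCommGrpCat.hom_ext (DFunLike.ext _ _ fun x => ?_))
  obtain ⟨k, hk⟩ := ZMod.intCast_surjective x.down
  have hx : x = k • (ULift.up 1 : ULift.{u + 1} (ZMod n)) := by ext; simp [hk]
  rw [hx, map_zsmul, map_zsmul, genEquiv_one, genEquiv_one, e]

/-- The map out of `j_! (ℤ/n)` given by a section killed by `n`. -/
def secHom {U : X.Etale} {n : ℕ} {G : EtCoh.Ab X} (s : G.obj.obj (op U)) (hs : n • s = 0) :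
    EtPBC.extZeroConst U (ZMod n) ⟶ G :=
  (genEquiv U n G).symm (AddCommGrpCat.ofHom
    ((ZMod.lift n ⟨zmultiplesHom _ s, by simpa using hs⟩).comp
      (AddMonoidHom.mk' (fun x : ULift.{u + 1} (ZMod n) => x.down) fun _ _ => rfl)))

@[simp]
theorem secHom_gen {U : X.Etale} {n : ℕ} {G : EtCoh.Ab X} (s : G.obj.obj (op U)) (hs : n • s = 0) :
    (secHom s hs).hom.app (op U) (gen U n) = s := by
  rw [← genEquiv_one, secHom, Equiv.apply_symm_apply]
  refine (congrArg (ZMod.lift n (⟨zmultiplesHom _ s, by simpa using hs⟩ :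
      { f : ℤ →+ ↑(G.obj.obj (op U)) // f n = 0 })) (Int.cast_one (R := ZMod n)).symm).trans ?_
  rw [ZMod.lift_coe]
  simp

theorem secHom_comp {U : X.Etale} {n : ℕ} {G G' : EtCoh.Ab X} (s : G.obj.obj (op U)) (hs : n • s = 0)
    (a : G ⟶ G') : secHom s hs ≫ a =
      secHom (a.hom.app (op U) s) (by rw [← map_nsmul, hs, map_zero]) :=
  gen_hom_ext (by rw [secHom_gen]; exact congrArg (a.hom.app (op U)) (secHom_gen s hs))

/-- A germ of the section is in the image on stalks. -/
theorem germ_secHom {U : X.Etale} {n : ℕ} {G : EtCoh.Ab X} (s : G.obj.obj (op U)) (hs : n • s = 0)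
    {Ω : Type u} [Field Ω] [IsSepClosed Ω] (ξ : Spec (CommRingCat.of Ω) ⟶ X)
    (φ : (Scheme.pointSmallEtale ξ).fiber.obj U) :
    (EtCoh.stalk ξ).map (secHom s hs) (germ ξ _ U φ (gen U n)) = germ ξ G U φ s := by
  rw [germ_naturality, secHom_gen]

/-- `n` kills `j_! (ℤ/n)`. -/
theorem nsmul_id_extZeroConst (U : X.Etale) (n : ℕ) :
    n • 𝟙 (EtPBC.extZeroConst U (ZMod n)) = 0 := by
  refine gen_hom_ext ?_
  let Γ := sheafToPresheaf X.smallEtaleTopology AddCommGrpCat.{u + 1} ⋙ (evaluation _ _).obj (op U)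
  show Γ.map (n • 𝟙 (EtPBC.extZeroConst U (ZMod n))) (gen U n) = _
  rw [Functor.map_nsmul, CategoryTheory.Functor.map_id]
  show n • gen U n = _
  rw [nsmul_gen]
  rfl

theorem killedBy_of_nsmul {F : EtCoh.Ab X} {n : ℕ} (h : n • 𝟙 F = 0) : EtCoh.KilledBy n F := by
  intro U s
  let Γ := sheafToPresheaf X.smallEtaleTopology AddCommGrpCat.{u + 1} ⋙ (evaluation _ _).obj (op U)
  have e : Γ.map (n • 𝟙 F) = n • 𝟙 (Γ.obj F) := by rw [Functor.map_nsmul, CategoryTheory.Functor.map_id]
  have e' := congrArg (fun k => k s) e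
  rw [h] at e'
  exact e'.symm

/-- A sheaf with torsion stalks is torsion. -/
theorem isTorsion_of_stalk {F : EtCoh.Ab X}
    (h : ∀ (Ω : Type u) [Field Ω] [IsSepClosed Ω] (ξ : Spec (CommRingCat.of Ω) ⟶ X)
      (q : ↑((EtCoh.stalk ξ).obj F)), IsOfFinAddOrder q) : EtCoh.IsTorsion F := by
  intro U s x
  let ξ := geomPointAt X (U.hom x)
  obtain ⟨φ, hφ⟩ := exists_fiber_point ξ U x (geomPointAt_apply X _ _).symm
  obtain ⟨n, hn, hs⟩ := isOfFinAddOrder_iff_nsmul_eq_zero.1 (h _ ξ (germ ξ F U φ s))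
  obtain ⟨V, g, v, hv, hV⟩ := (germ_eq_iff ξ F U φ (n • s) 0).1 (by rw [map_nsmul, hs, map_zero])
  rw [map_nsmul, map_zero] at hV
  exact ⟨V, g, ⟨v.left (default : Spec (CommRingCat.of _)),
    (congrArg (fun k => k (default : Spec (CommRingCat.of _))) (congrArg (fun k => k.left) hv)).trans hφ⟩,
    isOfFinAddOrder_iff_nsmul_eq_zero.2 ⟨n, hn, hV⟩⟩

theorem isTorsion_of_finite_stalk {F : EtCoh.Ab X}
    (h : ∀ (Ω : Type u) [Field Ω] [IsSepClosed Ω] (ξ : Spec (CommRingCat.of Ω) ⟶ X),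
      Finite ↑((EtCoh.stalk ξ).obj F)) : EtCoh.IsTorsion F :=
  isTorsion_of_stalk fun Ω _ _ ξ q => by haveI := h Ω ξ; exact isOfFinAddOrder_of_finite q

theorem isTorsion_of_mono {F G : EtCoh.Ab X} (i : G ⟶ F) [Mono i] (hF : EtCoh.IsTorsion F) :
    EtCoh.IsTorsion G := fun U s x => by
  obtain ⟨V, g, hv, ht⟩ := hF U (i.hom.app (op U) s) x
  refine ⟨V, g, hv, ?_⟩
  obtain ⟨n, hn, h⟩ := isOfFinAddOrder_iff_nsmul_eq_zero.1 ht
  refine isOfFinAddOrder_iff_nsmul_eq_zero.2 ⟨n, hn, injective_app_of_mono i (op V) ?_⟩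
  show i.hom.app (op V) (n • G.obj.map g.op s) = i.hom.app (op V) 0
  rw [map_nsmul, NatTrans.naturality_apply, h, map_zero]

theorem isTorsion_of_isConstructible {F : EtCoh.Ab X} (hF : EtPBC.IsConstructible F) :
    EtCoh.IsTorsion F :=
  isTorsion_of_finite_stalk fun Ω _ _ ξ => finite_stalk_of_isConstructible hF ξ

/-- A generator: a section killed by a positive integer over an affine étale `X`-scheme. -/
structure Gen (F : EtCoh.Ab X) : Type (u + 1) where
  /-- the domain -/
  U : X.Etale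
  /-- the annihilator -/
  n : ℕ
  pos : 0 < n
  affine : IsAffine U.left
  /-- the section -/
  s : F.obj.obj (op U)
  killed : n • s = 0

/-- The source of the map given by a generator. -/
abbrev Gen.src {F : EtCoh.Ab X} (g : Gen F) : EtCoh.Ab X := EtPBC.extZeroConst g.U (ZMod g.n)

/-- The map given by a generator. -/
def Gen.hom {F : EtCoh.Ab X} (g : Gen F) : g.src ⟶ F := secHom g.s g.killed

/-- The sum of finitely many generators. -/
abbrev genSum {F : EtCoh.Ab X} (S : Finset (Gen F)) : EtCoh.Ab X := ⨁ fun g : S => g.1.src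

/-- The tautological map from a sum of generators. -/
def genπ {F : EtCoh.Ab X} (S : Finset (Gen F)) : genSum S ⟶ F := biproduct.desc fun g => g.1.hom

@[reassoc (attr := simp)]
theorem ι_genπ {F : EtCoh.Ab X} (S : Finset (Gen F)) (g : S) :
    biproduct.ι (fun g : S => g.1.src) g ≫ genπ S = g.1.hom :=
  biproduct.ι_desc _ _

theorem exists_gen_germ {F : EtCoh.Ab X} (hF : EtCoh.IsTorsion F) {Ω : Type u} [Field Ω] [IsSepClosed Ω]
    (ξ : Spec (CommRingCat.of Ω) ⟶ X) (q : ↑((EtCoh.stalk ξ).obj F)) :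
    ∃ (g : Gen F) (φ : (Scheme.pointSmallEtale ξ).fiber.obj g.U), germ ξ F g.U φ g.s = q := by
  obtain ⟨U, φ, s, rfl⟩ := exists_germ_eq ξ F q
  obtain ⟨V, g, ⟨v, hv⟩, hfin⟩ := hF U s (φ.left (default : Spec (CommRingCat.of Ω)))
  obtain ⟨ψ, hψ⟩ := exists_fiber_lift g φ v hv
  obtain ⟨n, hn, hs⟩ := isOfFinAddOrder_iff_nsmul_eq_zero.1 hfin
  obtain ⟨W, hW, hvW, -⟩ := exists_isAffineOpen_mem_and_subset
    (show ψ.left (default : Spec (CommRingCat.of Ω)) ∈ (⊤ : V.left.Opens) from trivial)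
  haveI : Etale V.hom := V.prop
  obtain ⟨ψ', hψ'⟩ := exists_fiber_lift (pieceHom V W) ψ ⟨_, hvW⟩ rfl
  refine ⟨⟨piece V W, n, hn, hW, F.obj.map (pieceHom V W).op (F.obj.map g.op s),
    by rw [← map_nsmul, hs, map_zero]⟩, ψ', ?_⟩
  show germ ξ F (piece V W) ψ' (F.obj.map (pieceHom V W).op (F.obj.map g.op s)) = _
  rw [germ_res, hψ', germ_res, hψ]

theorem exists_gen_germ_killedBy {F : EtCoh.Ab X} {n : ℕ} (hn : 0 < n) (hF : EtCoh.KilledBy n F)
    {Ω : Type u} [Field Ω] [IsSepClosed Ω]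
    (ξ : Spec (CommRingCat.of Ω) ⟶ X) (q : ↑((EtCoh.stalk ξ).obj F)) :
    ∃ (g : Gen F) (φ : (Scheme.pointSmallEtale ξ).fiber.obj g.U), g.n = n ∧ germ ξ F g.U φ g.s = q := by
  have ht : EtCoh.IsTorsion F := fun U s x =>
    ⟨U, 𝟙 U, ⟨x, rfl⟩, isOfFinAddOrder_iff_nsmul_eq_zero.2 ⟨n, hn, hF U _⟩⟩
  obtain ⟨g, φ, hg⟩ := exists_gen_germ ht ξ q
  exact ⟨⟨g.U, n, hn, g.affine, g.s, hF g.U g.s⟩, φ, rfl, hg⟩

/-- The germ of the section of a summand lies in the image of the sum. -/
theorem germ_mem_range_genπ {F : EtCoh.Ab X} (S : Finset (Gen F)) (g : S) {Ω : Type u} [Field Ω]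
    [IsSepClosed Ω] (ξ : Spec (CommRingCat.of Ω) ⟶ X) (φ : (Scheme.pointSmallEtale ξ).fiber.obj g.1.U) :
    ∃ y, (EtCoh.stalk ξ).map (genπ S) y = germ ξ F g.1.U φ g.1.s := by
  refine ⟨(EtCoh.stalk ξ).map (biproduct.ι (fun g : S => g.1.src) g) (germ ξ g.1.src g.1.U φ (gen g.1.U g.1.n)), ?_⟩
  rw [← ConcreteCategory.comp_apply, ← Functor.map_comp, ι_genπ]
  exact germ_secHom g.1.s g.1.killed ξ φ

/-- Finite sums of constructible sheaves are constructible. -/
theorem isConstructible_biproduct {ι : Type w} [Finite ι] (f : ι → EtCoh.Ab X)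
    (h : ∀ i, EtPBC.IsConstructible (f i)) : EtPBC.IsConstructible (⨁ f) := by
  suffices key : ∀ (k : ℕ) (f : Fin k → EtCoh.Ab X), (∀ i, EtPBC.IsConstructible (f i)) →
      EtPBC.IsConstructible (⨁ f) by
    obtain ⟨k, ⟨e⟩⟩ := Finite.exists_equiv_fin ι
    exact isConstructible_of_iso
      (biproduct.whiskerEquiv (f := fun i => f (e.symm i)) (g := f) e.symm fun i => Iso.refl _)
      (key k _ fun i => h _)
  intro k
  induction k with
  | zero =>
    intro f _ U hU
    refine ⟨1, fun _ => U, fun _ => U.ι, fun _ => inferInstance, fun _ => ?_, ?_, ?_, fun _ => ?_⟩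
    · convert IsConstructible.univ using 1
      rw [Scheme.Opens.range_ι]
      exact Set.eq_univ_of_forall fun x => x.2
    · exact fun i j hij => absurd (Subsingleton.elim i j) hij
    · rw [Set.iUnion_const, Scheme.Opens.range_ι]
    · refine isFLC_of_iso ((EtCoh.pull U.ι).mapBiproduct f).symm (isFLC_biproduct _ fun i => i.elim0)
  | succ k ih =>
    intro f hf
    refine isConstructible_of_iso ?_ (isConstructible_biprod (hf 0) (ih (fun i => f i.succ) fun i => hf _))
    refine ⟨biprod.desc (biproduct.ι f 0) (biproduct.desc fun i => biproduct.ι f i.succ),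
      biprod.lift (biproduct.π f 0) (biproduct.lift fun i => biproduct.π f i.succ), ?_, ?_⟩
    · refine biprod.hom_ext' _ _ ?_ (biproduct.hom_ext' _ _ fun i => ?_) <;>
        refine biprod.hom_ext _ _ ?_ (biproduct.hom_ext _ _ fun j => ?_) <;>
          simp [biproduct.ι_π, Fin.succ_ne_zero, (Fin.succ_ne_zero _).symm]
    · have h0 : biproduct.ι f 0 ≫ biproduct.lift (fun i : Fin k => biproduct.π f i.succ) = 0 := by
        ext i; simp [biproduct.ι_π_ne f (Fin.succ_ne_zero i).symm]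
      have h1 : ∀ j : Fin k, biproduct.ι f j.succ ≫ biproduct.lift (fun i : Fin k => biproduct.π f i.succ) =
          biproduct.ι (fun i : Fin k => f i.succ) j := fun j => by
        ext i; simp [biproduct.ι_π, Fin.succ_inj]
      refine biproduct.hom_ext' _ _ fun i => ?_
      rw [biprod.lift_desc, Preadditive.comp_add, ← Category.assoc, ← Category.assoc, Category.comp_id]
      cases i using Fin.cases with
      | zero => rw [biproduct.ι_π_self, Category.id_comp, h0, zero_comp, add_zero]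
      | succ j => rw [biproduct.ι_π_ne f (Fin.succ_ne_zero j), zero_comp, zero_add, h1, biproduct.ι_desc]

theorem isConstructible_genSum [CompactSpace X] [QuasiSeparatedSpace X] {F : EtCoh.Ab X}
    (S : Finset (Gen F)) : EtPBC.IsConstructible (genSum S) := by
  refine isConstructible_biproduct _ fun g => ?_
  haveI := g.1.affine
  haveI : NeZero g.1.n := ⟨g.1.pos.ne'⟩
  exact Groth.Agent.S0133.result X g.1.U (ZMod g.1.n)

/-- A constructible sheaf on a quasi-compact quasi-separated scheme is generated by finitely many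
sections killed by positive integers over affine objects, chosen in any class of generators
representing all germs. -/
theorem exists_genπ_epi [CompactSpace X] [QuasiSeparatedSpace X] {F : EtCoh.Ab X}
    (hF : EtPBC.IsConstructible F) (P : Gen F → Prop)
    (hP : ∀ (Ω : Type u) [Field Ω] [IsSepClosed Ω] (ξ : Spec (CommRingCat.of Ω) ⟶ X)
      (q : ↑((EtCoh.stalk ξ).obj F)), ∃ (g : Gen F) (φ : (Scheme.pointSmallEtale ξ).fiber.obj g.U),
        P g ∧ germ ξ F g.U φ g.s = q) :
    ∃ S : Finset (Gen F), (∀ g ∈ S, P g) ∧ Epi (genπ S) := by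
  classical
  have hx : ∀ x : X, ∃ S : Finset (Gen F), (∀ g ∈ S, P g) ∧
      Function.Surjective ((EtCoh.stalk (geomPointAt X x)).map (genπ S)) := fun x => by
    haveI := finite_stalk_of_isConstructible hF (geomPointAt X x)
    cases nonempty_fintype ↑((EtCoh.stalk (geomPointAt X x)).obj F)
    choose g φ hg hgq using hP _ (geomPointAt X x)
    refine ⟨Finset.univ.image g, fun g' hg' => ?_, fun q => ?_⟩
    · obtain ⟨q, -, rfl⟩ := Finset.mem_image.1 hg'
      exact hg q
    · obtain ⟨y, hy⟩ := germ_mem_range_genπ (Finset.univ.image g)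
        ⟨g q, Finset.mem_image_of_mem _ (Finset.mem_univ q)⟩ (geomPointAt X x) (φ q)
      exact ⟨y, hy.trans (hgq q)⟩
  choose S hSP hS using hx
  let E : X → Set X := fun x => EtPBC.supp (cokernel (genπ (S x)))
  have hE : ∀ x, IsConstructible (E x)ᶜ := fun x => isConstructible_compl.2
    (isConstructible_supp_of_strataCover (strataCover_of_isConstructible
      (isConstructible_cokernel _ (isConstructible_genSum _) hF)))
  have hsurj : ∀ (T : Finset (Gen F)) {Ω : Type u} [Field Ω] [IsSepClosed Ω]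
      (ξ : Spec (CommRingCat.of Ω) ⟶ X),
      Function.Surjective ((EtCoh.stalk ξ).map (genπ T)) ↔ ξ default ∉ EtPBC.supp (cokernel (genπ T)) := by
    intro T Ω _ _ ξ
    rw [mem_supp_iff, not_not, ← AddCommGrpCat.epi_iff_surjective]
    exact ⟨fun _ => IsZero.of_iso (isZero_cokernel_of_epi _) (PreservesCokernel.iso (EtCoh.stalk ξ) (genπ T)),
      fun h => Preadditive.epi_of_isZero_cokernel _ (IsZero.of_iso h (PreservesCokernel.iso (EtCoh.stalk ξ) (genπ T)).symm)⟩
  obtain ⟨t, ht⟩ := exists_finite_subcover_of_isConstructible (fun x => (E x)ᶜ) hE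
    (Set.eq_univ_of_forall fun x => Set.mem_iUnion.2 ⟨x, by
      simpa [E, geomPointAt_apply] using (hsurj (S x) (geomPointAt X x)).1 (hS x)⟩)
  refine ⟨t.biUnion S, fun g hg => ?_, (epi_iff_stalk _).2 fun Ω _ _ ξ q => ?_⟩
  · obtain ⟨x, -, hx⟩ := Finset.mem_biUnion.1 hg
    exact hSP x g hx
  · obtain ⟨x, hxt, hξx⟩ := Set.mem_iUnion₂.1 (ht.ge (Set.mem_univ (ξ default)))
    obtain ⟨y, rfl⟩ := (hsurj (S x) ξ).2 hξx q
    refine ⟨(EtCoh.stalk ξ).map (biproduct.desc fun g : S x =>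
      biproduct.ι (fun g : (t.biUnion S) => g.1.src) ⟨g.1, Finset.mem_biUnion.2 ⟨x, hxt, g.2⟩⟩) y, ?_⟩
    rw [← ConcreteCategory.comp_apply, ← Functor.map_comp]
    congr 2
    refine congrArg _ (biproduct.hom_ext' _ _ fun g => ?_)
    simp

end Groth.Agent.EtConsAb
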