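import Groth.Agent.EtConsAb.SpecialCrit
import Groth.Agent.EtConsAb.Serre
import Mathlib.AlgebraicGeometry.Morphisms.UniversallyClosed
import Mathlib.AlgebraicGeometry.Morphisms.UnderlyingMap

/-!
# Finite local constancy descends along universally closed surjective morphisms
-/

set_option linter.style.haveILetI false

universe u

open CategoryTheory CategoryTheory.Limits AlgebraicGeometry Opposite Topology

noncomputable section

namespace Groth.Agent.EtConsAb

open Groth.Agent Groth.Agent.EtaleSite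

variable {T T' : Scheme.{u}}

theorem finite_stalk_of_pull_flc (f : T' ⟶ T) [Surjective f] {F : EtCoh.Ab T}
    (h : EtCoh.IsFiniteLocallyConstant ((EtCoh.pull f).obj F)) {Ω : Type u} [Field Ω] [IsSepClosed Ω]
    (ξ : Spec (CommRingCat.of Ω) ⟶ T) : Finite ((EtCoh.stalk ξ).obj F) := by
  obtain ⟨x, hx⟩ := f.surjective (ξ default)
  let η := geomPointAt T' x
  obtain ⟨W, w, M, _, _, m, hm⟩ := exists_isTriv h η
  haveI : Finite ((EtCoh.stalk η).obj ((EtCoh.pull f).obj F)) := Finite.of_surjective _ (hm _ η w).2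
  have h1 : Finite ((EtCoh.stalk (η ≫ f)).obj F) :=
    @Finite.of_equiv _ _ ‹_› ((stalkPullIso f η).app F).addCommGroupIsoToAddEquiv.toEquiv
  obtain ⟨e₁⟩ := nonempty_stalk_iso_geomPointAt (η ≫ f)
  obtain ⟨e₂⟩ := nonempty_stalk_iso_geomPointAt ξ
  have hd : (η ≫ f) default = ξ default := by rw [Scheme.Hom.comp_apply, geomPointAt_apply, hx]
  have h2 : Finite ((EtCoh.stalk (geomPointAt T (ξ default))).obj F) := by
    rw [← hd]
    exact Finite.of_equiv _ (e₁.app F).addCommGroupIsoToAddEquiv.toEquiv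
  exact Finite.of_equiv _ (e₂.app F).addCommGroupIsoToAddEquiv.symm.toEquiv

/-- A closed set in an étale neighbourhood, described through the supports of the kernel and cokernel
of a map of sheaves that becomes a map of finite locally constant sheaves. -/
theorem isClosed_supp_of_pull {U W : Scheme.{u}} (p : W ⟶ U) [UniversallyClosed p] [Surjective p]
    {R : EtCoh.Ab U} (hR : IsClopen (EtPBC.supp ((EtCoh.pull p).obj R))) :
    IsClosed (EtPBC.supp R) := by
  rw [supp_pull] at hR
  rw [← Set.image_preimage_eq (EtPBC.supp R) p.surjective]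
  exact p.isClosedMap _ hR.1

/-- Finite local constancy descends along universally closed surjective morphisms. -/
theorem isFLC_of_pull_surjective_closed (f : T' ⟶ T) [UniversallyClosed f] [Surjective f] (F : EtCoh.Ab T)
    (h : EtCoh.IsFiniteLocallyConstant ((EtCoh.pull f).obj F)) : EtCoh.IsFiniteLocallyConstant F := by
  have key : ∀ t : T, ∃ V : T.Opens, t ∈ V ∧ EtCoh.IsFiniteLocallyConstant ((EtCoh.pull V.ι).obj F) := by
    intro t
    let ξ := geomPointAt T t
    haveI := finite_stalk_of_pull_flc f h ξ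
    obtain ⟨U, -, φ, m, hm⟩ := exists_stalk_sect F ξ
    obtain ⟨a, ha⟩ := exists_sectMap F U m
    let p : pullback U.hom f ⟶ U.left := pullback.fst U.hom f
    let q : pullback U.hom f ⟶ T' := pullback.snd U.hom f
    have hA : EtCoh.IsFiniteLocallyConstant ((EtCoh.pull p).obj (constAb _ U.left)) :=
      isFLC_pull p (isFLC_const ↑((EtCoh.stalk ξ).obj F))
    have hB : EtCoh.IsFiniteLocallyConstant ((EtCoh.pull p).obj ((EtCoh.pull U.hom).obj F)) :=
      isFLC_of_iso ((pullComp f q).app F ≪≫ (pullCongr pullback.condition.symm).app F ≪≫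
        ((pullComp U.hom p).app F).symm) (isFLC_pull q h)
    have hk : IsClosed (EtPBC.supp (kernel a)) := isClosed_supp_of_pull p
      (isClopen_supp (isFLC_of_iso (PreservesKernel.iso (EtCoh.pull p) a).symm (isFLC_kernel _ hA hB)))
    have hc : IsClosed (EtPBC.supp (cokernel a)) := isClosed_supp_of_pull p
      (isClopen_supp (isFLC_of_iso (PreservesCokernel.iso (EtCoh.pull p) a).symm (isFLC_cokernel _ hA hB)))
    let O : U.left.Opens := ⟨(EtPBC.supp (kernel a))ᶜ ∩ (EtPBC.supp (cokernel a))ᶜ,
      hk.isOpen_compl.inter hc.isOpen_compl⟩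
    have hgood : ∀ v ∈ O, v ∈ goodSet F U m := fun v hv Ω' _ _ ξ' φ' hy => by
      subst hy
      exact ⟨(ha Ω' ξ' φ').1.2 hv.1, (ha Ω' ξ' φ').2.2 hv.2⟩
    obtain ⟨V, hV, hVflc⟩ := exists_open_flc_of_goodSet F m O hgood
    have hb : Function.Bijective fun x => germ ξ F U φ (m x) :=
      ⟨fun x y hxy => ((hm x).symm.trans hxy).trans (hm y), fun x => ⟨x, hm x⟩⟩
    have := hV (φ.left (default : Spec (CommRingCat.of _))) ⟨(ha _ ξ φ).1.1 hb.1, (ha _ ξ φ).2.1 hb.2⟩
    refine ⟨V, ?_, hVflc⟩
    have hw : U.hom (φ.left (default : Spec (CommRingCat.of _))) = ξ default :=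
      (Scheme.Hom.comp_apply _ _ _).symm.trans (congrArg (fun k : Spec _ ⟶ T => k default) (Over.w φ))
    rw [hw, geomPointAt_apply] at this
    exact this
  choose V hV hflc using key
  exact isFLC_of_openCover (fun t => (V t).ι) (Set.eq_univ_of_forall fun t => Set.mem_iUnion.2
    ⟨t, by rw [Scheme.Opens.range_ι]; exact hV t⟩) F hflc

end Groth.Agent.EtConsAb
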