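import Groth.Agent.EtConsAb.Lisse
import Groth.Agent.EtaleSite.Pull
import Groth.Agent.EtConsAb.Strata
import Mathlib.AlgebraicGeometry.IdealSheaf.Subscheme
import Mathlib.CategoryTheory.Subobject.NoetherianObject

/-!
# Subsheaves of constructible abelian sheaves on Noetherian schemes

They are constructible, and constructible sheaves are Noetherian objects.
-/

set_option linter.style.haveILetI false

universe u

open CategoryTheory CategoryTheory.Limits AlgebraicGeometry Opposite Topology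

noncomputable section

namespace Groth.Agent.EtConsAb

open Groth.Agent Groth.Agent.EtaleSite

variable {X : Scheme.{u}}

/-- A subsheaf of a finite locally constant sheaf on an irreducible scheme is finite locally constant
near the generic point. -/
theorem exists_open_subsheaf_flc [IrreducibleSpace ↥X] {R G : EtCoh.Ab X} (i : R ⟶ G) [Mono i]
    (hG : EtCoh.IsFiniteLocallyConstant G) :
    ∃ O : X.Opens, genericPoint ↥X ∈ O ∧ EtCoh.IsFiniteLocallyConstant ((EtCoh.pull O.ι).obj R) := by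
  classical
  obtain ⟨Ω, _, _, η, hη⟩ := exists_generic_geomPoint (X := X)
  obtain ⟨U, φ₁, M, _, _, m, hm⟩ := exists_isTriv hG η
  -- the part of `M` lying in `R` at a point of `U` over the generic point
  let gp : (Scheme.pointSmallEtale η).fiber.obj U → AddSubgroup M := fun φ =>
    ((EtCoh.stalk η).map i).hom.range.comap ((germ η G U φ).hom.comp m)
  haveI : Finite (Set.range gp) := by
    haveI : Finite (AddSubgroup M) := Finite.of_injective _ SetLike.coe_injective
    infer_instance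
  haveI : Nonempty (Set.range gp) := ⟨⟨_, φ₁, rfl⟩⟩
  obtain ⟨⟨N, φ, rfl⟩, hmax⟩ := Finite.exists_max fun N : Set.range gp => Nat.card N.1
  cases nonempty_fintype (gp φ)
  let e := (Fintype.equivFin (gp φ)).symm
  have hp : ∀ z : gp φ, ∃ q, (EtCoh.stalk η).map i q = germ η G U φ (m z.1) := fun z => z.2
  choose p hp using hp
  obtain ⟨W, g, w, s, hw, hs⟩ := exists_common_nbhd φ R fun k => p (e k)
  obtain ⟨W₂, g₂, w₂, hw₂, he⟩ := exists_nbhd_eq_of_finite G w (fun k => i.hom.app (op W) (s k))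
    (fun k => G.obj.map g.op (m (e k).1)) fun k => by
      rw [← germ_naturality, hs, hp, germ_res, hw]
  let sec : gp φ → R.obj.obj (op W₂) := fun z => R.obj.map g₂.op (s (e.symm z))
  have hsec : ∀ z, i.hom.app (op W₂) (sec z) = G.obj.map g₂.op (G.obj.map g.op (m z.1)) := fun z =>
    ((NatTrans.naturality_apply i.hom g₂.op (s (e.symm z))).trans (he (e.symm z))).trans
      (by rw [Equiv.apply_symm_apply])
  let n : gp φ →+ R.obj.obj (op W₂) := AddMonoidHom.mk' sec fun z z' =>
    injective_app_of_mono i (op W₂) (by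
      show i.hom.app (op W₂) (sec (z + z')) = i.hom.app (op W₂) (sec z + sec z')
      rw [map_add, hsec, hsec, hsec, AddSubgroup.coe_add, map_add, map_add, map_add])
  have hn : IsTriv R W₂ (gp φ) n := by
    intro Ω' _ _ ξ v
    have key : ∀ z : gp φ, (EtCoh.stalk ξ).map i (germ ξ R W₂ v (n z)) =
        germ ξ G W₂ v (((G.obj.map (g₂ ≫ g).op).hom.comp m) z.1) := fun z => by
      rw [germ_naturality]
      refine congrArg _ ((hsec z).trans ?_)
      rw [op_comp, Functor.map_comp]
      rfl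
    refine ⟨fun z z' h => Subtype.ext ((hm.restrict (g₂ ≫ g) Ω' ξ v).1 ?_), fun q => ?_⟩
    · exact (key z).symm.trans ((congrArg _ h).trans (key z'))
    obtain ⟨W₃, r, w₃, t, hw₃, rfl⟩ := exists_germ_eq_refine v R q
    obtain ⟨z₀, hz₀⟩ := (hm.restrict (r ≫ g₂ ≫ g) Ω' ξ w₃).2 (germ ξ G W₃ w₃ (i.hom.app (op W₃) t))
    obtain ⟨W₄, e₄, w₄, hw₄, he₄⟩ := (germ_eq_iff ξ G W₃ w₃ _ _).1 hz₀
    have hne : genericPoint ↥X ∈ Set.range W₄.hom := by
      have ho : IsOpen (Set.range W₄.hom) := by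
        haveI : Etale W₄.hom := W₄.prop
        exact W₄.hom.isOpenMap.isOpen_range
      exact (genericPoint_spec ↥X).mem_open_set_iff ho |>.2
        ⟨_, Set.mem_univ _, ⟨w₄.left (default : Spec (CommRingCat.of Ω')), rfl⟩⟩
    obtain ⟨y₀, hy₀⟩ := hne
    obtain ⟨ψ, -⟩ := EtaleSite.exists_fiber_point η W₄ y₀ (hy₀.trans hη.symm)
    let ψU := (Scheme.pointSmallEtale η).fiber.map (e₄ ≫ r ≫ g₂ ≫ g) ψ
    have hle : gp φ ≤ gp ψU := fun z hz => by
      refine ⟨germ η R W₂ ((Scheme.pointSmallEtale η).fiber.map (e₄ ≫ r) ψ) (n ⟨z, hz⟩), ?_⟩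
      refine (germ_naturality η i _ _ _).trans ?_
      show germ η G W₂ _ (i.hom.app (op W₂) (sec ⟨z, hz⟩)) = germ η G U ψU (m z)
      rw [hsec, germ_res, germ_res, ← fiber_map_comp, ← fiber_map_comp]
      simp only [ψU, Category.assoc]
    have heq : gp ψU = gp φ :=
      (AddSubgroup.eq_of_le_of_card_ge hle (hmax ⟨_, ψU, rfl⟩)).symm
    have hz₀N : z₀ ∈ gp φ := by
      rw [← heq]
      refine ⟨germ η R W₄ ψ (R.obj.map e₄.op t), ?_⟩
      refine (germ_naturality η i _ _ _).trans ?_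
      rw [show i.hom.app (op W₄) (R.obj.map e₄.op t) = G.obj.map e₄.op (i.hom.app (op W₃) t) from
        NatTrans.naturality_apply i.hom e₄.op t, ← he₄]
      show germ η G W₄ ψ (G.obj.map e₄.op (G.obj.map (r ≫ g₂ ≫ g).op (m z₀))) = germ η G U ψU (m z₀)
      rw [germ_res, germ_res, ← fiber_map_comp]
    refine ⟨⟨z₀, hz₀N⟩, stalk_injective_of_mono ξ i ?_⟩
    refine (key ⟨z₀, hz₀N⟩).trans ?_
    rw [germ_naturality, ← hz₀]
    show germ ξ G W₂ v (G.obj.map (g₂ ≫ g).op (m z₀)) =
      germ ξ G W₃ w₃ (G.obj.map (r ≫ g₂ ≫ g).op (m z₀))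
    rw [germ_res, germ_res, fiber_map_comp r (g₂ ≫ g), hw₃]
  haveI : Etale W₂.hom := W₂.prop
  refine ⟨⟨_, W₂.hom.isOpenMap.isOpen_range⟩,
    ⟨w₂.left (default : Spec (CommRingCat.of Ω)), ?_⟩, ?_⟩
  · exact (congrArg (fun k : Spec (CommRingCat.of Ω) ⟶ X => k default) (Over.w w₂)).trans hη
  refine isFLC_of_isTriv fun Ω' _ _ ξ => ?_
  obtain ⟨y, hy⟩ := (ξ default).2
  obtain ⟨v, -⟩ := EtaleSite.exists_fiber_point (ξ ≫ Scheme.Opens.ι _) W₂ y hy
  exact ⟨_, EtaleSite.fiberBcEquiv _ ξ W₂ v, _, inferInstance, inferInstance, _, hn.pull _⟩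

/-- On a Noetherian scheme constructibility can be tested at every point on some immersed
subscheme containing it. -/
theorem isConstructible_of_forall_exists_immersion [IsNoetherian X] {F : EtCoh.Ab X}
    (h : ∀ x : X, ∃ (T : Scheme.{u}) (g : T ⟶ X), IsImmersion g ∧ x ∈ Set.range g ∧
      EtCoh.IsFiniteLocallyConstant ((EtCoh.pull g).obj F)) : EtPBC.IsConstructible F := by
  classical
  choose T g hg hx hF using h
  have hc : ∀ x, IsConstructible (Set.range (g x)) := fun x =>
    haveI := hg x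
    ConstrLib.isConstructible_of_isLocallyClosed (g x).isLocallyClosed_range
  obtain ⟨t, ht⟩ := exists_finite_subcover_of_isConstructible _ hc
    (Set.eq_univ_of_forall fun x => Set.mem_iUnion.2 ⟨x, hx x⟩)
  let e := t.equivFin
  exact isConstructible_of_strataCover ⟨Fin t.card, inferInstance, fun k => T (e.symm k).1,
    fun k => g (e.symm k).1, fun k => hg _, fun k => hc _, Set.eq_univ_of_forall fun x => by
      obtain ⟨i, hi, hxi⟩ := Set.mem_iUnion₂.1 (ht.ge (Set.mem_univ x))
      exact Set.mem_iUnion.2 ⟨e ⟨i, hi⟩, by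
        show x ∈ Set.range (g (e.symm (e ⟨i, hi⟩)).1)
        rw [Equiv.symm_apply_apply]; exact hxi⟩,
    fun k => hF _⟩

/-- The reduced closure of a point. -/
theorem exists_irreducible_subscheme (x : X) :
    ∃ (Z : Scheme.{u}) (c : Z ⟶ X), IsClosedImmersion c ∧
      ∃ _ : IrreducibleSpace ↥Z, c (genericPoint ↥Z) = x := by
  let C : TopologicalSpace.Closeds ↥X := ⟨closure {x}, isClosed_closure⟩
  let J := Scheme.IdealSheafData.vanishingIdeal C
  have hr : Set.range J.subschemeι = closure {x} := by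
    rw [Scheme.IdealSheafData.range_subschemeι, Scheme.IdealSheafData.coe_support_vanishingIdeal]
    rfl
  have hi : IsPreirreducible (Set.univ : Set ↥J.subscheme) := by
    have h := (isIrreducible_singleton (x := x)).closure.isPreirreducible.preimage
      (f := J.subschemeι)
    obtain ⟨y, hy⟩ := hr.ge (subset_closure rfl)
    intro a b ha hb hna hnb
    obtain ⟨a', ha', rfl⟩ := J.subschemeι.isClosedEmbedding.isInducing.isOpen_iff.1 ha
    obtain ⟨b', hb', rfl⟩ := J.subschemeι.isClosedEmbedding.isInducing.isOpen_iff.1 hb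
    obtain ⟨p, -, hp⟩ := hna
    obtain ⟨q, -, hq⟩ := hnb
    obtain ⟨r, hr', hra, hrb⟩ := (isIrreducible_singleton (x := x)).closure.2 a' b' ha' hb'
      ⟨_, hr.subset ⟨p, rfl⟩, hp⟩ ⟨_, hr.subset ⟨q, rfl⟩, hq⟩
    obtain ⟨z, rfl⟩ := hr.ge hr'
    exact ⟨z, trivial, hra, hrb⟩
  haveI : Nonempty ↥J.subscheme := (hr.ge (subset_closure rfl)).nonempty
  haveI : PreirreducibleSpace ↥J.subscheme := ⟨hi⟩
  haveI : IrreducibleSpace ↥J.subscheme := ⟨inferInstance⟩
  refine ⟨J.subscheme, J.subschemeι, inferInstance, inferInstance, ?_⟩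
  refine IsGenericPoint.eq ?_ (isGenericPoint_closure (x := x))
  have h := (genericPoint_spec ↥J.subscheme).image J.subschemeι.continuous
  rwa [Set.image_univ, hr, closure_closure] at h

/-- A subsheaf of a constructible sheaf on a Noetherian scheme has a finite locally constant
restriction to an immersed subscheme through every point. -/
theorem isConstructible_sub_of_isNoetherian [IsNoetherian X] {R F : EtCoh.Ab X} (i : R ⟶ F) [Mono i]
    (hF : EtPBC.IsConstructible F) : EtPBC.IsConstructible R := by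
  refine isConstructible_of_forall_exists_immersion fun x => ?_
  obtain ⟨Z, c, hc, _, hx⟩ := exists_irreducible_subscheme x
  obtain ⟨O, hO, hOF⟩ := exists_open_ftlc (isConstructible_pull c hF)
  haveI : Nonempty ↥(O : Scheme.{u}) := ⟨⟨_, hO⟩⟩
  haveI : IrreducibleSpace ↥(O : Scheme.{u}) := by
    haveI : PreirreducibleSpace ↥(O : Scheme.{u}) := Subtype.preirreducibleSpace
      ((PreirreducibleSpace.isPreirreducible_univ (X := ↥Z)).open_subset O.2 (Set.subset_univ _))
    exact ⟨inferInstance⟩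
  haveI : (EtCoh.pull c).PreservesMonomorphisms := inferInstance
  haveI : (EtCoh.pull O.ι).PreservesMonomorphisms := inferInstance
  haveI : Mono ((EtCoh.pull c).map i) := (EtCoh.pull c).map_mono i
  haveI := (EtCoh.pull O.ι).map_mono ((EtCoh.pull c).map i)
  obtain ⟨O₁, hO₁, hR⟩ := exists_open_subsheaf_flc ((EtCoh.pull O.ι).map ((EtCoh.pull c).map i)) hOF
  refine ⟨O₁, O₁.ι ≫ O.ι ≫ c, inferInstance, ⟨⟨_, hO₁⟩, ?_⟩, ?_⟩
  · rw [Scheme.Hom.comp_apply, Scheme.Hom.comp_apply, ← hx]
    exact congrArg c (genericPoint_eq_of_isOpenImmersion O.ι)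
  · exact isFLC_of_iso ((EtCoh.pull O₁.ι).mapIso ((pullComp c O.ι).app R) ≪≫
      (pullComp (O.ι ≫ c) O₁.ι).app R) hR

/-- On a locally Noetherian scheme subsheaves of constructible sheaves are constructible. -/
theorem isConstructible_sub [IsLocallyNoetherian X] {R F : EtCoh.Ab X} (i : R ⟶ F) [Mono i]
    (hF : EtPBC.IsConstructible F) : EtPBC.IsConstructible R := by
  refine isConstructible_of_forall_exists fun x => ?_
  obtain ⟨V, hV, hxV, -⟩ := exists_isAffineOpen_mem_and_subset (show x ∈ (⊤ : X.Opens) from trivial)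
  haveI : IsAffine V.toScheme := hV
  haveI : IsNoetherian V.toScheme := {}
  exact ⟨V, V.ι, inferInstance, ⟨⟨x, hxV⟩, rfl⟩,
    isConstructible_sub_of_isNoetherian ((EtCoh.pull V.ι).map i) (isConstructible_pull V.ι hF)⟩

/-- On a locally Noetherian scheme quotients of constructible sheaves are constructible. -/
theorem isConstructible_quotient [IsLocallyNoetherian X] {F Q : EtCoh.Ab X} (π : F ⟶ Q) [Epi π]
    (hF : EtPBC.IsConstructible F) : EtPBC.IsConstructible Q := by
  have hK := isConstructible_sub (kernel.ι π) hF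
  exact isConstructible_of_iso
    (IsColimit.coconePointUniqueUpToIso (cokernelIsCokernel (kernel.ι π))
      (Abelian.epiIsCokernelOfKernel (Fork.ofι (kernel.ι π) (by simp)) (kernelIsKernel π)))
    (isConstructible_cokernel (kernel.ι π) hK hF)

/-- An increasing sequence of subsheaves of a constructible sheaf on a Noetherian scheme is
eventually constant on every closed subset. -/
theorem exists_stabilises [IsNoetherian X] {F : EtCoh.Ab X} (hF : EtPBC.IsConstructible F)
    (c : ℕ →o Subobject F) (C : TopologicalSpace.Closeds ↥X) :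
    ∃ k₀, ∀ k (hk : k₀ ≤ k) (Ω : Type u) [Field Ω] [IsSepClosed Ω] (ξ : Spec (CommRingCat.of Ω) ⟶ X),
      ξ default ∈ C → Function.Surjective ((EtCoh.stalk ξ).map (Subobject.ofLE _ _ (c.monotone hk))) := by
  classical
  induction C using WellFoundedLT.induction with
  | _ C ih =>
    by_cases hC : (C : Set X) = ∅
    · exact ⟨0, fun k hk Ω _ _ ξ hξ => ((hC ▸ hξ : ξ default ∈ (∅ : Set X))).elim⟩
    obtain ⟨x₀, hx₀⟩ := Set.nonempty_iff_ne_empty.2 hC
    haveI : TopologicalSpace.NoetherianSpace ↥(C : Set X) := inferInstance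
    haveI : Nonempty ↥(C : Set X) := ⟨⟨x₀, hx₀⟩⟩
    -- a point generalising a neighbourhood of itself in `C`
    obtain ⟨o, ho, ⟨y₁, hy₁⟩, hoC⟩ :=
      TopologicalSpace.NoetherianSpace.exists_isOpen_nonempty_subset_irreducibleComponent
        (α := ↥(C : Set X)) (irreducibleComponent ⟨x₀, hx₀⟩)
        (irreducibleComponent_mem_irreducibleComponents _)
    obtain ⟨W, hW, rfl⟩ := isOpen_induced_iff.1 ho
    have hirr : IsIrreducible (Subtype.val '' irreducibleComponent (⟨x₀, hx₀⟩ : ↥(C : Set X))) :=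
      isIrreducible_irreducibleComponent.image _ continuous_subtype_val.continuousOn
    have hcl : IsClosed (Subtype.val '' irreducibleComponent (⟨x₀, hx₀⟩ : ↥(C : Set X))) :=
      C.isClosed.isClosedMap_subtype_val _ isClosed_irreducibleComponent
    let x := hirr.genericPoint
    have hxg : closure ({x} : Set X) = Subtype.val '' irreducibleComponent (⟨x₀, hx₀⟩ : ↥(C : Set X)) :=
      hirr.isGenericPoint_genericPoint hcl
    obtain ⟨Z, cl, hcl', _, hZ⟩ := exists_irreducible_subscheme x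
    have hrange : Set.range cl = closure ({x} : Set X) := by
      have h := (genericPoint_spec ↥Z).image cl.continuous
      rw [hZ, Set.image_univ, cl.isClosedEmbedding.isClosed_range.closure_eq] at h
      exact h.symm
    have hxC : closure ({x} : Set X) ⊆ C := by
      rw [hxg]; rintro _ ⟨z, -, rfl⟩; exact z.2
    have hCW : (C : Set X) ∩ W ⊆ Set.range cl := fun z hz => by
      rw [hrange, hxg]; exact ⟨⟨z, hz.1⟩, hoC hz.2, rfl⟩
    haveI : IsLocallyNoetherian Z := LocallyOfFiniteType.isLocallyNoetherian cl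
    obtain ⟨O, hO, hOF⟩ := exists_open_ftlc (isConstructible_pull cl hF)
    haveI : Nonempty ↥(O : Scheme.{u}) := ⟨⟨_, hO⟩⟩
    haveI : IrreducibleSpace ↥(O : Scheme.{u}) := by
      haveI : PreirreducibleSpace ↥(O : Scheme.{u}) := Subtype.preirreducibleSpace
        ((PreirreducibleSpace.isPreirreducible_univ (X := ↥Z)).open_subset O.2 (Set.subset_univ _))
      exact ⟨inferInstance⟩
    let g : (O : Scheme.{u}) ⟶ X := O.ι ≫ cl
    let P := EtCoh.pull g
    have hG : EtCoh.IsFiniteLocallyConstant (P.obj F) := isFLC_of_iso ((pullComp cl O.ι).app F) hOF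
    obtain ⟨Ω, _, _, η, hη⟩ := exists_generic_geomPoint (X := (O : Scheme.{u}))
    let L := EtCoh.stalk η
    haveI : Finite ↑(L.obj (P.obj F)) := finite_stalk hG η
    haveI : Finite (AddSubgroup ↑(L.obj (P.obj F))) := Finite.of_injective _ SetLike.coe_injective
    let V : ℕ →o AddSubgroup ↑(L.obj (P.obj F)) :=
      { toFun := fun k => (L.map (P.map (c k).arrow)).hom.range
        monotone' := fun k l hkl => by
          rintro _ ⟨z, rfl⟩
          refine ⟨L.map (P.map (Subobject.ofLE _ _ (c.monotone hkl))) z, ?_⟩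
          rw [← ConcreteCategory.comp_apply, ← Functor.map_comp, ← Functor.map_comp, Subobject.ofLE_arrow] }
    haveI : P.PreservesMonomorphisms := inferInstanceAs (EtCoh.pull g).PreservesMonomorphisms
    obtain ⟨k₁, hk₁⟩ := WellFoundedGT.monotone_chain_condition V
    obtain ⟨O₁, hO₁, hR⟩ := exists_open_subsheaf_flc (P.map (c k₁).arrow) hG
    haveI : Nonempty ↥(O₁ : Scheme.{u}) := ⟨⟨_, hO₁⟩⟩
    haveI : IrreducibleSpace ↥(O₁ : Scheme.{u}) := by
      haveI : PreirreducibleSpace ↥(O₁ : Scheme.{u}) := Subtype.preirreducibleSpace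
        ((PreirreducibleSpace.isPreirreducible_univ (X := ↥(O : Scheme.{u}))).open_subset O₁.2
          (Set.subset_univ _))
      exact ⟨inferInstance⟩
    let Q := EtCoh.pull O₁.ι
    obtain ⟨η₁, hη₁⟩ := exists_lift_of_isImmersion O₁.ι η (genericPoint ↥(O₁ : Scheme.{u}))
      ((genericPoint_eq_of_isOpenImmersion O₁.ι).trans hη.symm)
    subst hη₁
    have hη₁g : η₁ default = genericPoint ↥(O₁ : Scheme.{u}) := O₁.ι.isOpenEmbedding.injective
      ((Scheme.Hom.comp_apply η₁ O₁.ι default).symm.trans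
        (hη.trans (genericPoint_eq_of_isOpenImmersion O₁.ι).symm))
    have hiso : ∀ k (hk : k₁ ≤ k), IsIso (Q.map (P.map (Subobject.ofLE _ _ (c.monotone hk)))) := by
      intro k hk
      haveI : Q.PreservesMonomorphisms := inferInstanceAs (EtCoh.pull O₁.ι).PreservesMonomorphisms
      haveI := P.map_mono (Subobject.ofLE _ _ (c.monotone hk))
      haveI := Q.map_mono (P.map (Subobject.ofLE _ _ (c.monotone hk)))
      haveI := P.map_mono (c k).arrow
      haveI := Q.map_mono (P.map (c k).arrow)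
      refine isIso_of_generic η₁ hη₁g _ (Q.map (P.map (c k).arrow)) hR (isFLC_pull O₁.ι hG) ?_
      have hs : Function.Surjective (L.map (P.map (Subobject.ofLE _ _ (c.monotone hk)))) := fun z => by
        obtain ⟨y, hy⟩ := (hk₁ k hk).ge (show L.map (P.map (c k).arrow) z ∈ V k from ⟨z, rfl⟩)
        refine ⟨y, stalk_injective_of_mono _ (P.map (c k).arrow) (Eq.trans ?_ hy)⟩
        rw [← ConcreteCategory.comp_apply, ← Functor.map_comp, ← Functor.map_comp, Subobject.ofLE_arrow]
      rw [← AddCommGrpCat.epi_iff_surjective] at hs ⊢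
      exact ((MorphismProperty.epimorphisms _).arrow_iso_iff
        (Arrow.isoMk' _ _ ((stalkPullIso O₁.ι η₁).app _) ((stalkPullIso O₁.ι η₁).app _)
          ((stalkPullIso O₁.ι η₁).hom.naturality _).symm)).2 hs
    -- the closed complement
    haveI : IsImmersion g := inferInstance
    obtain ⟨A, hA, hAC⟩ : ∃ A : Set X, IsOpen A ∧ A ∩ C = g '' (O₁ : Set ↥(O : Scheme.{u})) ∩ W := by
      have hopen : IsOpen (O.ι '' (O₁ : Set ↥(O : Scheme.{u}))) := O.ι.isOpenEmbedding.isOpenMap _ O₁.2
      obtain ⟨A, hA, hAeq⟩ := cl.isClosedEmbedding.isInducing.isOpen_iff.1 hopen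
      refine ⟨A ∩ W, hA.inter hW, Set.ext fun z => ⟨fun ⟨⟨hzA, hzW⟩, hzC⟩ => ?_, ?_⟩⟩
      · obtain ⟨t, rfl⟩ := hCW ⟨hzC, hzW⟩
        obtain ⟨s, hs, rfl⟩ := hAeq.subset (show t ∈ cl ⁻¹' A from hzA)
        exact ⟨⟨s, hs, Scheme.Hom.comp_apply _ _ _⟩, hzW⟩
      · rintro ⟨⟨s, hs, rfl⟩, hzW⟩
        refine ⟨⟨?_, hzW⟩, hxC (hrange.subset ⟨O.ι s, (Scheme.Hom.comp_apply _ _ _).symm⟩)⟩
        rw [Scheme.Hom.comp_apply]
        exact hAeq.ge ⟨s, hs, rfl⟩
    let C' : TopologicalSpace.Closeds ↥X := ⟨(C : Set X) ∩ Aᶜ, C.isClosed.inter hA.isClosed_compl⟩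
    have hxA : x ∈ g '' (O₁ : Set ↥(O : Scheme.{u})) := ⟨_, hO₁, by
      rw [Scheme.Hom.comp_apply, genericPoint_eq_of_isOpenImmersion O.ι, hZ]⟩
    have hxW : x ∈ W := by
      have hyc : y₁.1 ∈ closure ({x} : Set X) := by rw [hxg]; exact ⟨y₁, hoC hy₁, rfl⟩
      exact (specializes_iff_mem_closure.2 hyc).mem_open hW hy₁
    have hlt : C' < C := by
      refine lt_of_le_of_ne (fun z hz => hz.1) fun h => ?_
      have hx' : x ∈ (C : Set X) := hxC (subset_closure rfl)
      have h' : x ∈ A ∩ (C : Set X) := hAC.ge ⟨hxA, hxW⟩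
      exact ((congrArg SetLike.coe h).ge hx').2 h'.1
    obtain ⟨k₂, hk₂⟩ := ih C' hlt
    refine ⟨max k₁ k₂, fun k hk Ω' _ _ ξ hξ => ?_⟩
    have hsplit : ∀ j (hj : j ≤ max k₁ k₂),
        Function.Surjective ((EtCoh.stalk ξ).map (Subobject.ofLE _ _ (c.monotone (hj.trans hk)))) →
        Function.Surjective ((EtCoh.stalk ξ).map (Subobject.ofLE _ _ (c.monotone hk))) := by
      intro j hj hs z
      obtain ⟨w, hw⟩ := hs z
      refine ⟨(EtCoh.stalk ξ).map (Subobject.ofLE _ _ (c.monotone hj)) w, ?_⟩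
      rw [← ConcreteCategory.comp_apply, ← Functor.map_comp, Subobject.ofLE_comp_ofLE]
      exact hw
    by_cases hξA : ξ default ∈ A
    · refine hsplit k₁ (le_max_left _ _) ?_
      obtain ⟨⟨s, hs, hsx⟩, -⟩ := hAC.subset ⟨hξA, hξ⟩
      obtain ⟨ξ', hξ'⟩ := exists_lift_of_isImmersion (O₁.ι ≫ g) ξ ⟨s, hs⟩
        ((Scheme.Hom.comp_apply _ _ _).trans hsx)
      subst hξ'
      haveI := hiso k ((le_max_left _ _).trans hk)
      have hs' : Epi ((EtCoh.stalk ξ').map
          (Q.map (P.map (Subobject.ofLE _ _ (c.monotone ((le_max_left _ _).trans hk)))))) := inferInstance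
      rw [← AddCommGrpCat.epi_iff_surjective]
      let e := Functor.isoWhiskerRight (pullComp g O₁.ι) (EtCoh.stalk ξ') ≪≫ stalkPullIso (O₁.ι ≫ g) ξ'
      exact ((MorphismProperty.epimorphisms _).arrow_iso_iff
        (Arrow.isoMk' _ _ (e.app _) (e.app _) (e.hom.naturality _).symm)).1 hs'
    · exact hsplit k₂ (le_max_right _ _) (hk₂ k ((le_max_right _ _).trans hk) Ω' ξ ⟨hξ, hξA⟩)

/-- Constructible sheaves on Noetherian schemes are Noetherian objects. -/
theorem isNoetherianObject_of_isConstructible [IsNoetherian X] {F : EtCoh.Ab X}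
    (hF : EtPBC.IsConstructible F) : IsNoetherianObject F := by
  rw [isNoetherianObject_iff_monotone_chain_condition]
  intro c
  obtain ⟨k₀, hk₀⟩ := exists_stabilises hF c ⊤
  refine ⟨k₀, fun k hk => ?_⟩
  haveI : IsIso (Subobject.ofLE _ _ (c.monotone hk)) :=
    isIso_of_stalk _ fun Ω _ _ ξ => (ConcreteCategory.isIso_iff_bijective _).2
      ⟨stalk_injective_of_mono ξ _, hk₀ k hk Ω ξ trivial⟩
  exact Subobject.eq_of_comm (asIso (Subobject.ofLE _ _ (c.monotone hk))) (Subobject.ofLE_arrow _)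

end Groth.Agent.EtConsAb
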