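/-
Ind-étale algebras: no specialisations in the fibres and algebraic residue extensions; strictly
henselian algebras over a field receive the separable closure.
-/
import Groth.Agent.EtLimit.Nbhd
import Mathlib.FieldTheory.Isaacs
import Mathlib.RingTheory.Unramified.Field
import Mathlib.RingTheory.QuasiFinite.Basic

set_option autoImplicit false
set_option linter.style.haveILetI false

universe u

open TensorProduct

namespace Groth.Agent.EtConsAb.RelCd

open Groth.Agent

variable {C B : Type u} [CommRing C] [CommRing B] [Algebra C B]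

/-- Every element of an ind-étale algebra comes from an étale one. -/
theorem exists_etale_of_fac (h : IndAlg.Fac (IndAlg.Etale.Et C) B) (z : B) :
    ∃ (E : Type u) (_ : CommRing E) (_ : Algebra C E), Algebra.Etale C E ∧
      ∃ (θ : E →ₐ[C] B) (e : E), θ e = z := by
  let g : MvPolynomial (Fin 1) C →ₐ[C] B := MvPolynomial.aeval fun _ => z
  obtain ⟨E, _, _, hE, v, w, hw⟩ := h (MvPolynomial (Fin 1) C) inferInstance g
  exact ⟨E, _, _, hE, w, v (MvPolynomial.X 0),
    (DFunLike.congr_fun hw (MvPolynomial.X 0)).trans (MvPolynomial.aeval_X _ _)⟩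

/-- Primes of an ind-étale algebra with the same contraction are incomparable. -/
theorem eq_of_le_of_comap_eq (h : IndAlg.Fac (IndAlg.Etale.Et C) B) {P Q : Ideal B} [P.IsPrime] [Q.IsPrime]
    (hle : P ≤ Q) (hc : P.comap (algebraMap C B) = Q.comap (algebraMap C B)) : P = Q := by
  refine le_antisymm hle fun z hz => ?_
  obtain ⟨E, _, _, hE, θ, e, rfl⟩ := exists_etale_of_fac h z
  haveI : Algebra.QuasiFinite C E := inferInstance
  have hE' : P.comap θ.toRingHom = Q.comap θ.toRingHom := by
    refine Algebra.QuasiFinite.eq_of_le_of_under_eq (R := C) (S := E) _ _ (Ideal.comap_mono hle) ?_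
    rw [Ideal.under_def, Ideal.under_def, Ideal.comap_comap, Ideal.comap_comap, show θ.toRingHom.comp (algebraMap C E) = algebraMap C B from θ.comp_algebraMap, hc]
  exact (SetLike.ext_iff.1 hE' e).2 hz

/-- Residue fields of an ind-étale algebra are algebraic over the field below. -/
theorem isAlgebraic_of_fac (h : IndAlg.Fac (IndAlg.Etale.Et C) B) {k L : Type u} [Field k] [Field L]
    [Algebra C k] [Algebra k L] [Algebra C L] [IsScalarTower C k L] (ρ : B →ₐ[C] L)
    (hgen : ∀ x : L, ∃ a b : B, ρ b ≠ 0 ∧ x = ρ a / ρ b) : Algebra.IsAlgebraic k L := by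
  have key : ∀ z : B, IsAlgebraic k (ρ z) := fun z => by
    obtain ⟨E, _, _, hE, θ, e, rfl⟩ := exists_etale_of_fac h z
    haveI : Algebra.Etale k (k ⊗[C] E) := inferInstance
    haveI : Module.Finite k (k ⊗[C] E) := Algebra.FormallyUnramified.finite_of_free k (k ⊗[C] E)
    let Φ : k ⊗[C] E →ₐ[k] L :=
      Algebra.TensorProduct.lift (Algebra.ofId k L) (ρ.comp θ) fun _ _ => .all _ _
    have h2 : IsIntegral k ((1 : k) ⊗ₜ[C] e) := Algebra.IsIntegral.isIntegral _
    have h3 := h2.map Φ
    rw [Algebra.TensorProduct.lift_tmul, map_one, one_mul] at h3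
    exact h3.isAlgebraic
  refine ⟨fun x => ?_⟩
  obtain ⟨a, b, -, rfl⟩ := hgen x
  rw [div_eq_mul_inv]
  exact (key a).mul (key b).inv

/-- A separable closure maps into any field receiving a strictly henselian algebra. -/
theorem nonempty_algHom_separableClosure {K R L : Type u} [Field K] [CommRing R] [HenselianLocalRing R]
    [IsSepClosed (IsLocalRing.ResidueField R)] [Algebra K R] [Field L] [Algebra K L] (ρ : R →ₐ[K] L) :
    Nonempty (SeparableClosure K →ₐ[K] L) := by
  refine Field.nonempty_algHom_of_exists_root fun x => ?_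
  let p := minpoly K x
  have hsep : p.Separable := Algebra.IsSeparable.isSeparable K x
  have hm : p.Monic := minpoly.monic (Algebra.IsIntegral.isIntegral x)
  let π := IsLocalRing.residue R
  have hdeg : (p.map (π.comp (algebraMap K R))).degree ≠ 0 := by
    rw [Polynomial.degree_map]
    exact (minpoly.degree_pos (Algebra.IsIntegral.isIntegral x)).ne'
  obtain ⟨a₀, ha₀⟩ := IsSepClosed.exists_root _ hdeg (hsep.map)
  obtain ⟨a, rfl⟩ := IsLocalRing.residue_surjective a₀
  have h1 : π ((p.map (algebraMap K R)).eval a) = 0 := by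
    rw [← Polynomial.eval₂_at_apply, Polynomial.eval₂_map, ← Polynomial.eval_map]
    exact ha₀
  have h2 : IsUnit ((p.map (algebraMap K R)).derivative.eval a) := by
    rw [← IsLocalRing.residue_ne_zero_iff_isUnit, ← Polynomial.eval₂_at_apply, Polynomial.derivative_map,
      Polynomial.eval₂_map, ← Polynomial.eval_map, ← Polynomial.derivative_map]
    exact hsep.map.eval₂_derivative_ne_zero (RingHom.id _) (by simpa using ha₀)
  obtain ⟨r, hr, -⟩ := HenselianLocalRing.is_henselian (p.map (algebraMap K R)) (hm.map _) a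
    ((IsLocalRing.residue_eq_zero_iff _).1 h1) h2
  refine ⟨ρ r, ?_⟩
  rw [Polynomial.aeval_algHom_apply, Polynomial.aeval_def, ← Polynomial.eval_map]
  exact (congrArg ρ hr.eq_zero).trans (map_zero ρ)

end Groth.Agent.EtConsAb.RelCd
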