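/-
Finite cohomological dimension of morphisms between schemes of finite type over a field.
-/
import Groth.Agent.EtConsAb.RelCdAlg
import Groth.Agent.EtConsAb.Supp
import Groth.Agent.EtLimit.RpushStalk
import Groth.Agent.GalCohAux.EtDimVanE
import Groth.Agent.GalCohAux.EtCdTrDeg
import Groth.Agent.VarDim.Scheme
import Groth.Agent.VarBC.Basic
import Groth.Agent.S0088
import Groth.Agent.S0540

set_option autoImplicit false
set_option linter.style.haveILetI false

universe u

open CategoryTheory CategoryTheory.Limits AlgebraicGeometry Opposite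
open scoped TensorProduct

noncomputable section

namespace Groth.Agent.EtConsAb.RelCd

open Groth.Agent Groth.Agent.GalCohAux

attribute [-instance] EtFin.instUniqueCarrierCarrierCommRingCatSpecOf_groth

/-- Separably closed fields have cohomological dimension zero. -/
theorem cd_sepClosed (K : Type u) [Field K] [IsSepClosed K] (ℓ : ℕ) : EtCdTr.Cd K ℓ 0 := by
  refine EtCdTrDeg.cd_of_cohDimLE ℓ fun F _ q hq => S0088.result (Spec (CommRingCat.of K)) ?_ ?_ F q hq
  · intro s
    rw [Subsingleton.eq_univ_of_nonempty (Set.singleton_nonempty s)]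
    exact isClosed_univ
  · intro s
    let s' : PrimeSpectrum K := s
    have e : K ≃+* (Spec (CommRingCat.of K)).residueField s :=
      ((s'.asIdeal.algEquivResidueFieldOfField).toRingEquiv).trans
        (Scheme.Spec.residueFieldIso (CommRingCat.of K) s).commRingCatIsoToRingEquiv.symm
    exact IsSepClosed.of_exists_root _ fun p hp hirr hsep => by
      obtain ⟨x, hx⟩ := IsSepClosed.exists_root (p.map e.symm.toRingHom)
        (by rw [Polynomial.degree_map]; exact (Polynomial.degree_pos_of_irreducible hirr).ne') hsep.map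
      refine ⟨e x, ?_⟩
      have h := congrArg e hx
      rw [map_zero, Polynomial.eval_map, ← RingEquiv.coe_toRingHom, Polynomial.hom_eval₂] at h
      rw [show (e : K →+* _).comp e.symm.toRingHom = RingHom.id _ from RingHom.ext e.apply_symm_apply] at h
      exact h

variable {X Y : Scheme.{u}} (f : X ⟶ Y) (y : Y) (R : Type u) [CommRing R] [IsLocalRing R]
  [Algebra (Y.presheaf.stalk y) R] [IsLocalHom (algebraMap (Y.presheaf.stalk y) R)]
  [Hensel.IsStrictHenselization (Y.presheaf.stalk y) R]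

/-- Charts of the base change to a strict localisation. -/
theorem exists_chart (x' : ↥(pullback f (Hens2.specOf Y y R))) :
    ∃ (U : X.Opens) (hU : IsAffineOpen U) (B : Type u) (_ : CommRing B) (_ : Algebra Γ(X, U) B)
      (_ : IndAlg.Fac (IndAlg.Etale.Et Γ(X, U)) B) (r : R →+* B)
      (e : Spec (CommRingCat.of B) ⟶ pullback f (Hens2.specOf Y y R)) (_ : IsOpenImmersion e),
      x' ∈ Set.range e ∧
      e ≫ pullback.fst f (Hens2.specOf Y y R) =
        Spec.map (CommRingCat.ofHom (algebraMap Γ(X, U) B)) ≫ hU.fromSpec ∧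
      e ≫ pullback.snd f (Hens2.specOf Y y R) = Spec.map (CommRingCat.ofHom r) ∧
      Set.range e = pullback.fst f (Hens2.specOf Y y R) ⁻¹' (U : Set X) := by
  let σ := Hens2.specOf Y y R
  obtain ⟨V, hV, hyV, -⟩ := exists_isAffineOpen_mem_and_subset (show y ∈ (⊤ : Y.Opens) from trivial)
  letI := TopCat.Presheaf.algebra_section_stalk Y.presheaf ⟨y, hyV⟩
  haveI := hV.isLocalization_stalk ⟨y, hyV⟩
  letI : Algebra Γ(Y, V) R := ((algebraMap (Y.presheaf.stalk y) R).comp
    (algebraMap Γ(Y, V) (Y.presheaf.stalk y))).toAlgebra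
  haveI : IsScalarTower Γ(Y, V) (Y.presheaf.stalk y) R := .of_algebraMap_eq' rfl
  have hσ : σ = Spec.map (CommRingCat.ofHom (algebraMap Γ(Y, V) R)) ≫ hV.fromSpec := by
    show Spec.map _ ≫ Y.fromSpecStalk y = _
    rw [← IsAffineOpen.fromSpecStalk_eq_fromSpecStalk hV hyV, IsAffineOpen.fromSpecStalk,
      ← Spec.map_comp_assoc]
    rfl
  have hxV : pullback.fst f σ x' ∈ f ⁻¹ᵁ V := by
    show f (pullback.fst f σ x') ∈ V
    have h : ∀ z, σ z ∈ V := fun z => by rw [hσ, Scheme.Hom.comp_apply]; exact hV.range_fromSpec.le ⟨_, rfl⟩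
    rw [← Scheme.Hom.comp_apply, pullback.condition, Scheme.Hom.comp_apply]
    exact h _
  obtain ⟨U, hU, hxU, hle⟩ := exists_isAffineOpen_mem_and_subset hxV
  letI : Algebra Γ(Y, V) Γ(X, U) := (f.appLE V U hle).hom.toAlgebra
  let m : pullback (Spec.map (f.appLE V U hle)) (Spec.map (CommRingCat.ofHom (algebraMap Γ(Y, V) R))) ⟶
      pullback f σ :=
    pullback.map _ _ f σ hU.fromSpec (𝟙 _) hV.fromSpec (hV.SpecMap_appLE_fromSpec f hU hle)
      ((Category.id_comp _).trans hσ).symm
  let e : Spec (CommRingCat.of (Γ(X, U) ⊗[Γ(Y, V)] R)) ⟶ pullback f σ :=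
    (pullbackSpecIso Γ(Y, V) Γ(X, U) R).inv ≫ m
  have hrange : Set.range e = pullback.fst f σ ⁻¹' (U : Set X) := by
    have h1 : Set.range e = Set.range m := by
      show Set.range ((pullbackSpecIso Γ(Y, V) Γ(X, U) R).inv ≫ m).base = _
      rw [Scheme.Hom.comp_base, TopCat.coe_comp, Set.range_comp,
        Set.range_eq_univ.2 (pullbackSpecIso Γ(Y, V) Γ(X, U) R).inv.surjective, Set.image_univ]
    rw [h1, Scheme.Pullback.range_map, hU.range_fromSpec]
    simp
  refine ⟨U, hU, Γ(X, U) ⊗[Γ(Y, V)] R, inferInstance, inferInstance, ?_,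
    (Algebra.TensorProduct.includeRight : R →ₐ[Γ(Y, V)] Γ(X, U) ⊗[Γ(Y, V)] R).toRingHom, e, inferInstance,
    hrange.ge hxU, ?_, ?_, hrange⟩
  · exact IndAlg.Etale.fac_baseChange (EtLimit.fac_et_strictHenselization (L := Y.presheaf.stalk y)
      (hV.primeIdealOf ⟨y, hyV⟩).asIdeal)
  · rw [Category.assoc, pullback.lift_fst, ← Category.assoc]
    exact congrArg (· ≫ hU.fromSpec) (pullbackSpecIso_inv_fst ..)
  · rw [Category.assoc, pullback.lift_snd, Category.comp_id]
    exact pullbackSpecIso_inv_snd ..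

/-- No specialisations in the fibres. -/
theorem fst_injective_of_specializes {x' y' : ↥(pullback f (Hens2.specOf Y y R))} (h : x' ⤳ y')
    (he : pullback.fst f (Hens2.specOf Y y R) x' = pullback.fst f (Hens2.specOf Y y R) y') : x' = y' := by
  obtain ⟨U, hU, B, _, _, hB, r, e, _, ⟨Q, rfl⟩, hfst, -, hrange⟩ := exists_chart f y R y'
  obtain ⟨P, rfl⟩ : x' ∈ Set.range e := by
    rw [hrange]
    show pullback.fst f _ x' ∈ U
    rw [he]
    exact hrange.le ⟨Q, rfl⟩
  have hPQ : P ⤳ Q := e.isOpenEmbedding.isInducing.specializes_iff.1 h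
  let P' : PrimeSpectrum B := P
  let Q' : PrimeSpectrum B := Q
  have hc : PrimeSpectrum.comap (algebraMap Γ(X, U) B) P' = PrimeSpectrum.comap (algebraMap Γ(X, U) B) Q' := by
    refine hU.fromSpec.isOpenEmbedding.injective ?_
    have h1 := congrArg (fun k => k P) hfst
    have h2 := congrArg (fun k => k Q) hfst
    exact h1.symm.trans (he.trans h2)
  have : P'.asIdeal = Q'.asIdeal :=
    eq_of_le_of_comap_eq hB ((PrimeSpectrum.le_iff_specializes P' Q').2 hPQ) (congrArg PrimeSpectrum.asIdeal hc)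
  rw [show P = Q from PrimeSpectrum.ext this]

attribute [local instance] VarDim.secAlgebra Curv2.resAlgebra

set_option maxHeartbeats 800000 in
/-- The cohomological dimension of the residue fields of the base change to a strict localisation. -/
theorem cd_residueField (K : Type u) [Field K] [X.Over (Spec (CommRingCat.of K))]
    [LocallyOfFiniteType (X ↘ Spec (CommRingCat.of K))] (b : Y ⟶ Spec (CommRingCat.of K))
    (w : f ≫ b = X ↘ Spec (CommRingCat.of K)) (x' : ↥(pullback f (Hens2.specOf Y y R))) (ℓ : ℕ)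
    (hℓ : ℓ.Prime) :
    EtCdTr.Cd ((pullback f (Hens2.specOf Y y R)).residueField x') ℓ
      (0 + VarDim.dimPt K X (pullback.fst f (Hens2.specOf Y y R) x')) := by
  haveI := Fact.mk hℓ
  haveI : HenselianLocalRing R := Hensel.IsStrictHenselization.henselian (R := Y.presheaf.stalk y) (S := R)
  haveI : IsSepClosed (IsLocalRing.ResidueField R) :=
    (Hensel.IsStrictHenselization.isSepClosure (R := Y.presheaf.stalk y) (S := R)).sep_closed
  obtain ⟨U, hU, B, _, _, hB, r, e, _, ⟨P, rfl⟩, hfst, hsnd, hrange⟩ := exists_chart f y R x'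
  let σ := Hens2.specOf Y y R
  let x := pullback.fst f σ (e P)
  have hxU : x ∈ U := hrange.le ⟨P, rfl⟩
  let P' : PrimeSpectrum B := P
  let L := P'.asIdeal.ResidueField
  let θR : CommRingCat.of K ⟶ CommRingCat.of R := Spec.preimage (σ ≫ b)
  have hθ : r.comp θR.hom = (algebraMap Γ(X, U) B).comp (algebraMap K Γ(X, U)) := by
    have h1 : Spec.map (CommRingCat.ofHom ((algebraMap Γ(X, U) B).comp (algebraMap K Γ(X, U)))) =
        Spec.map (CommRingCat.ofHom (algebraMap Γ(X, U) B)) ≫ hU.fromSpec ≫ (X ↘ Spec (CommRingCat.of K)) := by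
      rw [CommRingCat.ofHom_comp, Spec.map_comp]
      congr 1
      exact specMap_secAlgebra K U hU
    have h2 : Spec.map (θR ≫ CommRingCat.ofHom r) =
        Spec.map (CommRingCat.ofHom ((algebraMap Γ(X, U) B).comp (algebraMap K Γ(X, U)))) := by
      rw [h1, Spec.map_comp, Spec.map_preimage, ← hsnd, Category.assoc, ← pullback.condition_assoc, w,
        ← Category.assoc, hfst, Category.assoc]
    exact congrArg CommRingCat.Hom.hom (Spec.map_inj.1 h2)
  letI : Algebra K R := θR.hom.toAlgebra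
  letI : Algebra Γ(X, U) L := ((algebraMap B L).comp (algebraMap Γ(X, U) B)).toAlgebra
  haveI : IsScalarTower Γ(X, U) B L := .of_algebraMap_eq' rfl
  letI : Algebra K L := ((algebraMap Γ(X, U) L).comp (algebraMap K Γ(X, U))).toAlgebra
  haveI : IsScalarTower K Γ(X, U) L := .of_algebraMap_eq' rfl
  let ρ : R →ₐ[K] L :=
    { (algebraMap B L).comp r with
      commutes' := fun c => congrArg (algebraMap B L) (DFunLike.congr_fun hθ c) }
  -- the point of `X`
  let pc : Ideal Γ(X, U) := (hU.primeIdealOf ⟨x, hxU⟩).asIdeal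
  have hpc : RingHom.ker (algebraMap Γ(X, U) L) = pc := by
    show RingHom.ker ((algebraMap B L).comp (algebraMap Γ(X, U) B)) = _
    rw [← RingHom.comap_ker, Ideal.ker_algebraMap_residueField]
    have h1 : PrimeSpectrum.comap (algebraMap Γ(X, U) B) P' = hU.primeIdealOf ⟨x, hxU⟩ := by
      refine hU.fromSpec.isOpenEmbedding.injective ?_
      rw [hU.fromSpec_primeIdealOf]
      exact (congrArg (fun k => k P) hfst).symm
    exact congrArg PrimeSpectrum.asIdeal h1
  letI : Algebra (Γ(X, U) ⧸ pc) L :=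
    (Ideal.Quotient.lift pc (algebraMap Γ(X, U) L) fun a ha => RingHom.mem_ker.1 (hpc.ge ha)).toAlgebra
  haveI : IsScalarTower Γ(X, U) (Γ(X, U) ⧸ pc) L := .of_algebraMap_eq fun _ => rfl
  haveI : IsScalarTower K (Γ(X, U) ⧸ pc) L := .of_algebraMap_eq fun _ => rfl
  have hinj : Function.Injective (algebraMap (Γ(X, U) ⧸ pc) L) :=
    RingHom.lift_injective_of_ker_le_ideal _ _ hpc.le
  haveI : FaithfulSMul (Γ(X, U) ⧸ pc) L := (faithfulSMul_iff_algebraMap_injective _ _).2 hinj
  let k := FractionRing (Γ(X, U) ⧸ pc)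
  letI : Algebra k L := (IsFractionRing.lift hinj).toAlgebra
  haveI : IsScalarTower (Γ(X, U) ⧸ pc) k L :=
    IsScalarTower.of_algebraMap_eq fun z => (IsFractionRing.lift_algebraMap hinj z).symm
  haveI : IsScalarTower Γ(X, U) k L := IsScalarTower.of_algebraMap_eq fun z => by
    rw [IsScalarTower.algebraMap_apply Γ(X, U) (Γ(X, U) ⧸ pc) L,
      IsScalarTower.algebraMap_apply (Γ(X, U) ⧸ pc) k L, ← IsScalarTower.algebraMap_apply Γ(X, U) (Γ(X, U) ⧸ pc) k]
  haveI : Algebra.IsAlgebraic k L := isAlgebraic_of_fac hB (IsScalarTower.toAlgHom Γ(X, U) B L) fun z => by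
    obtain ⟨a, s, hs, hz⟩ := IsFractionRing.div_surjective (B ⧸ P'.asIdeal) z
    obtain ⟨a, rfl⟩ := Ideal.Quotient.mk_surjective a
    obtain ⟨s, rfl⟩ := Ideal.Quotient.mk_surjective s
    refine ⟨a, s, ?_, hz.symm⟩
    exact (map_ne_zero_iff _ (IsFractionRing.injective (B ⧸ P'.asIdeal) L)).2 (nonZeroDivisors.ne_zero hs)
  haveI : Algebra.IsAlgebraic (Γ(X, U) ⧸ pc) L := 
    ⟨fun z => (IsFractionRing.isAlgebraic_iff (Γ(X, U) ⧸ pc) k L).2 (Algebra.IsAlgebraic.isAlgebraic z)⟩
  have htr : Algebra.trdeg K L = VarDim.dimPt K X x := by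
    rw [← trdeg_add_eq K (Γ(X, U) ⧸ pc) (A := L), trdeg_eq_zero (R := Γ(X, U) ⧸ pc) (A := L), add_zero]
    exact VarDim.trdeg_quotient_primeIdealOf K hU x hxU
  obtain ⟨ι⟩ := nonempty_algHom_separableClosure ρ
  letI : Algebra (SeparableClosure K) L := ι.toRingHom.toAlgebra
  haveI : IsScalarTower K (SeparableClosure K) L := IsScalarTower.of_algebraMap_eq fun c => (ι.commutes c).symm
  have htr' : Algebra.trdeg (SeparableClosure K) L = VarDim.dimPt K X x := by
    rw [← htr, ← trdeg_add_eq K (SeparableClosure K) (A := L), trdeg_eq_zero (R := K) (A := SeparableClosure K),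
      zero_add]
  have hL : EtCdTr.Cd L ℓ (0 + VarDim.dimPt K X x) :=
    EtCdTrDeg.cd_trdeg (cd_sepClosed (SeparableClosure K) ℓ) _ htr'
  exact EtCdTr.cd_ringEquiv ((Scheme.Spec.residueFieldIso (CommRingCat.of B) P).commRingCatIsoToRingEquiv.symm.trans
    (asIso (e.residueFieldMap P)).commRingCatIsoToRingEquiv.symm) hL
where
  specMap_secAlgebra (K : Type u) [Field K] [X.Over (Spec (CommRingCat.of K))] (U : X.Opens) (hU : IsAffineOpen U) :
      Spec.map (CommRingCat.ofHom (algebraMap K Γ(X, U))) = hU.fromSpec ≫ (X ↘ Spec (CommRingCat.of K)) := by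
    have h : CommRingCat.ofHom (algebraMap K Γ(X, U)) = (Scheme.ΓSpecIso (CommRingCat.of K)).inv ≫
        (X ↘ Spec (CommRingCat.of K)).appLE ⊤ U le_top := rfl
    rw [h, Spec.map_comp, ← (isAffineOpen_top (Spec (CommRingCat.of K))).SpecMap_appLE_fromSpec _ hU le_top,
      IsAffineOpen.fromSpec_top, Scheme.isoSpec_Spec_inv]

set_option maxHeartbeats 800000 in
/-- The relative cohomological dimension is finite. -/
theorem exists_relCohDimLE (K : Type u) [Field K] [X.Over (Spec (CommRingCat.of K))]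
    [LocallyOfFiniteType (X ↘ Spec (CommRingCat.of K))] [CompactSpace X] (b : Y ⟶ Spec (CommRingCat.of K))
    [LocallyOfFiniteType b] (w : f ≫ b = X ↘ Spec (CommRingCat.of K)) [QuasiCompact f] [QuasiSeparated f]
    [LocallyOfFiniteType f] [EtCoh.BCCont f] :
    ∃ d : ℕ, EtCoh.RelCohDimLE f d := by
  classical
  haveI : IsLocallyNoetherian X := LocallyOfFiniteType.isLocallyNoetherian (X ↘ Spec (CommRingCat.of K))
  haveI : IsNoetherian X := {}
  haveI : IsLocallyNoetherian Y := LocallyOfFiniteType.isLocallyNoetherian b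
  let t : X → ℕ := VarDim.dimPt K X
  let φ₀ : X → ℕ := fun x => (t x + 1) * (t x + 1)
  have hmono₀ : ∀ x z : X, x ⤳ z → φ₀ z ≤ φ₀ x := fun x z hxz => by
    rcases eq_or_ne x z with rfl | hne
    · exact le_rfl
    · have hz : z < x := lt_of_le_not_ge hxz fun h => hne (Specializes.antisymm (h : z ⤳ x) hxz).eq.symm
      have ht : t z ≤ t x := (VarDim.dimPt_lt_of_lt K hz).le
      exact Nat.mul_le_mul (by omega) (by omega)
  have hfin := TopologicalSpace.NoetherianSpace.finite_irreducibleComponents (α := X)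
  refine ⟨hfin.toFinset.sup (fun Z => if h : IsIrreducible Z ∧ IsClosed Z then φ₀ (QuasiSober.sober h.1 h.2).choose else 0),
    fun F hF q hq => (EtaleSite.isZero_iff_stalk _).2 fun Ω _ _ ξ => ?_⟩
  have hsup : ∀ x : X, φ₀ x < q := fun x => by
    refine lt_of_le_of_lt ?_ hq
    obtain ⟨Z, hZ, hsub⟩ := exists_mem_irreducibleComponents_subset_of_isIrreducible {x} isIrreducible_singleton
    have hZc : IsIrreducible Z ∧ IsClosed Z := ⟨hZ.1, isClosed_of_mem_irreducibleComponents Z hZ⟩
    refine le_trans ?_ (Finset.le_sup (hfin.mem_toFinset.2 hZ))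
    rw [dif_pos hZc]
    exact hmono₀ _ x ((QuasiSober.sober hZc.1 hZc.2).choose_spec.specializes (hsub rfl))
  refine (EtConsAb.isZero_stalk_iff ξ rfl).2 ?_
  generalize ξ default = y
  let O := Y.presheaf.stalk y
  let R := Hens.StrictHenselization O
  haveI : IsSepClosed (IsLocalRing.ResidueField R) :=
    (inferInstance : Hensel.IsStrictHenselization O R).isSepClosure.sep_closed
  have hpt : Hens2.geomPt Y y R default = y := by
    refine (Scheme.Hom.comp_apply _ _ _).trans ((Scheme.Hom.comp_apply _ _ _).trans ?_)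
    have hclosed : (Spec.map (CommRingCat.ofHom (algebraMap O R)))
        ((Spec.map (CommRingCat.ofHom (IsLocalRing.residue R))) default) = IsLocalRing.closedPoint O := by
      refine PrimeSpectrum.ext ?_
      show Ideal.comap (algebraMap O R) (Ideal.comap (IsLocalRing.residue R)
        (default : Spec (CommRingCat.of (IsLocalRing.ResidueField R))).asIdeal) = IsLocalRing.maximalIdeal O
      rw [show (default : Spec (CommRingCat.of (IsLocalRing.ResidueField R))).asIdeal = ⊥ from
        Ideal.eq_bot_of_prime _, ← RingHom.ker_eq_comap_bot, IsLocalRing.ker_residue,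
        IsLocalRing.maximalIdeal_comap]
    exact (congrArg (Y.fromSpecStalk y) hclosed).trans Scheme.fromSpecStalk_closedPoint
  refine (EtConsAb.isZero_stalk_iff (Hens2.geomPt Y y R) hpt).1 ?_
  obtain ⟨i⟩ := EtLimit.nonempty_Rpush_stalk_iso f y R q
  refine IsZero.of_iso ?_ (i.app F)
  refine @AddCommGrpCat.isZero_of_subsingleton _ ?_
  let σ := Hens2.specOf Y y R
  show Subsingleton (EtCoh.H (pullback f σ) ((EtCoh.pull (pullback.fst f σ)).obj F) q)
  haveI : IsNoetherianRing R := (S0540.result O R).1 inferInstance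
  haveI : IsNoetherianRing (CommRingCat.of R) := ‹IsNoetherianRing R›
  haveI : LocallyOfFiniteType (pullback.snd f σ) := MorphismProperty.pullback_snd _ _ inferInstance
  haveI : QuasiCompact (pullback.snd f σ) := MorphismProperty.pullback_snd _ _ inferInstance
  haveI : IsLocallyNoetherian (pullback f σ) := LocallyOfFiniteType.isLocallyNoetherian (pullback.snd f σ)
  haveI : CompactSpace ↥(pullback f σ) := QuasiCompact.compactSpace_of_compactSpace (pullback.snd f σ)
  haveI : IsNoetherian (pullback f σ) := {}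
  let p := pullback.fst f σ
  let φ : ↥(pullback f σ) → ℕ := fun z => φ₀ (p z)
  have hstep : ∀ a c : ↥(pullback f σ), a ⤳ c → a ≠ c → φ c + t (p a) + 1 ≤ φ a := fun a c hac hne => by
    have hne' : p a ≠ p c := fun h => hne (fst_injective_of_specializes f y R hac h)
    have hlt : p c < p a := lt_of_le_not_ge (hac.map p.continuous) fun h =>
      hne' (Specializes.antisymm (h : p c ⤳ p a) (hac.map p.continuous)).eq.symm
    have ht : t (p c) + 1 ≤ t (p a) := VarDim.dimPt_lt_of_lt K hlt
    have h1 : φ c ≤ t (p a) * t (p a) := Nat.mul_le_mul ht ht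
    have h2 : φ a = t (p a) * t (p a) + t (p a) + t (p a) + 1 := by
      show (t (p a) + 1) * (t (p a) + 1) = _; ring
    omega
  have hcd := cd_residueField f y R K b w
  refine EtDimVanC.vanishing (EtDimVanD.torsionClass Set.univ) φ
    (fun a c hac hne => by have := hstep a c hac hne; omega) (fun a M hM n hn => ?_)
    (fun a c hac hne R' _ _ _ _ _ P hP M hM n hn => ?_) _
    ((EtDimVanD.torsionClass Set.univ).pull p ((EtDimVanD.isTorsion_iff_lTorsion F).1 hF)) q
    fun a _ => hsup _
  · refine EtCdTrDeg.cohDimLE_of_cd (fun ℓ hℓ => hcd a ℓ hℓ) M ((EtDimVanD.isTorsion_iff_lTorsion M).2 hM) n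
      (lt_of_le_of_lt ?_ hn)
    rw [zero_add]
    exact le_trans (Nat.le_succ _) (Nat.le_mul_of_pos_left (t (p a) + 1) (Nat.succ_pos (t (p a))))
  · haveI : P.IsPrime := hP.1.1
    obtain ⟨ψ, hψ⟩ := EtDimVanE.exists_algebraic a c hac R' P hP
    letI := ψ.toAlgebra
    haveI := hψ
    have := hstep a c hac hne
    exact EtCdTrDeg.cohDimLE_of_cd
      (fun ℓ hℓ => haveI := Fact.mk hℓ; EtCdTr.cd_algebraic (k := (pullback f σ).residueField a) (hcd a ℓ hℓ)) M
      ((EtDimVanD.isTorsion_iff_lTorsion M).2 hM) n (by rw [zero_add]; show t (p a) < n; omega)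

end Groth.Agent.EtConsAb.RelCd
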