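/-
The `p`-cohomological dimension over a separably closed field of characteristic `p`.
-/
import Groth.Agent.S3519
import Groth.Agent.EtAS.Proper
import Groth.Agent.Nagata.Boundary
import Groth.Agent.S1571
import Groth.Agent.S1618
import Groth.Agent.S0109

set_option autoImplicit false
set_option linter.style.haveILetI false
set_option backward.isDefEq.respectTransparency false

universe u

open CategoryTheory CategoryTheory.Limits AlgebraicGeometry Opposite

noncomputable section

namespace Groth.Agent.EtConsAb.SepClosedCd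

open Groth.Agent Groth.Agent.EtaleSite Groth.Agent.GalCohAux Groth.Agent.EtConsAb.DevFin
  Groth.Agent.GalCohAux.EtDimVanA

attribute [-instance] EtFin.instUniqueCarrierCarrierCommRingCatSpecOf_groth

/-- An integral scheme finite over a scheme of dimension at most `n` has finite dimension at most `n`. -/
theorem exists_dim {X Y : Scheme.{u}} (g : Y ⟶ X) [AlgebraicGeometry.IsIntegral Y] [IsIntegralHom g] (n : ℕ)
    (hn : topologicalKrullDim X ≤ n) : ∃ d : ℕ, topologicalKrullDim Y = d ∧ d ≤ n := by
  have hle : topologicalKrullDim Y ≤ n := le_trans (AlgSpCov.IntegralDim.topologicalKrullDim_le_of_strictMono g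
    (AlgSpCov.IntegralDim.strictMono_of_isIntegralHom g)) hn
  have hne : topologicalKrullDim Y ≠ ⊥ := by
    have hk : topologicalKrullDim Y = Order.krullDim Y :=
      (@Order.krullDim_eq_of_orderIso _ _ _ _ (irreducibleSetEquivPoints (α := Y)))
    rw [hk, Ne, Order.krullDim_eq_bot_iff]
    exact fun h => h.false (genericPoint Y)
  obtain ⟨d, hd⟩ := WithBot.ne_bot_iff_exists.1 hne
  rw [← hd] at hle ⊢
  have hle' : d ≤ (n : ℕ∞) := WithBot.coe_le_coe.1 hle
  obtain ⟨e, rfl⟩ := ENat.ne_top_iff_exists.1 (ne_top_of_le_ne_top (ENat.natCast_ne_top n) hle')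
  exact ⟨e, rfl, by exact_mod_cast hle'⟩

open Classical in
/-- The dimension, as a natural number. -/
def φd (X Y : Scheme.{u}) (_g : Y ⟶ X) : ℕ :=
  if h : ∃ d : ℕ, topologicalKrullDim Y = d then h.choose else 0

theorem φd_eq {X Y : Scheme.{u}} (g : Y ⟶ X) (d : ℕ) (hd : topologicalKrullDim Y = d) : φd X Y g = d := by
  have h : ∃ d : ℕ, topologicalKrullDim Y = d := ⟨d, hd⟩
  rw [φd, dif_pos h]
  exact_mod_cast h.choose_spec.symm.trans hd

/-- Dévissage by the dimension: it suffices to treat the constant sheaf on integral finite schemes. -/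
theorem vanishing_of_const {X : Scheme.{u}} [AlgebraicGeometry.IsNoetherian X] (n : ℕ)
    (hn : topologicalKrullDim X ≤ n) (p : ℕ) [Fact p.Prime]
    (h2 : ∀ (Y : Scheme.{u}) (g : Y ⟶ X) [AlgebraicGeometry.IsIntegral Y] [IsFinite g] (d q : ℕ),
      topologicalKrullDim Y = d → d < q → Subsingleton (EtCoh.H Y (EtCoh.const Y (ZMod p)) q))
    (F : EtCoh.Ab X) (hF : EtAcyc.IsLTorsion {p} F) (q : ℕ)
    (hq : ∀ y ∈ EtPBC.supp F, topologicalKrullDim (pc y) < (q : WithBot ℕ∞)) :
    Subsingleton (EtCoh.H X F q) := by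
  refine EtConsAb.DevFin.vanishing (φ := φd X) (ℓ := p) ?_ ?_ (𝟙 X) F hF q fun y hy => ?_
  · intro Y₁ Y₂ g₁ g₂ _ _ _ _ m hm
    obtain ⟨a, ha, -⟩ := exists_dim g₁ n hn
    obtain ⟨b, hb, -⟩ := exists_dim g₂ n hn
    rw [φd_eq g₁ a ha, φd_eq g₂ b hb]
    haveI : IsFinite (m ≫ g₂) := hm ▸ inferInstance
    haveI : IsFinite m := MorphismProperty.of_postcomp (W := @IsFinite) (W' := @IsSeparated) m g₂
      inferInstance inferInstance
    refine ⟨?_, fun hc hi => ?_⟩
    · have h := AlgSpCov.IntegralDim.topologicalKrullDim_le_of_strictMono m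
        (AlgSpCov.IntegralDim.strictMono_of_isIntegralHom m)
      rw [ha, hb] at h
      exact_mod_cast h
    · haveI := hc
      exact S3519.dim_lt m hi a b ha hb
  · intro Y g _ _ i hi
    obtain ⟨d, hd, -⟩ := exists_dim g n hn
    rw [φd_eq g d hd] at hi
    exact h2 Y g d i hd hi
  · obtain ⟨d, hd, -⟩ := exists_dim (pcι y) n hn
    show φd X (pc y) (pcι y ≫ 𝟙 X) < q
    have h := hq y hy
    rw [φd_eq (pcι y ≫ 𝟙 X) d hd]
    rw [hd] at h
    exact_mod_cast h

variable {k : Type u} [Field k] [IsSepClosed k] (p : ℕ) [Fact p.Prime] [CharP k p]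

/-- The proper case. -/
theorem proper_vanishing {X : Scheme.{u}} (f : X ⟶ Spec (CommRingCat.of k)) [IsProper f] (n : ℕ)
    (hn : topologicalKrullDim X ≤ n) (F : EtCoh.Ab X) (hF : EtAcyc.IsLTorsion {p} F) (q : ℕ)
    (hq : ∀ y ∈ EtPBC.supp F, topologicalKrullDim (pc y) < (q : WithBot ℕ∞)) :
    Subsingleton (EtCoh.H X F q) := by
  haveI : IsLocallyNoetherian X := LocallyOfFiniteType.isLocallyNoetherian f
  haveI : CompactSpace X := QuasiCompact.compactSpace_of_compactSpace f
  haveI : AlgebraicGeometry.IsNoetherian X := {}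
  exact vanishing_of_const n hn p (fun Y g _ _ d i hd hi => EtAS.Proper.subsingleton_const (g ≫ f) p d hd i hi)
    F hF q hq

omit [IsSepClosed k] in
theorem natCast_zero {X : Scheme.{u}} (f : X ⟶ Spec (CommRingCat.of k)) : (p : Γ(X, ⊤)) = 0 := by
  let a : k →+* Γ(X, ⊤) := ((Scheme.ΓSpecIso (CommRingCat.of k)).inv ≫ f.appTop).hom
  rw [← map_natCast a, CharP.cast_eq_zero, map_zero]

/-- On an affine scheme of characteristic `p`, `ℤ/p` has no cohomology above degree one. -/
theorem affine_const_vanish {P : Scheme.{u}} [IsAffine P] (h0 : (p : Γ(P, ⊤)) = 0) (b : ℕ) (hb : 2 ≤ b) :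
    Subsingleton (EtCoh.H P (EtCoh.const P (ZMod p)) b) := by
  obtain ⟨b', rfl⟩ : ∃ b', b = b' + 1 := ⟨b - 1, by omega⟩
  exact subsingleton_H_left (EtaleSite.ArtinSchreierKer.shortExact p h0) b'
    (S0109.result P b' (by omega)) (S0109.result P (b' + 1) (by omega))

/-- A point of an open subscheme has no higher direct images. -/
theorem isZero_stalk_Rpush_of_mem {Y Z : Scheme.{u}} (j : Y ⟶ Z) [IsOpenImmersion j] [QuasiCompact j]
    (F : EtCoh.Ab Y) (i : ℕ) (hi : 0 < i) (z : Z) (hz : z ∈ Set.range j) :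
    IsZero ((EtCoh.stalk (geomPointAt Z z)).obj ((EtCoh.Rpush j i).obj F)) := by
  let O := Z.presheaf.stalk z
  let R := Hens.StrictHenselization O
  haveI : IsSepClosed (IsLocalRing.ResidueField R) :=
    (inferInstance : Hensel.IsStrictHenselization O R).isSepClosure.sep_closed
  haveI : HenselianLocalRing R := (inferInstance : Hensel.IsStrictHenselization O R).henselian
  obtain ⟨e₁⟩ := EtLimit.nonempty_Rpush_stalk_iso j z R i
  have hclosed : Hens2.specOf Z z R (IsLocalRing.closedPoint R) = z := by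
    refine (Scheme.Hom.comp_apply _ _ _).trans ?_
    have h : (Spec.map (CommRingCat.ofHom (algebraMap O R))) (IsLocalRing.closedPoint R) =
        IsLocalRing.closedPoint O := by
      refine PrimeSpectrum.ext ?_
      show Ideal.comap (algebraMap O R) (IsLocalRing.maximalIdeal R) = IsLocalRing.maximalIdeal O
      exact IsLocalRing.maximalIdeal_comap _
    exact (congrArg (Z.fromSpecStalk z) h).trans Scheme.fromSpecStalk_closedPoint
  have hpt : Hens2.geomPt Z z R default = z := by
    refine (Scheme.Hom.comp_apply _ _ _).trans (Eq.trans ?_ hclosed)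
    refine congrArg (Hens2.specOf Z z R) (PrimeSpectrum.ext ?_)
    show Ideal.comap (IsLocalRing.residue R)
      (default : Spec (CommRingCat.of (IsLocalRing.ResidueField R))).asIdeal = IsLocalRing.maximalIdeal R
    rw [show (default : Spec (CommRingCat.of (IsLocalRing.ResidueField R))).asIdeal = ⊥ from
      Ideal.eq_bot_of_prime _, ← RingHom.ker_eq_comap_bot, IsLocalRing.ker_residue]
  refine ((EtConsAb.isZero_stalk_iff (Hens2.geomPt Z z R) hpt).1 ?_)
  refine IsZero.of_iso ?_ (e₁.app F)
  refine @AddCommGrpCat.isZero_of_subsingleton _ ?_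
  let s := pullback.snd j (Hens2.specOf Z z R)
  haveI : IsOpenImmersion s := inferInstance
  haveI : Surjective s := ⟨fun w => by
    rw [← Set.mem_range]
    have hc : IsLocalRing.closedPoint R ∈ Set.range s := by
      rw [IsOpenImmersion.range_pullbackSnd]
      show Hens2.specOf Z z R (IsLocalRing.closedPoint R) ∈ Set.range j
      rw [hclosed]
      exact hz
    exact ((IsLocalRing.specializes_closedPoint w).mem_open s.isOpenEmbedding.isOpen_range hc)⟩
  haveI : IsIso s := (isIso_iff_isOpenImmersion_and_epi_base s).2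
    ⟨inferInstance, (TopCat.epi_iff_surjective _).2 s.surjective⟩
  haveI : PreservesFiniteLimits (EtCoh.pull s) := EtaleSite.preservesFiniteLimits_pull _
  haveI := EtaleSite.subsingleton_H R
    ((EtCoh.push s).obj ((EtCoh.pull (pullback.fst j (Hens2.specOf Z z R))).obj F)) i hi
  exact (Equiv.ofBijective _ (S14451.result s _ (fun m hm => S3054.result s _ m hm) i)).subsingleton_congr.1
    inferInstance

/-- The higher direct images of `ℤ/p` under an affine morphism vanish from degree two on. -/
theorem isZero_Rpush_affine {Y Z : Scheme.{u}} (j : Y ⟶ Z) [IsAffineHom j] (h0 : (p : Γ(Y, ⊤)) = 0) (i : ℕ)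
    (hi : 2 ≤ i) : IsZero ((EtCoh.Rpush j i).obj (EtCoh.const Y (ZMod p))) := by
  refine isZero_of_supp_empty (Set.eq_empty_iff_forall_notMem.2 fun z hz => (mem_supp z).1 hz ?_)
  let O := Z.presheaf.stalk z
  let R := Hens.StrictHenselization O
  haveI : IsSepClosed (IsLocalRing.ResidueField R) :=
    (inferInstance : Hensel.IsStrictHenselization O R).isSepClosure.sep_closed
  haveI : HenselianLocalRing R := (inferInstance : Hensel.IsStrictHenselization O R).henselian
  obtain ⟨e₁⟩ := EtLimit.nonempty_Rpush_stalk_iso j z R i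
  have hpt : Hens2.geomPt Z z R default = z := by
    refine (Scheme.Hom.comp_apply _ _ _).trans ((Scheme.Hom.comp_apply _ _ _).trans ?_)
    have hclosed : (Spec.map (CommRingCat.ofHom (algebraMap O R)))
        ((Spec.map (CommRingCat.ofHom (IsLocalRing.residue R))) default) = IsLocalRing.closedPoint O := by
      refine PrimeSpectrum.ext ?_
      show Ideal.comap (algebraMap O R) (Ideal.comap (IsLocalRing.residue R)
        (default : Spec (CommRingCat.of (IsLocalRing.ResidueField R))).asIdeal) = IsLocalRing.maximalIdeal O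
      rw [show (default : Spec (CommRingCat.of (IsLocalRing.ResidueField R))).asIdeal = ⊥ from
        Ideal.eq_bot_of_prime _, ← RingHom.ker_eq_comap_bot, IsLocalRing.ker_residue,
        IsLocalRing.maximalIdeal_comap]
    exact (congrArg (Z.fromSpecStalk z) hclosed).trans Scheme.fromSpecStalk_closedPoint
  refine ((EtConsAb.isZero_stalk_iff (Hens2.geomPt Z z R) hpt).1 ?_)
  refine IsZero.of_iso ?_ (e₁.app (EtCoh.const Y (ZMod p)))
  refine @AddCommGrpCat.isZero_of_subsingleton _ ?_
  let g := pullback.fst j (Hens2.specOf Z z R)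
  let s := pullback.snd j (Hens2.specOf Z z R)
  haveI : IsAffine (pullback j (Hens2.specOf Z z R)) := isAffine_of_isAffineHom s
  have h0P : (p : Γ(pullback j (Hens2.specOf Z z R), ⊤)) = 0 := by
    rw [← map_natCast g.appTop.hom, h0, map_zero]
  exact subsingleton_H_of_iso ((EtCore.pullConstIso g).app _).symm i (affine_const_vanish p h0P i hi)

/-- The main vanishing: `H^q(Y, ℤ/p) = 0` above the dimension, for `Y` integral, separated and of finite
type over a separably closed field. -/
theorem const_vanish {Y : Scheme.{u}} [AlgebraicGeometry.IsIntegral Y] (f : Y ⟶ Spec (CommRingCat.of k))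
    [IsSeparated f] [LocallyOfFiniteType f] [QuasiCompact f] (d : ℕ) (hd : topologicalKrullDim Y = d) (q : ℕ)
    (hq : d < q) : Subsingleton (EtCoh.H Y (EtCoh.const Y (ZMod p)) q) := by
  haveI : IsLocallyNoetherian Y := LocallyOfFiniteType.isLocallyNoetherian f
  haveI : CompactSpace Y := QuasiCompact.compactSpace_of_compactSpace f
  haveI : AlgebraicGeometry.IsNoetherian Y := {}
  have h0 : (p : Γ(Y, ⊤)) = 0 := natCast_zero p f
  by_cases hq2 : d + 1 < q
  · exact S3519.const_vanish p Y h0 d hd.le q hq2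
  obtain rfl : q = d + 1 := by omega
  -- a compactification with affine boundary
  obtain ⟨Z, j, π, E, hj, hjqc, hjd, hπ, hjπ, hE, hEs⟩ := Nagata.exists_compactification_boundary f
  haveI := IsSchemeTheoreticallyDominant.isReduced j
  haveI : IsDominant j := inferInstance
  haveI : IrreducibleSpace Z := {
    toPreirreducibleSpace := ⟨by
      have h := ((IrreducibleSpace.isIrreducible_univ Y).image j j.continuous.continuousOn).closure
      rw [Set.image_univ, j.denseRange.closure_range] at h
      exact h.2⟩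
    toNonempty := ⟨j (genericPoint Y)⟩ }
  haveI : AlgebraicGeometry.IsIntegral Z := isIntegral_of_irreducibleSpace_of_isReduced Z
  haveI : IsLocallyNoetherian Z := LocallyOfFiniteType.isLocallyNoetherian π
  haveI : CompactSpace Z := QuasiCompact.compactSpace_of_compactSpace π
  haveI : AlgebraicGeometry.IsNoetherian Z := {}
  have hrange : j.opensRange = E.support.compl := TopologicalSpace.Opens.ext (by
    show Set.range j = (E.support : Set Z)ᶜ
    rw [hEs, compl_compl])
  haveI : IsAffineHom j := by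
    rw [← j.isoOpensRange_hom_ι]
    haveI : IsAffineHom j.opensRange.ι := by
      rw [hrange]
      exact (S1571.result Z E hE).1
    infer_instance
  have hdimZ : topologicalKrullDim Z = d := by
    letI : Z.Over (Spec (CommRingCat.of k)) := ⟨π⟩
    haveI : LocallyOfFiniteType (Z ↘ Spec (CommRingCat.of k)) := inferInstanceAs (LocallyOfFiniteType π)
    rw [← S1618.result k Z j.opensRange ⟨j (genericPoint Y), genericPoint Y, rfl⟩, ← hd]
    exact (IsHomeomorph.topologicalKrullDim_eq _
      (j.isOpenEmbedding.toIsEmbedding.toHomeomorph).isHomeomorph).symm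
  rcases Nat.eq_zero_or_pos d with rfl | hd0
  · -- dimension zero: `j` is surjective
    haveI : Surjective j := ⟨fun z => by
      by_contra hz
      obtain ⟨b, hb, -⟩ := exists_dim (pcι z) 0 hdimZ.le
      have hni : ¬ IsIso (pcι z) := fun h => hz (by
        have h1 : j (genericPoint Y) ∈ closure ({z} : Set Z) := by
          rw [← range_pcι z, Set.range_eq_univ.2 (pcι z).surjective]
          trivial
        exact (specializes_iff_mem_closure.2 h1).mem_open j.isOpenEmbedding.isOpen_range ⟨_, rfl⟩)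
      exact Nat.not_lt_zero _ (S3519.dim_lt (pcι z) hni b 0 hb hdimZ)⟩
    haveI : IsIso j := (isIso_iff_isOpenImmersion_and_epi_base j).2
      ⟨inferInstance, (TopCat.epi_iff_surjective _).2 j.surjective⟩
    haveI : IsProper f := hjπ ▸ inferInstance
    exact EtAS.Proper.subsingleton_const f p 0 hd 1 le_rfl
  -- positive dimension
  let M := EtCoh.const Y (ZMod p)
  have hM : EtAcyc.IsLTorsion {p} M := lTorsion_const Y
  let S : ShortComplex (EtCoh.Ab Y) :=
    ShortComplex.mk (Injective.ι M) (cokernel.π (Injective.ι M)) (cokernel.condition _)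
  have hS : S.ShortExact := { exact := ShortComplex.exact_of_g_is_cokernel _ (cokernelIsCokernel _) }
  haveI hI : Injective S.X₂ := (inferInstance : Injective (Injective.under M))
  haveI : PreservesFiniteLimits (EtCoh.push j) := inferInstance
  let l := Groth.Agent.RDerLES.derivedLES (EtCoh.push j)
  have hIz : ∀ m, IsZero ((EtCoh.Rpush j (m + 1)).obj S.X₂) := fun m =>
    Functor.isZero_rightDerived_obj_injective_succ (EtCoh.push j) m S.X₂
  have hRQ : ∀ i, 0 < i → IsZero ((EtCoh.Rpush j i).obj S.X₃) := fun i hi => by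
    obtain ⟨i', rfl⟩ : ∃ i', i = i' + 1 := ⟨i - 1, by omega⟩
    haveI : Mono (l.δ S hS (i' + 1) (i' + 2) rfl) :=
      (l.exact₃ S hS (i' + 1) (i' + 2) rfl).mono_g ((hIz i').eq_of_src _ _)
    exact IsZero.of_mono (l.δ S hS (i' + 1) (i' + 2) rfl) (isZero_Rpush_affine p j h0 (i' + 2) (by omega))
  -- the cokernel of `j_* I ⟶ j_* Q`
  let fg := (EtCoh.push j).map S.g
  let δ1 : (EtCoh.push j).obj S.X₃ ⟶ (EtCoh.Rpush j 1).obj M :=
    (EtCoh.push j).rightDerivedZeroIsoSelf.inv.app S.X₃ ≫ l.δ S hS 0 1 rfl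
  have hc : fg ≫ δ1 = 0 := by
    simp only [fg, δ1, ← Category.assoc, (EtCoh.push j).rightDerivedZeroIsoSelf.inv.naturality]
    rw [Category.assoc, l.comp_δ, comp_zero]
  let C : ShortComplex (EtCoh.Ab Z) := ShortComplex.mk fg δ1 hc
  have hC : C.Exact :=
    (ShortComplex.exact_iff_of_iso (ShortComplex.isoMk
      ((EtCoh.push j).rightDerivedZeroIsoSelf.app S.X₂)
      ((EtCoh.push j).rightDerivedZeroIsoSelf.app S.X₃) (Iso.refl _)
      ((EtCoh.push j).rightDerivedZeroIsoSelf.hom.naturality S.g).symm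
      (by simp [C, δ1]) :
      ShortComplex.mk _ _ (l.comp_δ S hS 0 1 rfl) ≅ C)).1 (l.exact₃ S hS 0 1 rfl)
  haveI : Epi (l.δ S hS 0 1 rfl) := (l.exact₁ S hS 0 1 rfl).epi_f ((hIz 0).eq_of_tgt _ _)
  haveI : Epi C.g := (inferInstance : Epi (_ ≫ l.δ S hS 0 1 rfl))
  have eC : cokernel fg ≅ (EtCoh.Rpush j 1).obj M :=
    (cokernelIsCokernel fg).coconePointUniqueUpToIso hC.gIsCokernel
  let T₂ : ShortComplex (EtCoh.Ab Z) := ShortComplex.mk (Abelian.image.ι fg) (cokernel.π fg) (kernel.condition _)
  have hT₂ : T₂.ShortExact :=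
    { exact := ShortComplex.exact_of_f_is_kernel _ (kernelIsKernel (cokernel.π fg)) }
  let fac : (EtCoh.push j).obj S.X₂ ⟶ Abelian.image fg := Abelian.factorThruImage fg
  haveI hm : Mono ((EtCoh.push j).map S.f) := inferInstance
  have hkill : (EtCoh.push j).map S.f ≫ fac = 0 := by
    rw [← cancel_mono (Abelian.image.ι fg), Category.assoc, zero_comp]
    show _ ≫ Abelian.factorThruImage fg ≫ _ = 0
    rw [Abelian.image.fac, ← Functor.map_comp, S.zero, Functor.map_zero]
  let T₁ : ShortComplex (EtCoh.Ab Z) := ShortComplex.mk ((EtCoh.push j).map S.f) fac hkill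
  have hmapE : (S.map (EtCoh.push j)).Exact :=
    hS.exact.map_of_mono_of_preservesKernel (EtCoh.push j) hS.mono_f inferInstance
  haveI : Mono (S.map (EtCoh.push j)).f := hm
  have hT₁ : T₁.ShortExact :=
    { exact := ShortComplex.exact_of_f_is_kernel _
        (Limits.isKernelOfComp (f := fac) (Abelian.image.ι fg) ((EtCoh.push j).map S.g) hmapE.fIsKernel hkill
          (Abelian.image.fac fg))
      mono_f := hm }
  haveI : Injective ((EtCoh.push j).obj S.X₂) := EtSupp.injective_push j S.X₂
  -- the two vanishings on the compactification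
  have hpush : Subsingleton (EtCoh.H Z ((EtCoh.push j).obj M) (d + 1)) :=
    proper_vanishing p π d hdimZ.le _ ((EtDimVanD.torsionClass {p}).push j hM) (d + 1) fun z _ => by
      obtain ⟨b, hb, hbd⟩ := exists_dim (pcι z) d hdimZ.le
      rw [hb]
      exact_mod_cast Nat.lt_succ_of_le hbd
  have hR1 : Subsingleton (EtCoh.H Z ((EtCoh.Rpush j 1).obj M) d) := by
    refine proper_vanishing p π d hdimZ.le _ ((EtDimVanD.torsionClass {p}).Rpush j 1 hM) d fun z hz => ?_
    obtain ⟨b, hb, -⟩ := exists_dim (pcι z) d hdimZ.le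
    rw [hb]
    have hni : ¬ IsIso (pcι z) := fun h => by
      have h1 : j (genericPoint Y) ∈ closure ({z} : Set Z) := by
        rw [← range_pcι z, Set.range_eq_univ.2 (pcι z).surjective]
        trivial
      exact (mem_supp z).1 hz (isZero_stalk_Rpush_of_mem j M 1 one_pos z
        ((specializes_iff_mem_closure.2 h1).mem_open j.isOpenEmbedding.isOpen_range ⟨_, rfl⟩))
    exact_mod_cast S3519.dim_lt (pcι z) hni b d hb hdimZ
  obtain ⟨e, rfl⟩ : ∃ e, d = e + 1 := ⟨d - 1, by omega⟩
  have hinj : ∀ {W : Scheme.{u}} (J : EtCoh.Ab W) [Injective J] (i : ℕ), Subsingleton (EtCoh.H W J (i + 1)) :=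
    fun J _ i => subsingleton_of_forall_eq 0 fun x => EtCdTr.H_eq_zero_of_injective J x
  have hW : Subsingleton (EtCoh.H Z (Abelian.image fg) (e + 1)) :=
    subsingleton_H_right hT₁ (e + 1) (hinj _ e) hpush
  have hQZ : Subsingleton (EtCoh.H Z ((EtCoh.push j).obj S.X₃) (e + 1)) :=
    subsingleton_H_mid hT₂ (e + 1) hW (subsingleton_H_of_iso eC.symm _ hR1)
  have hQY : Subsingleton (EtCoh.H Y S.X₃ (e + 1)) :=
    (Equiv.ofBijective _ (S14451.result j S.X₃ hRQ (e + 1))).subsingleton_congr.1 hQZ
  exact subsingleton_H_left hS (e + 1) hQY (hinj _ (e + 1))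

/-- `cd_p ≤ dim` for separated schemes of finite type over a separably closed field. -/
theorem cd_le {X : Scheme.{u}} (f : X ⟶ Spec (CommRingCat.of k)) [IsSeparated f] [LocallyOfFiniteType f]
    [QuasiCompact f] (n : ℕ) (hn : topologicalKrullDim X ≤ n) (F : EtCoh.Ab X) (hF : EtAcyc.IsLTorsion {p} F)
    (q : ℕ) (hq : n < q) : Subsingleton (EtCoh.H X F q) := by
  haveI : IsLocallyNoetherian X := LocallyOfFiniteType.isLocallyNoetherian f
  haveI : CompactSpace X := QuasiCompact.compactSpace_of_compactSpace f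
  haveI : AlgebraicGeometry.IsNoetherian X := {}
  refine vanishing_of_const n hn p (fun Y g _ _ d i hd hi => const_vanish p (g ≫ f) d hd i hi) F hF q fun y _ => ?_
  obtain ⟨b, hb, hbn⟩ := exists_dim (pcι y) n hn
  rw [hb]
  exact_mod_cast lt_of_le_of_lt hbn hq

end Groth.Agent.EtConsAb.SepClosedCd
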