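import Groth.Agent.EtConsAb.SubFLC
import Groth.Agent.EtConsAb.Supp
import Groth.Agent.EtConsAb.ConstMod
import Groth.Agent.EtModWLib.Special

/-!
# Specialisation maps

Existence of morphisms of points attached to generisations, and the criteria for finite local constancy
and constructibility in terms of them.
-/

set_option linter.style.haveILetI false

universe u

open CategoryTheory CategoryTheory.Limits AlgebraicGeometry Opposite Topology

noncomputable section

namespace Groth.Agent.EtConsAb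

open Groth.Agent Groth.Agent.EtaleSite

variable {X : Scheme.{u}}

section PointHom

variable {Ω Ω' : Type u} [Field Ω] [IsSepClosed Ω] [Field Ω'] [IsSepClosed Ω']
  (ξ : Spec (CommRingCat.of Ω) ⟶ X) (ξ' : Spec (CommRingCat.of Ω') ⟶ X)

theorem finite_fiber_of_affine_into (W : X.Opens) (hW : IsAffineOpen W) (V : X.Etale) [IsAffine V.left]
    (hV : Set.range V.hom ⊆ (W : Set X)) : Finite ((Scheme.pointSmallEtale ξ').fiber.obj V) := by
  rcases isEmpty_or_nonempty ((Scheme.pointSmallEtale ξ').fiber.obj V) with h | ⟨⟨φ₀⟩⟩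
  · infer_instance
  haveI : IsAffine W.toScheme := hW
  haveI : Etale V.hom := V.prop
  have hWι : Set.range W.ι = (W : Set X) := W.range_ι
  let l := IsOpenImmersion.lift W.ι V.hom (by rw [hWι]; exact hV)
  have hl : l ≫ W.ι = V.hom := IsOpenImmersion.lift_fac _ _ _
  haveI : Etale (l ≫ W.ι) := by rw [hl]; infer_instance
  haveI : Etale l := Etale.of_comp l W.ι
  let V' : W.toScheme.Etale := Scheme.Etale.mk l
  haveI : IsAffine V'.left := ‹IsAffine V.left›
  let φl : Spec (CommRingCat.of Ω') ⟶ V.left := φ₀.left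
  let η := φl ≫ l
  have hη : η ≫ W.ι = ξ' := (Category.assoc _ _ _).trans ((congrArg (φl ≫ ·) hl).trans (Over.w φ₀))
  haveI := EtModWLib.finite_fiber_of_isAffine V' η
  refine Finite.of_injective (β := (Scheme.pointSmallEtale η).fiber.obj V')
    (fun φ => (Over.homMk φ.left ((cancel_mono W.ι).1
      ((Category.assoc _ _ _).trans ((congrArg (φ.left ≫ ·) hl).trans ((Over.w φ).trans hη.symm)))) :
        Over.mk η ⟶ (Scheme.Etale.forget W.toScheme).obj V')) fun a b h => ?_
  exact Over.OverMorphism.ext (congrArg (fun k => k.left) h)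

/-- For a generisation of a point of an étale neighbourhood there is a morphism of points carrying
the point to it. -/
theorem exists_pointHom (U : X.Etale) (φU : (Scheme.pointSmallEtale ξ).fiber.obj U) (y : U.left)
    (hy : y ⤳ φU.left (default : Spec (CommRingCat.of Ω))) (hy' : U.hom y = ξ' default) :
    ∃ f : Scheme.pointSmallEtale ξ' ⟶ Scheme.pointSmallEtale ξ,
      (f.hom.app U φU).left (default : Spec (CommRingCat.of Ω')) = y := by
  classical
  let Φ := Scheme.pointSmallEtale ξ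
  let Ψ := Scheme.pointSmallEtale ξ'
  let e₀ : Φ.fiber.Elements := Φ.fiber.elementsMk U φU
  obtain ⟨W, hW, hxW, -⟩ := exists_isAffineOpen_mem_and_subset
    (show ξ default ∈ (⊤ : X.Opens) from trivial)
  let P : ObjectProperty (Over e₀) := fun e => IsAffine e.left.1.left ∧ Set.range e.left.1.hom ⊆ (W : Set X)
  have hcof : ∀ d : Over e₀, ∃ c : P.FullSubcategory, Nonempty (c.obj ⟶ d) := by
    intro d
    let V := d.left.1
    let φ : Φ.fiber.obj V := d.left.2
    haveI : Etale V.hom := V.prop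
    have hV : φ.left (default : Spec (CommRingCat.of Ω)) ∈ (V.hom ⁻¹ᵁ W : V.left.Opens) := by
      show V.hom (φ.left (default : Spec (CommRingCat.of Ω))) ∈ W
      have h : V.hom (φ.left (default : Spec (CommRingCat.of Ω))) = ξ default :=
        congrArg (fun k : Spec (CommRingCat.of Ω) ⟶ X => k default) (Over.w φ)
      rw [h]
      exact hxW
    obtain ⟨O, hO, hφO, hOW⟩ := exists_isAffineOpen_mem_and_subset hV
    obtain ⟨ψ, hψ⟩ := exists_fiber_lift (pieceHom V O) φ ⟨_, hφO⟩ rfl
    let m : Φ.fiber.elementsMk (piece V O) ψ ⟶ d.left := CategoryOfElements.homMk _ _ (pieceHom V O) hψ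
    refine ⟨⟨Over.mk (m ≫ d.hom), hO, ?_⟩, ⟨Over.homMk m rfl⟩⟩
    rintro _ ⟨v, rfl⟩
    show V.hom ((pieceHom V O).left v) ∈ W
    exact hOW v.2
  haveI : IsCofiltered (Over e₀) := IsCofiltered.over e₀
  haveI : IsCofiltered P.FullSubcategory :=
    IsCofiltered.of_exists_of_isCofiltered_of_fullyFaithful P.ι hcof
  let G : P.FullSubcategory ⥤ Type u :=
    { obj := fun e => {z : Ψ.fiber.obj e.obj.left.1 //
        z.left (default : Spec (CommRingCat.of Ω')) ⤳ e.obj.left.2.left (default : Spec (CommRingCat.of Ω)) ∧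
          e.obj.hom.1.left (z.left (default : Spec (CommRingCat.of Ω'))) = y}
      map := fun {e e'} a => ↾fun z => ⟨Ψ.fiber.map a.hom.left.1 z.1, by
        refine ⟨?_, ?_⟩
        · have h := congrArg (fun k => k.left (default : Spec (CommRingCat.of Ω))) a.hom.left.2
          rw [← h]
          exact z.2.1.map a.hom.left.1.left.continuous
        · have h := congrArg (fun k => k.1.left (z.1.left (default : Spec (CommRingCat.of Ω'))))
            (Over.w a.hom)
          exact h.trans z.2.2⟩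
      map_id := fun e => by
        ext z
        exact congrArg (fun k => k z.1) (Ψ.fiber.map_id _)
      map_comp := fun a b => by
        ext z
        exact congrArg (fun k => k z.1) (Ψ.fiber.map_comp _ _) }
  haveI : ∀ e, Finite (G.obj e) := fun e => by
    haveI := e.property.1
    haveI := finite_fiber_of_affine_into ξ' W hW e.obj.left.1 e.property.2
    exact Finite.of_injective Subtype.val Subtype.val_injective
  haveI : ∀ e, Nonempty (G.obj e) := fun e => by
    let g := e.obj.hom.1.left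
    haveI : Etale g := etale_left e.obj.hom.1
    have he : g (e.obj.left.2.left (default : Spec (CommRingCat.of Ω))) =
        φU.left (default : Spec (CommRingCat.of Ω)) :=
      congrArg (fun k => k.left (default : Spec (CommRingCat.of Ω))) e.obj.hom.2
    obtain ⟨z, hz, hgz⟩ := Flat.generalizingMap g (show y ⤳ g _ from he.symm ▸ hy)
    obtain ⟨ψ, hψ⟩ := exists_fiber_point ξ' e.obj.left.1 z (by
      rw [← hy', ← hgz, ← Scheme.Hom.comp_apply]
      exact (congrArg (fun k : e.obj.left.1.left ⟶ X => k z) (MorphismProperty.Over.w e.obj.hom.1)).symm)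
    exact ⟨⟨ψ, hψ.symm ▸ hz, hψ.symm ▸ hgz⟩⟩
  obtain ⟨w, hw⟩ := nonempty_sections_of_finite_cofiltered_system G
  have hchoice : ∀ (V : X.Etale) (v : Φ.fiber.obj V), ∃ (e : P.FullSubcategory) (g : e.obj.left.1 ⟶ V),
      Φ.fiber.map g e.obj.left.2 = v := fun V v => by
    let c := IsCofiltered.min (Φ.fiber.elementsMk V v) e₀
    obtain ⟨e, ⟨m⟩⟩ := hcof (Over.mk (IsCofiltered.minToRight (Φ.fiber.elementsMk V v) e₀))
    exact ⟨e, (m.left ≫ IsCofiltered.minToLeft (Φ.fiber.elementsMk V v) e₀).1,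
      (m.left ≫ IsCofiltered.minToLeft (Φ.fiber.elementsMk V v) e₀).2⟩
  have hindep : ∀ (V : X.Etale) (v : Φ.fiber.obj V) (e₁ e₂ : P.FullSubcategory)
      (g₁ : e₁.obj.left.1 ⟶ V) (g₂ : e₂.obj.left.1 ⟶ V),
      Φ.fiber.map g₁ e₁.obj.left.2 = v → Φ.fiber.map g₂ e₂.obj.left.2 = v →
        Ψ.fiber.map g₁ (w e₁).1 = Ψ.fiber.map g₂ (w e₂).1 := by
    intro V v e₁ e₂ g₁ g₂ h₁ h₂
    let a := IsCofiltered.minToLeft e₁ e₂
    let b := IsCofiltered.minToRight e₁ e₂
    let d := IsCofiltered.min e₁ e₂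
    let G₁ : d.obj.left ⟶ Φ.fiber.elementsMk V v := a.hom.left ≫ CategoryOfElements.homMk _ _ g₁ h₁
    let G₂ : d.obj.left ⟶ Φ.fiber.elementsMk V v := b.hom.left ≫ CategoryOfElements.homMk _ _ g₂ h₂
    obtain ⟨e₃, ⟨m⟩⟩ := hcof (Over.mk (IsCofiltered.eqHom G₁ G₂ ≫ d.obj.hom))
    let r : e₃ ⟶ d := ObjectProperty.homMk (Over.homMk (m.left ≫ IsCofiltered.eqHom G₁ G₂)
      ((Category.assoc _ _ _).trans (Over.w m)))
    have hr : r.hom.left ≫ G₁ = r.hom.left ≫ G₂ := by
      show (m.left ≫ IsCofiltered.eqHom G₁ G₂) ≫ G₁ = (m.left ≫ IsCofiltered.eqHom G₁ G₂) ≫ G₂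
      rw [Category.assoc, IsCofiltered.eq_condition, Category.assoc]
    have hga := congrArg Subtype.val (hw (r ≫ a))
    have hgb := congrArg Subtype.val (hw (r ≫ b))
    rw [← hga, ← hgb]
    show Ψ.fiber.map g₁ (Ψ.fiber.map (r ≫ a).hom.left.1 (w e₃).1) =
      Ψ.fiber.map g₂ (Ψ.fiber.map (r ≫ b).hom.left.1 (w e₃).1)
    rw [← fiber_map_comp, ← fiber_map_comp]
    have hr' : (r ≫ a).hom.left.1 ≫ g₁ = (r ≫ b).hom.left.1 ≫ g₂ := by
      have h := congrArg Subtype.val hr
      rw [ObjectProperty.FullSubcategory.comp_hom, ObjectProperty.FullSubcategory.comp_hom, Over.comp_left,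
        Over.comp_left]
      simp only [G₁, G₂, CategoryOfElements.comp_val, CategoryOfElements.homMk_coe, Category.assoc] at h ⊢
      exact h
    rw [hr']
  choose E g hg using hchoice
  let app : Φ.fiber ⟶ Ψ.fiber :=
    { app := fun V => ↾fun v => Ψ.fiber.map (g V v) (w (E V v)).1
      naturality := fun V V' k => by
        ext v
        show Ψ.fiber.map (g V' (Φ.fiber.map k v)) (w _).1 = Ψ.fiber.map k (Ψ.fiber.map (g V v) (w (E V v)).1)
        rw [← fiber_map_comp]
        exact hindep V' _ _ _ _ _ (hg V' _) (by rw [fiber_map_comp, hg]) }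
  refine ⟨⟨app⟩, ?_⟩
  exact (congrArg (fun k => k.left (default : Spec (CommRingCat.of Ω')))
    (hindep U φU (E U φU) (E U φU) (g U φU) (E U φU).obj.hom.1 (hg U φU) (E U φU).obj.hom.2)).trans
      (w (E U φU)).2.2

theorem sheafFiber_germ (f : Scheme.pointSmallEtale ξ' ⟶ Scheme.pointSmallEtale ξ) (F : EtCoh.Ab X)
    (V : X.Etale) (v : (Scheme.pointSmallEtale ξ).fiber.obj V) (s : F.obj.obj (op V)) :
    (GrothendieckTopology.Point.Hom.sheafFiber (A := AddCommGrpCat.{u + 1}) f).app F (germ ξ F V v s) =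
      germ ξ' F V (f.hom.app V v) s :=
  ConcreteCategory.congr_hom ((Scheme.pointSmallEtale ξ).toPresheafFiber_presheafFiberDesc _ _ V v) s

end PointHom

/-- A morphism of points carries the point to a generisation. -/
theorem specializes_of_pointHom {Ω Ω' : Type u} [Field Ω] [IsSepClosed Ω] [Field Ω'] [IsSepClosed Ω']
    {ξ : Spec (CommRingCat.of Ω) ⟶ X} {ξ' : Spec (CommRingCat.of Ω') ⟶ X}
    (f : Scheme.pointSmallEtale ξ' ⟶ Scheme.pointSmallEtale ξ) {U : X.Etale}
    (φ : (Scheme.pointSmallEtale ξ).fiber.obj U) :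
    (f.hom.app U φ).left (default : Spec (CommRingCat.of Ω')) ⤳ φ.left (default : Spec (CommRingCat.of Ω)) := by
  rw [specializes_iff_forall_open]
  intro O hO hφO
  obtain ⟨ψ, hψ⟩ := exists_fiber_lift (pieceHom U ⟨O, hO⟩) φ ⟨_, hφO⟩ rfl
  rw [← hψ, NatTrans.naturality_apply]
  exact (((f.hom.app _ ψ).left) (default : Spec (CommRingCat.of Ω'))).2

/-- The points of an étale neighbourhood at which a family of sections gives the stalk. -/
def goodSet (F : EtCoh.Ab X) (U : X.Etale) {M : Type (u + 1)} [AddCommGroup M]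
    (m : M →+ F.obj.obj (op U)) : Set U.left :=
  {y | ∀ (Ω : Type u) [Field Ω] [IsSepClosed Ω] (ξ : Spec (CommRingCat.of Ω) ⟶ X)
    (φ : (Scheme.pointSmallEtale ξ).fiber.obj U), φ.left (default : Spec (CommRingCat.of Ω)) = y →
      Function.Bijective fun x => germ ξ F U φ (m x)}

/-- The points at which the family is injective on germs. -/
def injSet (F : EtCoh.Ab X) (U : X.Etale) {M : Type (u + 1)} [AddCommGroup M]
    (m : M →+ F.obj.obj (op U)) : Set U.left :=
  {y | ∀ (Ω : Type u) [Field Ω] [IsSepClosed Ω] (ξ : Spec (CommRingCat.of Ω) ⟶ X)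
    (φ : (Scheme.pointSmallEtale ξ).fiber.obj U), φ.left (default : Spec (CommRingCat.of Ω)) = y →
      Function.Injective fun x => germ ξ F U φ (m x)}

/-- The map from the constant sheaf on `U` given by a family of sections. -/
theorem exists_sectMap (F : EtCoh.Ab X) (U : X.Etale) {M : Type (u + 1)} [AddCommGroup M]
    (m : M →+ F.obj.obj (op U)) :
    ∃ a : constAb M U.left ⟶ (EtCoh.pull U.hom).obj F,
      ∀ (Ω : Type u) [Field Ω] [IsSepClosed Ω] (ξ : Spec (CommRingCat.of Ω) ⟶ X)
        (φ : (Scheme.pointSmallEtale ξ).fiber.obj U),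
        (Function.Injective (fun x => germ ξ F U φ (m x)) ↔
          φ.left (default : Spec (CommRingCat.of Ω)) ∉ EtPBC.supp (kernel a)) ∧
        (Function.Surjective (fun x => germ ξ F U φ (m x)) ↔
          φ.left (default : Spec (CommRingCat.of Ω)) ∉ EtPBC.supp (cokernel a)) := by
  let S := U.left
  let T := EtCoh.top S
  let F' := (EtCoh.pull U.hom).obj F
  let δ : T ⟶ (EtCoh.bc U.hom).obj U :=
    MorphismProperty.Over.homMk (pullback.lift (𝟙 S) (𝟙 S) rfl) (pullback.lift_snd _ _ _) trivial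
  let hT : IsTerminal T := MorphismProperty.Over.mkIdTerminal _ _
  let m' : M →+ F'.obj.obj (op T) := (F'.obj.map δ.op).hom.comp ((pullSect U.hom F U).comp m)
  let pre : (Functor.const S.Etaleᵒᵖ).obj (AddCommGrpCat.of M) ⟶ F'.obj :=
    { app := fun V => AddCommGrpCat.ofHom ((F'.obj.map (hT.from V.unop).op).hom.comp m')
      naturality := fun V V' k => by
        ext x
        show F'.obj.map (hT.from V'.unop).op (m' x) = F'.obj.map k (F'.obj.map (hT.from V.unop).op (m' x))
        rw [← ConcreteCategory.comp_apply, ← Functor.map_comp]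
        exact congrArg (fun k => F'.obj.map k (m' x)) (Quiver.Hom.unop_inj (hT.hom_ext _ _)) }
  let a : constAb M S ⟶ F' := ⟨sheafifyLift S.smallEtaleTopology pre F'.property⟩
  suffices key : ∀ (Ω : Type u) [Field Ω] [IsSepClosed Ω] (l : Spec (CommRingCat.of Ω) ⟶ S)
      (ξ : Spec (CommRingCat.of Ω) ⟶ X) (φ : (Scheme.pointSmallEtale ξ).fiber.obj U),
      φ.left = l → l ≫ U.hom = ξ →
      (Function.Injective (fun x => germ ξ F U φ (m x)) ↔
        l (default : Spec (CommRingCat.of Ω)) ∉ EtPBC.supp (kernel a)) ∧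
      (Function.Surjective (fun x => germ ξ F U φ (m x)) ↔
        l (default : Spec (CommRingCat.of Ω)) ∉ EtPBC.supp (cokernel a)) from
    ⟨a, fun Ω _ _ ξ φ => key Ω φ.left ξ φ rfl (Over.w φ)⟩
  intro Ω _ _ l ξ φ hl hξ
  subst hξ
  let ψ : (Scheme.pointSmallEtale l).fiber.obj T :=
    (Over.homMk l (Category.comp_id _) : Over.mk l ⟶ (Scheme.Etale.forget S).obj T)
  have hψ : (Scheme.pointSmallEtale l).fiber.map δ ψ = fiberBcEquiv U.hom l U φ := by
    refine Over.OverMorphism.ext (pullback.hom_ext ?_ ?_)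
    · refine Eq.trans ?_ ((pullback.lift_fst _ _ _).trans hl).symm
      exact (Category.assoc _ _ _).trans ((congrArg (l ≫ ·) (pullback.lift_fst _ _ _)).trans (Category.comp_id _))
    · refine Eq.trans ?_ (pullback.lift_snd _ _ _).symm
      exact (Category.assoc _ _ _).trans ((congrArg (l ≫ ·) (pullback.lift_snd _ _ _)).trans (Category.comp_id _))
  have hcomp : (fun x => (EtCoh.stalk l).map a (germ l (constAb M S) T ψ (constSect M T x))) =
      (stalkPullIso U.hom l).inv.app F ∘ fun x => germ (l ≫ U.hom) F U φ (m x) := by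
    funext x
    rw [germ_naturality]
    have h1 : a.hom.app (op T) (constSect M T x) = m' x := by
      refine (congrArg (fun k => k.app (op T) x) (toSheafify_sheafifyLift S.smallEtaleTopology pre F'.property)).trans ?_
      show F'.obj.map (hT.from T).op (m' x) = m' x
      rw [hT.hom_ext (hT.from T) (𝟙 T), op_id, CategoryTheory.Functor.map_id]
      rfl
    rw [h1]
    refine (germ_res l F' δ ψ _).trans ?_
    rw [hψ]
    exact germ_pullSect U.hom l F U φ (m x)
  have hb := isTriv_constSect M T Ω l ψ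
  have hi : Function.Bijective ((stalkPullIso U.hom l).inv.app F) :=
    ConcreteCategory.bijective_of_isIso _
  let L := EtCoh.stalk l
  constructor
  · rw [← Function.Injective.of_comp_iff hi.1, ← hcomp, mem_supp_iff, not_not]
    refine (Function.Injective.of_comp_iff' (L.map a) hb).trans ⟨fun h => ?_, fun h => ?_⟩
    · haveI : Mono (L.map a) := (AddCommGrpCat.mono_iff_injective _).2 h
      exact IsZero.of_iso (isZero_kernel_of_mono _) (PreservesKernel.iso L a)
    · rw [← AddCommGrpCat.mono_iff_injective]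
      exact Preadditive.mono_of_isZero_kernel _ (IsZero.of_iso h (PreservesKernel.iso L a).symm)
  · rw [← Function.Surjective.of_comp_iff' hi, ← hcomp, mem_supp_iff, not_not]
    refine (Function.Surjective.of_comp_iff (L.map a) hb.2).trans ⟨fun h => ?_, fun h => ?_⟩
    · haveI : Epi (L.map a) := (AddCommGrpCat.epi_iff_surjective _).2 h
      exact IsZero.of_iso (isZero_cokernel_of_epi _) (PreservesCokernel.iso L a)
    · rw [← AddCommGrpCat.epi_iff_surjective]
      exact Preadditive.epi_of_isZero_cokernel _ (IsZero.of_iso h (PreservesCokernel.iso L a).symm)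

/-- Goodness can be tested at one geometric point. -/
theorem mem_goodSet {F : EtCoh.Ab X} {U : X.Etale} {M : Type (u + 1)} [AddCommGroup M]
    {m : M →+ F.obj.obj (op U)} {Ω : Type u} [Field Ω] [IsSepClosed Ω] {ξ : Spec (CommRingCat.of Ω) ⟶ X}
    {φ : (Scheme.pointSmallEtale ξ).fiber.obj U} {y : U.left}
    (hy : φ.left (default : Spec (CommRingCat.of Ω)) = y)
    (h : Function.Bijective fun x => germ ξ F U φ (m x)) : y ∈ goodSet F U m := by
  obtain ⟨a, ha⟩ := exists_sectMap F U m
  intro Ω' _ _ ξ' φ' hy'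
  obtain ⟨h1, h2⟩ := ha Ω ξ φ
  obtain ⟨h1', h2'⟩ := ha Ω' ξ' φ'
  rw [hy] at h1 h2
  rw [hy'] at h1' h2'
  exact ⟨h1'.2 (h1.1 h.1), h2'.2 (h2.1 h.2)⟩

/-- Injectivity can be tested at one geometric point. -/
theorem mem_injSet {F : EtCoh.Ab X} {U : X.Etale} {M : Type (u + 1)} [AddCommGroup M]
    {m : M →+ F.obj.obj (op U)} {Ω : Type u} [Field Ω] [IsSepClosed Ω] {ξ : Spec (CommRingCat.of Ω) ⟶ X}
    {φ : (Scheme.pointSmallEtale ξ).fiber.obj U} {y : U.left}
    (hy : φ.left (default : Spec (CommRingCat.of Ω)) = y)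
    (h : Function.Injective fun x => germ ξ F U φ (m x)) : y ∈ injSet F U m := by
  obtain ⟨a, ha⟩ := exists_sectMap F U m
  intro Ω' _ _ ξ' φ' hy'
  have h1 := (ha Ω ξ φ).1
  have h1' := (ha Ω' ξ' φ').1
  rw [hy] at h1
  rw [hy'] at h1'
  exact h1'.2 (h1.1 h)

/-- A finite stalk is given by sections over an affine neighbourhood inside a given open. -/
theorem exists_stalk_sect (F : EtCoh.Ab X) {Ω : Type u} [Field Ω] [IsSepClosed Ω]
    (ξ : Spec (CommRingCat.of Ω) ⟶ X) [Finite ↑((EtCoh.stalk ξ).obj F)] :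
    ∃ (U : X.Etale) (_ : IsAffine U.left) (φ : (Scheme.pointSmallEtale ξ).fiber.obj U)
      (m : ↑((EtCoh.stalk ξ).obj F) →+ F.obj.obj (op U)), ∀ q, germ ξ F U φ (m q) = q := by
  classical
  let M := ↑((EtCoh.stalk ξ).obj F)
  cases nonempty_fintype M
  let e := Fintype.equivFin M
  obtain ⟨φ₀, -⟩ := exists_fiber_point ξ (EtCoh.top X) (ξ default) rfl
  obtain ⟨W, g, w, s, -, hs⟩ := exists_common_nbhd φ₀ F fun k => e.symm k
  obtain ⟨W₂, g₂, w₂, hw₂, he⟩ := exists_nbhd_eq_of_finite F w
    (fun p : M × M => s (e (p.1 + p.2))) (fun p => s (e p.1) + s (e p.2)) fun p => by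
      rw [map_add (germ ξ F W w).hom, hs, hs, hs, Equiv.symm_apply_apply, Equiv.symm_apply_apply, Equiv.symm_apply_apply]
  obtain ⟨U, hU, φ, g₃, hφ⟩ := EtModWLib.exists_affine_nbhd ξ w₂
  refine ⟨U, hU, φ, AddMonoidHom.mk' (fun q => F.obj.map g₃.op (F.obj.map g₂.op (s (e q)))) (fun q q' => ?_),
    fun q => ?_⟩
  · rw [he (q, q'), map_add, map_add]
  · show germ ξ F U φ (F.obj.map g₃.op (F.obj.map g₂.op (s (e q)))) = q
    rw [germ_res, hφ, germ_res, hw₂, hs, Equiv.symm_apply_apply]

/-- Finite local constancy on an immersed subscheme covered by good points. -/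
theorem isFLC_pull_of_goodSet (F : EtCoh.Ab X) {U : X.Etale} {M : Type (u + 1)} [AddCommGroup M] [Finite M]
    (m : M →+ F.obj.obj (op U)) {T : Scheme.{u}} (g : T ⟶ X) [IsPreimmersion g]
    (hT : ∀ t, ∃ v ∈ goodSet F U m, U.hom v = g t) (hgood : ∀ v, U.hom v ∈ Set.range g → v ∈ goodSet F U m) :
    EtCoh.IsFiniteLocallyConstant ((EtCoh.pull g).obj F) := by
  refine isFLC_of_isTriv fun Ω _ _ η => ?_
  obtain ⟨v, -, hv⟩ := hT (η default)
  obtain ⟨φ, -⟩ := exists_fiber_point (η ≫ g) U v (hv.trans (Scheme.Hom.comp_apply _ _ _).symm)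
  refine ⟨(EtCoh.bc g).obj U, fiberBcEquiv g η U φ, M, inferInstance, inferInstance, (pullSect g F U).comp m,
    fun Ω' _ _ ζ ψ => ?_⟩
  obtain ⟨ψ₀, rfl⟩ := (fiberBcEquiv g ζ U).surjective ψ
  simp only [AddMonoidHom.comp_apply, germ_pullSect]
  refine (ConcreteCategory.bijective_of_isIso ((stalkPullIso g ζ).inv.app F)).comp
    (hgood (ψ₀.left (default : Spec (CommRingCat.of Ω'))) ⟨ζ default, ?_⟩ Ω' (ζ ≫ g) ψ₀ rfl)
  exact ((congrArg (fun k : Spec (CommRingCat.of Ω') ⟶ X => k default) (Over.w ψ₀)).trans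
    (Scheme.Hom.comp_apply _ _ _)).symm

/-- If the good points contain an open neighbourhood, the sheaf is finite locally constant near its image. -/
theorem exists_open_flc_of_goodSet (F : EtCoh.Ab X) {U : X.Etale} {M : Type (u + 1)} [AddCommGroup M]
    [Finite M] (m : M →+ F.obj.obj (op U)) (O : U.left.Opens) (hO : ∀ v ∈ O, v ∈ goodSet F U m) :
    ∃ V : X.Opens, (∀ v ∈ O, U.hom v ∈ V) ∧ EtCoh.IsFiniteLocallyConstant ((EtCoh.pull V.ι).obj F) := by
  haveI : Etale U.hom := U.prop
  let V : X.Opens := ⟨U.hom '' (O : Set U.left), U.hom.isOpenMap _ O.2⟩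
  refine ⟨V, fun v hv => ⟨v, hv, rfl⟩, isFLC_pull_of_goodSet F ((F.obj.map (pieceHom U O).op).hom.comp m) V.ι
    (fun t => ?_) fun v _ Ω _ _ ξ φ _ => ?_⟩
  · obtain ⟨v, hv, hvt⟩ := t.2
    refine ⟨⟨v, hv⟩, fun Ω _ _ ξ φ _ => ?_, hvt⟩
    have hb := hO _ (φ.left (default : Spec (CommRingCat.of Ω))).2 Ω ξ
      ((Scheme.pointSmallEtale ξ).fiber.map (pieceHom U O) φ) rfl
    simpa only [AddMonoidHom.comp_apply, germ_res] using hb
  · have hb := hO _ (φ.left (default : Spec (CommRingCat.of Ω))).2 Ω ξ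
      ((Scheme.pointSmallEtale ξ).fiber.map (pieceHom U O) φ) rfl
    simpa only [AddMonoidHom.comp_apply, germ_res] using hb

end Groth.Agent.EtConsAb
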