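import Groth.Agent.EtConsAb.Gen
import Groth.Agent.EtaleSite.Pull

/-!
# Constructibility descends along surjective families
-/

set_option linter.style.haveILetI false

universe u

open CategoryTheory CategoryTheory.Limits AlgebraicGeometry Opposite Topology

noncomputable section

namespace Groth.Agent.EtConsAb

open Groth.Agent Groth.Agent.EtaleSite

variable {Y : Scheme.{u}}

theorem finite_stalk_of_pull_family {F : EtCoh.Ab Y} {ι : Type*} (X : ι → Scheme.{u}) (f : ∀ i, X i ⟶ Y)
    (hsurj : ∀ y : Y, ∃ i x, f i x = y) (h : ∀ i, EtPBC.IsConstructible ((EtCoh.pull (f i)).obj F))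
    {Ω : Type u} [Field Ω] [IsSepClosed Ω] (ξ : Spec (CommRingCat.of Ω) ⟶ Y) :
    Finite ((EtCoh.stalk ξ).obj F) := by
  obtain ⟨i, x, hx⟩ := hsurj (ξ default)
  let η := geomPointAt (X i) x
  haveI := finite_stalk_of_isConstructible (h i) η
  have h1 : Finite ((EtCoh.stalk (η ≫ f i)).obj F) :=
    @Finite.of_equiv _ _ ‹_› ((stalkPullIso (f i) η).app F).addCommGroupIsoToAddEquiv.toEquiv
  obtain ⟨e₁⟩ := nonempty_stalk_iso_geomPointAt (η ≫ f i)
  obtain ⟨e₂⟩ := nonempty_stalk_iso_geomPointAt ξ
  have hd : (η ≫ f i) default = ξ default := by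
    rw [Scheme.Hom.comp_apply, geomPointAt_apply, hx]
  have h2 : Finite ((EtCoh.stalk (geomPointAt Y (ξ default))).obj F) := by
    rw [← hd]
    exact Finite.of_equiv _ (e₁.app F).addCommGroupIsoToAddEquiv.toEquiv
  exact Finite.of_equiv _ (e₂.app F).addCommGroupIsoToAddEquiv.symm.toEquiv

/-- Sheaves becoming constructible on a finite surjective family are finitely generated. -/
theorem exists_genπ_epi_of_family [CompactSpace Y] [QuasiSeparatedSpace Y] {F : EtCoh.Ab Y} {ι : Type*}
    [Finite ι] (X : ι → Scheme.{u}) [∀ i, CompactSpace (X i)] [∀ i, QuasiSeparatedSpace (X i)]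
    (f : ∀ i, X i ⟶ Y) (hsurj : ∀ y : Y, ∃ i x, f i x = y)
    (h : ∀ i, EtPBC.IsConstructible ((EtCoh.pull (f i)).obj F)) :
    ∃ S : Finset (Gen F), Epi (genπ S) := by
  classical
  have hfin := fun (Ω : Type u) [Field Ω] [IsSepClosed Ω] (ξ : Spec (CommRingCat.of Ω) ⟶ Y) =>
    finite_stalk_of_pull_family X f hsurj h ξ
  have hT : EtCoh.IsTorsion F := isTorsion_of_finite_stalk hfin
  have hy : ∀ y : Y, ∃ S : Finset (Gen F),
      Function.Surjective ((EtCoh.stalk (geomPointAt Y y)).map (genπ S)) := fun y => by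
    haveI := hfin _ (geomPointAt Y y)
    cases nonempty_fintype ↑((EtCoh.stalk (geomPointAt Y y)).obj F)
    choose g φ hgq using exists_gen_germ hT (geomPointAt Y y)
    refine ⟨Finset.univ.image g, fun q => ?_⟩
    obtain ⟨z, hz⟩ := germ_mem_range_genπ (Finset.univ.image g)
      ⟨g q, Finset.mem_image_of_mem _ (Finset.mem_univ q)⟩ (geomPointAt Y y) (φ q)
    exact ⟨z, hz.trans (hgq q)⟩
  choose S hS using hy
  have hsupp : ∀ (T : Finset (Gen F)) {Ω : Type u} [Field Ω] [IsSepClosed Ω]
      (ξ : Spec (CommRingCat.of Ω) ⟶ Y),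
      Function.Surjective ((EtCoh.stalk ξ).map (genπ T)) ↔ ξ default ∉ EtPBC.supp (cokernel (genπ T)) := by
    intro T Ω _ _ ξ
    rw [mem_supp_iff, not_not, ← AddCommGrpCat.epi_iff_surjective]
    exact ⟨fun _ => IsZero.of_iso (isZero_cokernel_of_epi _) (PreservesCokernel.iso (EtCoh.stalk ξ) (genπ T)),
      fun h => Preadditive.epi_of_isZero_cokernel _
        (IsZero.of_iso h (PreservesCokernel.iso (EtCoh.stalk ξ) (genπ T)).symm)⟩
  have hc : ∀ i T, IsConstructible ((f i ⁻¹' EtPBC.supp (cokernel (genπ T)))ᶜ) := fun i T => by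
    rw [← supp_pull]
    refine isConstructible_compl.2 (isConstructible_supp_of_strataCover (strataCover_of_isConstructible ?_))
    exact isConstructible_of_iso (PreservesCokernel.iso (EtCoh.pull (f i)) (genπ T)).symm
      (isConstructible_cokernel _ (isConstructible_pull (f i) (isConstructible_genSum T)) (h i))
  have hsub : ∀ i, ∃ t : Finset (X i),
      (⋃ x ∈ t, (f i ⁻¹' EtPBC.supp (cokernel (genπ (S (f i x)))))ᶜ) = Set.univ := fun i =>
    exists_finite_subcover_of_isConstructible _ (fun x => hc i _)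
      (Set.eq_univ_of_forall fun x => Set.mem_iUnion.2 ⟨x, by
        have := (hsupp _ (geomPointAt Y (f i x))).1 (hS (f i x))
        rwa [geomPointAt_apply] at this⟩)
  choose t ht using hsub
  cases nonempty_fintype ι
  let S' : Finset (Gen F) := Finset.univ.biUnion fun i => (t i).biUnion fun x => S (f i x)
  refine ⟨S', (epi_iff_stalk _).2 fun Ω _ _ ξ q => ?_⟩
  obtain ⟨i, x, hx⟩ := hsurj (ξ default)
  obtain ⟨z, hz, hxz⟩ := Set.mem_iUnion₂.1 ((ht i).ge (Set.mem_univ x))
  have hxz' : ξ default ∉ EtPBC.supp (cokernel (genπ (S (f i z)))) := hx ▸ hxz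
  obtain ⟨y, rfl⟩ := (hsupp _ ξ).2 hxz' q
  have hle : S (f i z) ⊆ S' := fun g hg =>
    Finset.mem_biUnion.2 ⟨i, Finset.mem_univ i, Finset.mem_biUnion.2 ⟨z, hz, hg⟩⟩
  refine ⟨(EtCoh.stalk ξ).map (biproduct.desc fun g : S (f i z) =>
    biproduct.ι (fun g : S' => g.1.src) ⟨g.1, hle g.2⟩) y, ?_⟩
  rw [← ConcreteCategory.comp_apply, ← Functor.map_comp]
  congr 2
  exact congrArg _ (biproduct.hom_ext' _ _ fun g => by simp)

/-- Constructibility descends along a finite surjective family of quasi-compact quasi-separated schemes. -/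
theorem isConstructible_of_pull_family [CompactSpace Y] [QuasiSeparatedSpace Y] {F : EtCoh.Ab Y} {ι : Type*}
    [Finite ι] (X : ι → Scheme.{u}) [∀ i, CompactSpace (X i)] [∀ i, QuasiSeparatedSpace (X i)]
    (f : ∀ i, X i ⟶ Y) (hsurj : ∀ y : Y, ∃ i x, f i x = y)
    (h : ∀ i, EtPBC.IsConstructible ((EtCoh.pull (f i)).obj F)) : EtPBC.IsConstructible F := by
  obtain ⟨S, hS⟩ := exists_genπ_epi_of_family X f hsurj h
  obtain ⟨R, hR⟩ := exists_genπ_epi_of_family X f hsurj (F := kernel (genπ S)) fun i =>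
    isConstructible_of_iso (PreservesKernel.iso (EtCoh.pull (f i)) (genπ S)).symm
      (isConstructible_kernel _ (isConstructible_pull (f i) (isConstructible_genSum S)) (h i))
  have w : (genπ R ≫ kernel.ι (genπ S)) ≫ genπ S = 0 := by
    rw [Category.assoc, kernel.condition, comp_zero]
  have hc : IsColimit (CokernelCofork.ofπ (genπ S) w) := by
    refine CokernelCofork.IsColimit.ofπ _ _
      (fun φ hφ => (Abelian.epiIsCokernelOfKernel (KernelFork.ofι (kernel.ι (genπ S)) (kernel.condition _))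
        (kernelIsKernel (genπ S))).desc (CokernelCofork.ofπ φ (by
          rw [Category.assoc, ← comp_zero (f := genπ R)] at hφ
          exact (cancel_epi (genπ R)).1 hφ)))
      (fun φ hφ => ?_) fun φ hφ m hm => ?_
    · exact (Abelian.epiIsCokernelOfKernel (KernelFork.ofι (kernel.ι (genπ S)) (kernel.condition _))
        (kernelIsKernel (genπ S))).fac _ WalkingParallelPair.one
    · refine (cancel_epi (genπ S)).1 (hm.trans ?_)
      exact ((Abelian.epiIsCokernelOfKernel (KernelFork.ofι (kernel.ι (genπ S)) (kernel.condition _))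
        (kernelIsKernel (genπ S))).fac (CokernelCofork.ofπ φ _) WalkingParallelPair.one).symm
  exact isConstructible_of_iso ((cokernelIsCokernel _).coconePointUniqueUpToIso hc)
    (isConstructible_cokernel _ (isConstructible_genSum R) (isConstructible_genSum S))

end Groth.Agent.EtConsAb
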